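import Mathlib
import Cfsg.Agent.CharBasics.Central
import Cfsg.Agent.Invol.Counting

/-!
Groups with an involution centraliser that is generalised dihedral over a trivial intersection abelian subgroup:
elementary facts.
-/

set_option autoImplicit false

namespace CfsgLib.BSW

open CfsgLib.Invol

universe u

variable {G : Type u} [Group G]

/-- The centraliser of an element. -/
abbrev cz (g : G) : Subgroup G := Subgroup.centralizer ({g} : Set G)

theorem mem_cz {g x : G} : x ∈ cz g ↔ x * g = g * x := Subgroup.mem_centralizer_singleton_iff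

theorem mem_cz_comm {g x : G} : x ∈ cz g ↔ g ∈ cz x := by rw [mem_cz, mem_cz, eq_comm]

theorem cz_conj {g x : G} (c : G) : c * x * c⁻¹ ∈ cz (c * g * c⁻¹) ↔ x ∈ cz g := by
  rw [mem_cz, mem_cz, show c * x * c⁻¹ * (c * g * c⁻¹) = c * (x * g) * c⁻¹ by group,
    show c * g * c⁻¹ * (c * x * c⁻¹) = c * (g * x) * c⁻¹ by group]
  exact ⟨fun h => mul_left_cancel (mul_right_cancel h), fun h => by rw [h]⟩

/-- The hypotheses. -/
structure Hyp (t s : G) (K : Subgroup G) : Prop where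
  ht : orderOf t = 2
  ab : ∀ x ∈ K, ∀ y ∈ K, x * y = y * x
  le : K ≤ cz t
  htK : t ∈ K
  hs : orderOf s = 2
  hsH : s ∈ cz t
  hsK : s ∉ K
  hH : K ⊔ Subgroup.zpowers s = cz t
  hCK : K ⊓ cz s = Subgroup.zpowers t
  hinv : ∀ x ∈ K, s * x * s⁻¹ = x⁻¹
  hTI : ∀ g : G, g ∉ cz t → K ⊓ K.map (MulAut.conj g).toMonoidHom = ⊥
  hconj : ∀ x y : G, orderOf x = 2 → orderOf y = 2 → IsConj x y

/-- Being conjugate to an element of `K`. -/
def IsConjIn (K : Subgroup G) (g : G) : Prop := ∃ c : G, c * g * c⁻¹ ∈ K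

theorem isConjIn_conj {K : Subgroup G} {g : G} (c : G) : IsConjIn K (c * g * c⁻¹) ↔ IsConjIn K g := by
  constructor
  · rintro ⟨d, hd⟩
    exact ⟨d * c, by convert hd using 1; group⟩
  · rintro ⟨d, hd⟩
    exact ⟨d * c⁻¹, by convert hd using 1; group⟩

/-- The elements outside all conjugates of `K`. -/
def Wild (K : Subgroup G) (g : G) : Prop := g ≠ 1 ∧ ¬ IsConjIn K g

theorem wild_conj {K : Subgroup G} {g : G} (c : G) : Wild K (c * g * c⁻¹) ↔ Wild K g := by
  simp [Wild, isConjIn_conj c]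

/-- Being inverted by an involution. -/
def Inverted (g : G) : Prop := ∃ i : G, orderOf i = 2 ∧ i * g * i⁻¹ = g⁻¹

theorem inverted_conj {g : G} (c : G) (h : Inverted g) : Inverted (c * g * c⁻¹) := by
  obtain ⟨i, hi, hig⟩ := h
  refine ⟨c * i * c⁻¹, (orderOf_conj c i).trans hi, ?_⟩
  calc c * i * c⁻¹ * (c * g * c⁻¹) * (c * i * c⁻¹)⁻¹ = c * (i * g * i⁻¹) * c⁻¹ := by group
    _ = (c * g * c⁻¹)⁻¹ := by rw [hig]; group

namespace Hyp

variable {t s : G} {K : Subgroup G} (D : Hyp t s K)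
include D

theorem s_inv : s⁻¹ = s := inv_eq_of_orderOf D.hs

theorem t_ne_one : t ≠ 1 := ne_one_of_orderOf D.ht

theorem s_conj {x : G} (hx : x ∈ K) : s * x = x⁻¹ * s := by
  rw [← D.hinv x hx, inv_mul_cancel_right]

theorem cases {h : G} (hh : h ∈ cz t) : h ∈ K ∨ s * h ∈ K := by
  rw [← D.hH, Subgroup.sup_eq_closure] at hh
  have hss : s * s = 1 := mul_self_of_orderOf D.hs
  induction hh using Subgroup.closure_induction with
  | mem x hx =>
    rcases hx with hx | hx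
    · exact Or.inl hx
    · obtain ⟨j, rfl⟩ := Subgroup.mem_zpowers_iff.1 hx
      rcases Int.even_or_odd' j with ⟨a, rfl | rfl⟩
      · left; rw [zpow_mul, show s ^ (2 : ℤ) = 1 by rw [zpow_two, hss], one_zpow]; exact one_mem K
      · right; rw [zpow_add, zpow_mul, show s ^ (2 : ℤ) = 1 by rw [zpow_two, hss], one_zpow, one_mul, zpow_one, hss]
        exact one_mem K
  | one => exact Or.inl (one_mem K)
  | mul a b _ _ ha hb =>
    rcases ha with ha | ha <;> rcases hb with hb | hb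
    · exact Or.inl (mul_mem ha hb)
    · right
      rw [← mul_assoc, D.s_conj ha, mul_assoc]
      exact mul_mem (inv_mem ha) hb
    · right
      rw [← mul_assoc]; exact mul_mem ha hb
    · left
      have e : a * b = (s * a)⁻¹ * (s * b) := by
        have := D.s_conj ha
        calc a * b = s * (s * a) * b := by rw [← mul_assoc s s a, hss, one_mul]
          _ = (s * a)⁻¹ * s * b := by rw [this]
          _ = _ := by group
      rw [e]; exact mul_mem (inv_mem ha) hb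
  | inv a _ ha =>
    rcases ha with ha | ha
    · exact Or.inl (inv_mem ha)
    · right
      have h1 := D.s_conj (inv_mem ha)
      rw [inv_inv, mul_inv_rev, D.s_inv] at h1
      have h2 : s * a⁻¹ = s * a := by
        calc s * a⁻¹ = s * (a⁻¹ * s) * s := by rw [mul_assoc, mul_assoc a⁻¹, hss, mul_one]
          _ = s * a * s * s := by rw [h1]
          _ = s * a := by rw [mul_assoc, hss, mul_one]
      rw [h2]; exact ha

theorem not_mem_K {h : G} (hh : h ∈ cz t) (hK : h ∉ K) :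
    h * h = 1 ∧ ∀ x ∈ K, h * x * h⁻¹ = x⁻¹ := by
  have hs' := (D.cases hh).resolve_left hK
  obtain ⟨y, hy, rfl⟩ : ∃ y ∈ K, h = s * y :=
    ⟨s * h, hs', by rw [← mul_assoc, mul_self_of_orderOf D.hs, one_mul]⟩
  refine ⟨?_, fun x hx => ?_⟩
  · rw [mul_assoc, ← mul_assoc y, ← mul_assoc, ← mul_assoc]
    calc s * y * s * y = s * y * s⁻¹ * y := by rw [D.s_inv]
      _ = 1 := by rw [D.hinv y hy, inv_mul_cancel]
  · calc s * y * x * (s * y)⁻¹ = s * (y * x * y⁻¹) * s⁻¹ := by group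
      _ = x⁻¹ := by rw [D.ab y hy x hx, mul_inv_cancel_right, D.hinv x hx]

theorem conj_mem {h x : G} (hh : h ∈ cz t) (hx : x ∈ K) : h * x * h⁻¹ ∈ K := by
  by_cases hK : h ∈ K
  · exact mul_mem (mul_mem hK hx) (inv_mem hK)
  · rw [(D.not_mem_K hh hK).2 x hx]; exact inv_mem hx

theorem ti {g x : G} (hx : x ∈ K) (hx1 : x ≠ 1) (hg : g * x * g⁻¹ ∈ K) : g ∈ cz t := by
  by_contra hgt
  have h := D.hTI g hgt
  have : g * x * g⁻¹ ∈ K ⊓ K.map (MulAut.conj g).toMonoidHom :=
    Subgroup.mem_inf.2 ⟨hg, Subgroup.mem_map.2 ⟨x, hx, rfl⟩⟩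
  rw [h, Subgroup.mem_bot] at this
  exact hx1 (conj_eq_one_iff.1 this)

theorem cz_le {x : G} (hx : x ∈ K) (hx1 : x ≠ 1) : cz x ≤ cz t := fun g hg =>
  D.ti hx hx1 (by rw [mem_cz.1 hg, mul_inv_cancel_right]; exact hx)

theorem cz_eq {x : G} (hx : x ∈ K) (hx2 : x * x ≠ 1) : cz x = K := by
  refine le_antisymm (fun g hg => ?_) (fun g hg => mem_cz.2 (D.ab g hg x hx))
  by_contra hgK
  refine hx2 ?_
  have h1 := (D.not_mem_K (D.cz_le hx (fun h => hx2 (by rw [h, one_mul])) hg) hgK).2 x hx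
  rw [mem_cz.1 hg, mul_inv_cancel_right] at h1
  nth_rewrite 1 [h1]
  exact inv_mul_cancel x

theorem sq_eq_one {x : G} (hx : x ∈ K) (h2 : x * x = 1) : x = 1 ∨ x = t := by
  have h1 : x ∈ Subgroup.zpowers t := by
    rw [← D.hCK]
    refine Subgroup.mem_inf.2 ⟨hx, mem_cz.2 ?_⟩
    rw [D.s_conj hx, inv_eq_of_mul_eq_one_right h2]
  obtain ⟨j, rfl⟩ := Subgroup.mem_zpowers_iff.1 h1
  rcases Int.even_or_odd' j with ⟨a, rfl | rfl⟩
  · left; rw [zpow_mul, zpow_two, mul_self_of_orderOf D.ht, one_zpow]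
  · right; rw [zpow_add, zpow_mul, zpow_two, mul_self_of_orderOf D.ht, one_zpow, one_mul, zpow_one]

theorem invol_isConjIn {y : G} (hy : orderOf y = 2) : IsConjIn K y := by
  obtain ⟨c, hc⟩ := isConj_iff.1 (D.hconj y t hy D.ht)
  exact ⟨c, hc ▸ D.htK⟩

theorem mem_cz_isConjIn {i y : G} (hi : orderOf i = 2) (hy : y ∈ cz i) : IsConjIn K y := by
  obtain ⟨c, hc⟩ := isConj_iff.1 (D.hconj i t hi D.ht)
  refine (isConjIn_conj c).1 ?_
  have h := (cz_conj c).2 hy
  rw [hc] at h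
  by_cases hK : c * y * c⁻¹ ∈ K
  · exact ⟨1, by simpa using hK⟩
  · exact D.invol_isConjIn (orderOf_eq_two (D.not_mem_K h hK).1 (fun e => hK (e ▸ one_mem K)))

theorem wild_commute {g y : G} (hg : Wild K g) (hy : y ≠ 1) (hc : y ∈ cz g) : Wild K y := by
  refine ⟨hy, fun ⟨c, hcy⟩ => hg.2 ?_⟩
  have h1 : c * g * c⁻¹ ∈ cz t :=
    D.cz_le hcy (fun e => hy (conj_eq_one_iff.1 e)) ((cz_conj c).2 (mem_cz_comm.1 hc))
  exact (isConjIn_conj c).1 (D.mem_cz_isConjIn D.ht h1)

theorem wild_sq {g : G} (hg : Wild K g) : g * g ≠ 1 := fun h =>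
  hg.2 (D.invol_isConjIn (orderOf_eq_two h hg.1))

theorem wild_inv {g : G} (hg : Wild K g) : Wild K g⁻¹ :=
  D.wild_commute hg (inv_ne_one.2 hg.1) (mem_cz.2 (by group))

theorem odd_cz [Finite G] {g : G} (hg : Wild K g) : Odd (Nat.card (cz g)) := by
  rw [Nat.odd_iff]
  by_contra h
  haveI := Fact.mk Nat.prime_two
  obtain ⟨y, hy⟩ := exists_prime_orderOf_dvd_card' (G := cz g) 2 (by omega)
  have hy' : orderOf (y : G) = 2 := by rwa [Subgroup.orderOf_coe]
  exact (D.wild_commute hg (ne_one_of_orderOf hy') y.2).2 (D.invol_isConjIn hy')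

theorem inverts_cz [Finite G] {g i : G} (hg : Wild K g) (hi : orderOf i = 2) (hig : i * g * i⁻¹ = g⁻¹) :
    (∀ y ∈ cz g, i * y * i⁻¹ = y⁻¹) ∧ ∀ x ∈ cz g, ∀ y ∈ cz g, x * y = y * x := by
  have hinvg : ∀ y ∈ cz g, i * y * i⁻¹ ∈ cz g := fun y hy => by
    have h := (cz_conj i).2 hy
    rw [hig] at h
    rw [mem_cz] at h ⊢
    calc i * y * i⁻¹ * g = g * (g⁻¹ * (i * y * i⁻¹)) * g := by group
      _ = g * (i * y * i⁻¹ * g⁻¹) * g := by rw [h]
      _ = g * (i * y * i⁻¹) := by group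
  let φ : cz g →* cz g :=
    { toFun := fun y => ⟨i * y * i⁻¹, hinvg y y.2⟩
      map_one' := Subtype.ext (by simp)
      map_mul' := fun a b => Subtype.ext (by simp [mul_assoc]) }
  have h2 : Function.Involutive φ := fun y => Subtype.ext (by
    show i * (i * (y : G) * i⁻¹) * i⁻¹ = y
    calc i * (i * (y : G) * i⁻¹) * i⁻¹ = (i * i) * (y : G) * (i * i)⁻¹ := by group
      _ = _ := by rw [mul_self_of_orderOf hi]; simp)
  have hf : MonoidHom.FixedPointFree φ := by
    intro y hy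
    by_contra hy1
    have h1 : i * (y : G) * i⁻¹ = y := congrArg Subtype.val hy
    exact (D.wild_commute hg (fun e => hy1 (Subtype.ext e)) y.2).2
      (D.mem_cz_isConjIn hi (mem_cz.2 (mul_inv_eq_iff_eq_mul.1 h1).symm))
  exact ⟨fun y hy => congrArg Subtype.val (congrFun (hf.coe_eq_inv_of_involutive h2) ⟨y, hy⟩),
    fun x hx y hy => congrArg Subtype.val (hf.commute_all_of_involutive h2 ⟨x, hx⟩ ⟨y, hy⟩)⟩

theorem inverted_cz [Finite G] {g : G} (hg : Wild K g) (hr : Inverted g) {y : G} (hy : y ∈ cz g) (hy1 : y ≠ 1) :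
    Inverted y ∧ cz y = cz g := by
  obtain ⟨i, hi, hig⟩ := hr
  obtain ⟨hinv, hab⟩ := D.inverts_cz hg hi hig
  have hr' : Inverted y := ⟨i, hi, hinv y hy⟩
  have hab' := (D.inverts_cz (D.wild_commute hg hy1 hy) hi (hinv y hy)).2
  exact ⟨hr', le_antisymm (fun x hx => mem_cz.2 (hab' x hx g (mem_cz_comm.1 hy)))
    (fun x hx => mem_cz.2 (hab x hx y hy))⟩

theorem inverted_of_conj [Finite G] {g m : G} (hg : Wild K g) (hm : m * g * m⁻¹ = g⁻¹) : Inverted g := by
  have hm2 : m * m ∈ cz g := mem_cz.2 <| by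
    have h : m * (m * g * m⁻¹) * m⁻¹ = g := by
      rw [hm]
      calc m * g⁻¹ * m⁻¹ = (m * g * m⁻¹)⁻¹ := by group
        _ = g := by rw [hm, inv_inv]
    calc m * m * g = m * (m * g * m⁻¹) * m⁻¹ * (m * m) := by group
      _ = g * (m * m) := by rw [h]
  have hmC : m ∉ cz g := fun h => D.wild_sq hg (by
    rw [mem_cz.1 h, mul_inv_cancel_right] at hm
    nth_rewrite 1 [hm]
    exact inv_mul_cancel g)
  have hodd : Odd (orderOf (m * m)) := by
    rw [← Subgroup.orderOf_mk (G := G) (H := cz g) (m * m) hm2]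
    exact (D.odd_cz hg).of_dvd_nat (orderOf_dvd_natCard _)
  obtain ⟨a, ha⟩ := hodd
  refine ⟨m ^ (2 * a + 1), orderOf_eq_two ?_ ?_, ?_⟩
  · rw [← pow_add, ← two_mul, pow_mul, pow_two, ← ha, pow_orderOf_eq_one]
  · intro h
    refine hmC ?_
    have e : m = ((m * m) ^ a)⁻¹ := by
      rw [eq_inv_iff_mul_eq_one, ← pow_two, ← pow_mul, ← pow_succ', h]
    rw [e]; exact inv_mem (pow_mem hm2 a)
  · have h1 : (m * m) ^ a ∈ cz g := pow_mem hm2 a
    rw [pow_succ', pow_mul, pow_two]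
    calc m * (m * m) ^ a * g * (m * (m * m) ^ a)⁻¹ = m * ((m * m) ^ a * g * ((m * m) ^ a)⁻¹) * m⁻¹ := by group
      _ = g⁻¹ := by rw [mem_cz.1 h1, mul_inv_cancel_right, hm]

variable [Finite G]

theorem card_pairs_inverted {g : G} (hg : Wild K g) (hr : Inverted g) :
    Nat.card {p : G × G // orderOf p.1 = 2 ∧ orderOf p.2 = 2 ∧ p.1 * p.2 = g} = Nat.card (cz g) := by
  obtain ⟨i, hi, hig⟩ := hr
  rw [card_pairs_eq g hg.1 (by rw [pow_two]; exact D.wild_sq hg),
    ← card_real_eq_centralizer g (isConj_iff.2 ⟨i, hig⟩)]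
  refine Nat.card_congr (Equiv.subtypeEquivRight fun x => and_iff_right_of_imp fun hx => ?_)
  have hy : i⁻¹ * x ∈ cz g := mem_cz.2 <| by
    calc i⁻¹ * x * g = i⁻¹ * (x * g * x⁻¹) * x := by group
      _ = i⁻¹ * (i * g * i⁻¹) * x := by rw [hx, hig]
      _ = g * (i⁻¹ * x) := by group
  have hinv := (D.inverts_cz hg hi hig).1 _ hy
  refine orderOf_eq_two ?_ ?_
  · calc x * x = (i * (i⁻¹ * x) * i⁻¹) * (i * i) * (i⁻¹ * x) := by group
      _ = 1 := by rw [hinv, mul_self_of_orderOf hi, mul_one, inv_mul_cancel]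
  · rintro rfl
    refine D.wild_sq hg ?_
    simp only [one_mul, inv_one, mul_one] at hx
    nth_rewrite 1 [hx]
    exact inv_mul_cancel g

theorem card_pairs_not_inverted {g : G} (hg : Wild K g) (hr : ¬ Inverted g) :
    Nat.card {p : G × G // orderOf p.1 = 2 ∧ orderOf p.2 = 2 ∧ p.1 * p.2 = g} = 0 := by
  rw [card_pairs_eq g hg.1 (by rw [pow_two]; exact D.wild_sq hg)]
  haveI : IsEmpty {x : G // orderOf x = 2 ∧ x * g * x⁻¹ = g⁻¹} := ⟨fun x => hr ⟨x.1, x.2⟩⟩
  exact Nat.card_of_isEmpty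

omit [Finite G] in
theorem sK_invol {x : G} (hx : x ∈ K) : orderOf (s * x) = 2 := by
  have hK : s * x ∉ K := fun h => D.hsK (by simpa using mul_mem h (inv_mem hx))
  exact orderOf_eq_two (D.not_mem_K (mul_mem D.hsH (D.le hx)) hK).1 fun e => hK (e ▸ one_mem K)

omit [Finite G] in
theorem card_cz : Nat.card (cz t) = 2 * Nat.card K := by
  have hb : Function.Bijective (fun p : Bool × K =>
      if p.1 then (⟨s * p.2, mul_mem D.hsH (D.le p.2.2)⟩ : cz t) else ⟨p.2, D.le p.2.2⟩) := by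
    refine ⟨?_, fun h => ?_⟩
    · rintro ⟨a, x⟩ ⟨b, y⟩ h
      cases a <;> cases b <;> simp only [Bool.false_eq_true, ↓reduceIte, Subtype.mk.injEq] at h
      · rw [Subtype.ext h]
      · exact absurd (by simpa using mul_mem (show s * (y : G) ∈ K from h ▸ x.2) (inv_mem y.2)) D.hsK
      · exact absurd (by simpa using mul_mem (show s * (x : G) ∈ K from h.symm ▸ y.2) (inv_mem x.2)) D.hsK
      · rw [Subtype.ext (mul_left_cancel h)]
    · rcases D.cases h.2 with hK | hK
      · exact ⟨(false, ⟨h, hK⟩), rfl⟩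
      · exact ⟨(true, ⟨s * h, hK⟩), Subtype.ext (by
          show s * (s * (h : G)) = h
          rw [← mul_assoc, mul_self_of_orderOf D.hs, one_mul])⟩
  rw [← Nat.card_congr (Equiv.ofBijective _ hb), Nat.card_prod, Nat.card_eq_fintype_card (α := Bool), Fintype.card_bool]

theorem card_invol : Nat.card {x : G // orderOf x = 2} = (cz t).index := by
  rw [← CharBasics.card_conjClass t]
  refine Nat.card_congr (Equiv.subtypeEquivRight fun x => ⟨fun hx => D.hconj t x D.ht hx, fun h => ?_⟩)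
  obtain ⟨c, rfl⟩ := isConj_iff.1 h
  rw [Invol.orderOf_conj, D.ht]

theorem card_G : Nat.card G = 2 * Nat.card K * (cz t).index := by
  rw [← D.card_cz, Subgroup.card_mul_index]

theorem even_card : Even (Nat.card K) := by
  rw [even_iff_two_dvd, ← D.ht, ← Subgroup.orderOf_mk (G := G) (H := K) t D.htK]
  exact orderOf_dvd_natCard _

theorem odd_index : Odd (cz t).index := by
  rw [← D.card_invol]
  refine card_inv_even_add_one ?_
  rw [D.card_G, mul_assoc]
  exact even_two_mul _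

theorem card_pairs_K {u : G} (hu : u ∈ K) (hu1 : u ≠ 1) :
    Nat.card {p : G × G // orderOf p.1 = 2 ∧ orderOf p.2 = 2 ∧ p.1 * p.2 = u} = Nat.card K := by
  by_cases h2 : u * u = 1
  · obtain rfl := (D.sq_eq_one hu h2).resolve_left hu1
    have h := card_pairs_involution u D.ht
    have hb : Function.Bijective (fun o : Option K => (o.elim ⟨u, D.ht, Commute.refl u⟩
        (fun x => ⟨s * x, D.sK_invol x.2, mem_cz.1 (mul_mem D.hsH (D.le x.2))⟩) :
        {x : G // orderOf x = 2 ∧ Commute x u})) := by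
      refine ⟨?_, fun x => ?_⟩
      · rintro (_ | a) (_ | b) h' <;> simp only [Option.elim, Subtype.mk.injEq] at h'
        · rfl
        · exact absurd (by simpa using mul_mem (show s * (b : G) ∈ K from h' ▸ D.htK) (inv_mem b.2)) D.hsK
        · exact absurd (by simpa using mul_mem (show s * (a : G) ∈ K from h'.symm ▸ D.htK) (inv_mem a.2)) D.hsK
        · rw [Subtype.ext (mul_left_cancel h')]
      · rcases D.cases (mem_cz.2 x.2.2) with hK | hK
        · exact ⟨none, Subtype.ext ((D.sq_eq_one hK (mul_self_of_orderOf x.2.1)).resolve_left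
            (ne_one_of_orderOf x.2.1)).symm⟩
        · exact ⟨some ⟨s * x, hK⟩, Subtype.ext (by
            show s * (s * (x : G)) = x
            rw [← mul_assoc, mul_self_of_orderOf D.hs, one_mul])⟩
    rw [← Nat.card_congr (Equiv.ofBijective _ hb), Finite.card_option] at h
    omega
  · rw [card_pairs_eq u hu1 (by rwa [pow_two])]
    refine Nat.card_congr (Equiv.ofBijective
      (fun x : {x : G // orderOf x = 2 ∧ x * u * x⁻¹ = u⁻¹} => (⟨s * x, ?_⟩ : K)) ⟨?_, ?_⟩)
    · have hx : x.1 ∈ cz t := D.ti hu hu1 (by rw [x.2.2]; exact inv_mem hu)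
      refine (D.cases hx).resolve_left fun hK => h2 ?_
      have h3 := x.2.2
      rw [D.ab _ hK u hu, mul_inv_cancel_right] at h3
      nth_rewrite 1 [h3]
      exact inv_mul_cancel u
    · intro a b h
      exact Subtype.ext (mul_left_cancel (congrArg Subtype.val h))
    · intro y
      refine ⟨⟨s * y, D.sK_invol y.2, ?_⟩, Subtype.ext ?_⟩
      · calc s * y * u * (s * y)⁻¹ = s * (y * u * (y : G)⁻¹) * s⁻¹ := by group
          _ = u⁻¹ := by rw [D.ab _ y.2 u hu, mul_inv_cancel_right, D.hinv u hu]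
      · show s * (s * (y : G)) = y
        rw [← mul_assoc, mul_self_of_orderOf D.hs, one_mul]

theorem card_conjIn : Nat.card {g : G // g ≠ 1 ∧ IsConjIn K g} = (cz t).index * (Nat.card K - 1) := by
  have key : Function.Bijective (fun z : (G ⧸ cz t) × {u : K // u ≠ 1} =>
      (⟨z.1.out * (z.2.1 : G) * z.1.out⁻¹, fun e => z.2.2 (Subtype.ext (conj_eq_one_iff.1 e)),
        ⟨z.1.out⁻¹, by
          rw [show z.1.out⁻¹ * (z.1.out * (z.2.1 : G) * z.1.out⁻¹) * z.1.out⁻¹⁻¹ = (z.2.1 : G) by group]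
          exact z.2.1.2⟩⟩ : {g : G // g ≠ 1 ∧ IsConjIn K g})) := by
    refine ⟨?_, ?_⟩
    · rintro ⟨q, u, hu⟩ ⟨q', u', hu'⟩ e
      have e' : q.out * (u : G) * q.out⁻¹ = q'.out * (u' : G) * q'.out⁻¹ := congrArg Subtype.val e
      have hm : q'.out⁻¹ * q.out ∈ cz t := D.ti u.2 (fun h => hu (Subtype.ext h)) (by
        rw [show q'.out⁻¹ * q.out * (u : G) * (q'.out⁻¹ * q.out)⁻¹ =
          q'.out⁻¹ * (q.out * (u : G) * q.out⁻¹) * q'.out by group, e',
          show q'.out⁻¹ * (q'.out * (u' : G) * q'.out⁻¹) * q'.out = (u' : G) by group]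
        exact u'.2)
      obtain rfl : q' = q := by
        rw [← QuotientGroup.out_eq' q', ← QuotientGroup.out_eq' q]
        exact QuotientGroup.eq.2 hm
      obtain rfl : u = u' := Subtype.ext (mul_left_cancel (mul_right_cancel e'))
      rfl
    · rintro ⟨g, hg, c, hc⟩
      obtain ⟨m, hm⟩ := QuotientGroup.mk_out_eq_mul (cz t) c⁻¹
      have hmem : (m : G)⁻¹ * (c * g * c⁻¹) * (m : G)⁻¹⁻¹ ∈ K := D.conj_mem (inv_mem m.2) hc
      refine ⟨⟨((c⁻¹ : G) : G ⧸ cz t), ⟨⟨_, hmem⟩, fun e => hg ?_⟩⟩, Subtype.ext ?_⟩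
      · exact conj_eq_one_iff.1 (conj_eq_one_iff.1 (congrArg Subtype.val e : (m : G)⁻¹ * (c * g * c⁻¹) * (m : G)⁻¹⁻¹ = 1))
      · simp only [hm]
        group
  rw [← Nat.card_congr (Equiv.ofBijective _ key), Nat.card_prod, ← Subgroup.index_eq_card]
  classical
  haveI := Fintype.ofFinite K
  rw [Nat.card_eq_fintype_card (α := {u : K // u ≠ 1}), Fintype.card_subtype_compl, Fintype.card_subtype_eq,
    Nat.card_eq_fintype_card (α := K)]

end Hyp

end CfsgLib.BSW
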