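import Mathlib
import Cfsg.Agent.S0840
import Cfsg.Agent.BSW.Setup
import Cfsg.Agent.IndFun.Basic
import Cfsg.Agent.CharBasics.Extra
import Cfsg.Agent.Exceptional.Virtual
import Cfsg.Agent.Exceptional.Coherence
import Cfsg.Agent.Exceptional.OddReal

/-!
Groups with a generalised dihedral involution centraliser: the characters that do not vanish on the involution.
-/

set_option autoImplicit false

namespace CfsgLib.BSW

open CfsgLib.CharBasics CfsgLib.Exceptional
open scoped ComplexConjugate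

universe u

variable {G : Type u} [Group G] [Fintype G]

/-- The virtual character induced from `1 - μ`. -/
noncomputable def alpha (K : Subgroup G) (μ : Cfsg.IrrCharacter K) : G → ℂ :=
  Cfsg.indFun K ((fun _ => (1 : ℂ)) - (μ : K → ℂ))

/-- The complex conjugate of a linear character of `K`. -/
noncomputable def bar (K : Subgroup G) (μ : Cfsg.IrrCharacter K) : Cfsg.IrrCharacter K :=
  ⟨Cfsg.conjFun (μ : K → ℂ), irr_conjFun μ.2⟩

theorem bar_apply {K : Subgroup G} (μ : Cfsg.IrrCharacter K) (u : K) :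
    (bar K μ : K → ℂ) u = conj ((μ : K → ℂ) u) := rfl

theorem bar_bar {K : Subgroup G} (μ : Cfsg.IrrCharacter K) : bar K (bar K μ) = μ :=
  Subtype.ext (funext fun u => Complex.conj_conj _)

theorem bar_ne_one {K : Subgroup G} {μ : Cfsg.IrrCharacter K} (h : μ ≠ oneChar) : bar K μ ≠ oneChar := fun e =>
  h <| by
    rw [← bar_bar μ, e]
    exact Subtype.ext (funext fun u => by rw [bar_apply, oneChar_apply, map_one])

theorem bar_ne_real {K : Subgroup G} {δ μ : Cfsg.IrrCharacter K} (hδ : bar K δ = δ) (h : μ ≠ δ) : bar K μ ≠ δ :=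
  fun e => h (by rw [← bar_bar μ, e, hδ])

theorem inner_irr_single {X : Type u} [Group X] [Fintype X] [DecidableEq (Cfsg.IrrCharacter X)]
    (a b : Cfsg.IrrCharacter X) : Cfsg.classInner (a : X → ℂ) (b : X → ℂ) = if a = b then 1 else 0 := by
  split_ifs with h
  · subst h; exact classInner_self a.2
  · exact classInner_ne a.2 b.2 fun e => h (Subtype.ext e)

/-- The two exceptional constituents of `alpha`. -/
structure Split (K : Subgroup G) (δ μ : Cfsg.IrrCharacter K) where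
  X : Cfsg.IrrCharacter G
  Y : Cfsg.IrrCharacter G
  ε : ℂ
  hε : ε = 1 ∨ ε = -1
  hX : X ≠ oneChar
  hY : Y ≠ oneChar
  hXY : X ≠ Y
  eq : alpha K μ = (fun _ => 1) + ε • (X : G → ℂ) - ε • (Y : G → ℂ)
  bX : Cfsg.classInner (alpha K δ) (X : G → ℂ) = ε
  bY : Cfsg.classInner (alpha K δ) (Y : G → ℂ) = 0

theorem sign_facts {ε : ℂ} (h : ε = 1 ∨ ε = -1) : ε ≠ 0 ∧ ε * ε = 1 ∧ conj ε = ε := by
  rcases h with h | h <;> simp [h]

theorem Split.inner {K : Subgroup G} {δ μ : Cfsg.IrrCharacter K} [DecidableEq (Cfsg.IrrCharacter G)]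
    (S : Split K δ μ) (χ : Cfsg.IrrCharacter G) : Cfsg.classInner (alpha K μ) (χ : G → ℂ) =
      (if oneChar = χ then 1 else 0) + S.ε * (if S.X = χ then 1 else 0) - S.ε * (if S.Y = χ then 1 else 0) := by
  rw [S.eq, classInner_sub_left, classInner_add_left, classInner_smul_left, classInner_smul_left,
    ← inner_irr_single, ← inner_irr_single, ← inner_irr_single]
  rfl

/-- The characters not vanishing at the involution. -/
structure Data (t : G) (K : Subgroup G) where
  X : Cfsg.IrrCharacter G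
  P : Cfsg.IrrCharacter G
  P' : Cfsg.IrrCharacter G
  δ : Cfsg.IrrCharacter K
  ε : ℂ
  η : ℂ
  hε : ε = 1 ∨ ε = -1
  hη : η = 1 ∨ η = -1
  δ_ne : δ ≠ oneChar
  X_one : X ≠ oneChar
  P_one : P ≠ oneChar
  P'_one : P' ≠ oneChar
  XP : X ≠ P
  XP' : X ≠ P'
  PP' : P ≠ P'
  beta : alpha K δ = (fun _ => 1) + ε • (X : G → ℂ) + η • (P : G → ℂ) + η • (P' : G → ℂ)
  X_K : ∀ u ∈ K, u ≠ 1 → (X : G → ℂ) u = ε
  P_t : (P : G → ℂ) t ^ 2 = 1
  P'_t : (P' : G → ℂ) t ^ 2 = 1
  deg : (P : G → ℂ) 1 = (P' : G → ℂ) 1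
  others : ∀ χ : Cfsg.IrrCharacter G, χ ≠ oneChar → χ ≠ X → χ ≠ P → χ ≠ P' → (χ : G → ℂ) t ≠ 0 →
    ∀ g : G, (g = 1 ∨ Wild K g) → ε * (χ : G → ℂ) g = 1 + ε * (X : G → ℂ) g

namespace Hyp

variable {t s : G} {K : Subgroup G} (D : Hyp t s K)
include D

theorem comm : IsMulCommutative K := ⟨⟨fun a b => Subtype.ext (D.ab a a.2 b b.2)⟩⟩

theorem lin_one (μ : Cfsg.IrrCharacter K) : (μ : K → ℂ) 1 = 1 := by
  haveI := D.comm
  rw [apply_one (isCharacter_of_irr μ.2), charDegree_comm μ.2, Nat.cast_one]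

theorem lin_mul (μ : Cfsg.IrrCharacter K) (a b : K) : (μ : K → ℂ) (a * b) = (μ : K → ℂ) a * (μ : K → ℂ) b :=
  CfsgLib.IndFun.linChar_mul (isCharacter_of_irr μ.2) (D.lin_one μ) a b

theorem card_dual : Nat.card (Cfsg.IrrCharacter K) = Nat.card K := by
  haveI := D.comm
  haveI := Fintype.ofFinite K
  haveI := finite_irrCharacter (G := K)
  haveI := Fintype.ofFinite (Cfsg.IrrCharacter K)
  rw [← sum_sq_degree (G := K), Finset.sum_congr rfl fun χ _ => by rw [charDegree_comm χ.2, one_pow],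
    Finset.sum_const, Finset.card_univ, smul_eq_mul, mul_one, ← Nat.card_eq_fintype_card]

theorem dual_sum [Fintype (Cfsg.IrrCharacter K)] {u : K} (hu : u ≠ 1) :
    ∑ μ : Cfsg.IrrCharacter K, (μ : K → ℂ) u = 0 := by
  haveI := D.comm
  haveI := Fintype.ofFinite K
  rw [← sum_mul_degree hu]
  exact Finset.sum_congr rfl fun χ _ => by rw [charDegree_comm χ.2, Nat.cast_one, one_mul]

theorem lin_t (μ : Cfsg.IrrCharacter K) :
    (μ : K → ℂ) ⟨t, D.htK⟩ = 1 ∨ (μ : K → ℂ) ⟨t, D.htK⟩ = -1 := by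
  refine mul_self_eq_one_iff.1 ?_
  rw [← D.lin_mul, show (⟨t, D.htK⟩ : K) * ⟨t, D.htK⟩ = 1 from
    Subtype.ext (Invol.mul_self_of_orderOf D.ht), D.lin_one]

theorem bar_t (μ : Cfsg.IrrCharacter K) : (bar K μ : K → ℂ) ⟨t, D.htK⟩ = (μ : K → ℂ) ⟨t, D.htK⟩ := by
  rw [bar_apply]; rcases D.lin_t μ with h | h <;> simp [h]

theorem alpha_apply_K (μ : Cfsg.IrrCharacter K) (u : K) :
    alpha K μ u = 2 - (μ : K → ℂ) u - conj ((μ : K → ℂ) u) := by
  classical
  by_cases hu : (u : G) = 1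
  · rw [alpha, hu, indFun_apply_one, show u = 1 from Subtype.ext hu, Pi.sub_apply, D.lin_one]
    norm_num
  set a : ℂ := 1 - (μ : K → ℂ) u with ha
  set b : ℂ := 1 - conj ((μ : K → ℂ) u) with hb
  have key : ∀ x : G, Cfsg.extendByZero K ((fun _ => (1 : ℂ)) - (μ : K → ℂ)) (x⁻¹ * (u : G) * x) =
      (if x ∈ cz t then b else 0) + (if x ∈ K then a - b else 0) := by
    intro x
    by_cases hx : x ∈ cz t
    · have hm : x⁻¹ * (u : G) * x ∈ K := by simpa using D.conj_mem (inv_mem hx) u.2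
      rw [if_pos hx, extendByZero_coe K _ ⟨_, hm⟩]
      by_cases hK : x ∈ K
      · have e : (⟨_, hm⟩ : K) = u :=
          Subtype.ext (by show x⁻¹ * (u : G) * x = u; rw [mul_assoc, D.ab u u.2 x hK, ← mul_assoc, inv_mul_cancel, one_mul])
        rw [if_pos hK, e, Pi.sub_apply, ha]; ring
      · have e : (⟨_, hm⟩ : K) = u⁻¹ := Subtype.ext (by
          show x⁻¹ * (u : G) * x = (u : G)⁻¹
          have h := (D.not_mem_K (inv_mem hx) (fun h => hK (by simpa using inv_mem h))).2 u u.2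
          rwa [inv_inv] at h)
        rw [if_neg hK, add_zero, e, Pi.sub_apply, apply_inv (isCharacter_of_irr μ.2)]
    · have hK : x ∉ K := fun h => hx (D.le h)
      rw [if_neg hx, if_neg hK, add_zero, extendByZero_of_not_mem]
      intro hm
      exact hx (by simpa using inv_mem (D.ti u.2 hu (g := x⁻¹) (by simpa using hm)))
  have hc : ∀ (L : Subgroup G) (c : ℂ), ∑ x : G, (if x ∈ L then c else 0) = (Nat.card L : ℂ) * c := fun L c => by
    rw [← Finset.sum_filter, Finset.sum_const, nsmul_eq_mul, ← Fintype.card_subtype, ← Nat.card_eq_fintype_card]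
  rw [alpha, Cfsg.indFun, Finset.sum_congr rfl fun x _ => key x, Finset.sum_add_distrib, hc, hc, D.card_cz, Nat.cast_mul]
  have hk : (Nat.card K : ℂ) ≠ 0 := Nat.cast_ne_zero.2 Nat.card_pos.ne'
  rw [ha, hb]
  field_simp
  push_cast
  ring

theorem alpha_one (μ : Cfsg.IrrCharacter K) : alpha K μ 1 = 0 := by
  rw [alpha, indFun_apply_one, Pi.sub_apply, D.lin_one, sub_self, mul_zero]

omit D in
theorem alpha_wild (μ : Cfsg.IrrCharacter K) {g : G} (hg : Wild K g) : alpha K μ g = 0 := by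
  rw [alpha, Cfsg.indFun, Finset.sum_eq_zero, mul_zero]
  intro x _
  exact extendByZero_of_not_mem K _ fun h => hg.2 ⟨x⁻¹, by simpa using h⟩

omit D in
theorem alpha_gen (μ : Cfsg.IrrCharacter K) : Cfsg.IsGeneralizedCharacter G (alpha K μ) :=
  gen_indFun _ (gen_sub (gen_of_character (isCharacter_of_irr isIrrCharacter_one))
    (gen_of_character (isCharacter_of_irr μ.2)))

omit D in
theorem alpha_inner (μ : Cfsg.IrrCharacter K) [Fintype K] {F : G → ℂ} (hF : Cfsg.IsClassFunction G F) :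
    Cfsg.classInner (alpha K μ) F =
      Cfsg.classInner ((fun _ => (1 : ℂ)) - (μ : K → ℂ)) (fun u : K => F u) := by
  rw [alpha, classInner_indFun _ _ hF]

theorem alpha_alpha (μ ν : Cfsg.IrrCharacter K) (hμ : μ ≠ oneChar) (hν : ν ≠ oneChar)
    [DecidableEq (Cfsg.IrrCharacter K)] :
    Cfsg.classInner (alpha K μ) (alpha K ν) =
      2 + (if μ = ν then 1 else 0) + (if μ = bar K ν then 1 else 0) := by
  haveI := Fintype.ofFinite K
  rw [alpha_inner μ (gen_isClassFunction (alpha_gen ν)), show (fun u : K => alpha K ν u) =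
      ((fun _ => (1 : ℂ)) - (ν : K → ℂ)) + ((fun _ => (1 : ℂ)) - (bar K ν : K → ℂ)) from funext fun u => by
    simp only [D.alpha_apply_K, Pi.add_apply, Pi.sub_apply, bar_apply]; ring]
  have hb : bar K ν ≠ oneChar := fun h => hν <| Subtype.ext <| funext fun u => by
    have h2 := congrFun (congrArg Subtype.val h) u
    rw [bar_apply, oneChar_apply] at h2
    rw [oneChar_apply, ← Complex.conj_conj ((ν : K → ℂ) u), h2, map_one]
  simp only [show (fun _ : K => (1 : ℂ)) = ((oneChar : Cfsg.IrrCharacter K) : K → ℂ) from rfl, classInner_add_right,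
    classInner_sub_left, classInner_sub_right, inner_irr_single, if_neg hμ, if_neg hν.symm, if_neg hb.symm, if_true]
  ring

theorem alpha_principal (μ : Cfsg.IrrCharacter K) (hμ : μ ≠ oneChar) :
    Cfsg.classInner (alpha K μ) (fun _ => 1) = 1 := by
  haveI := Fintype.ofFinite K
  classical
  rw [alpha_inner μ (irr_isClassFunction isIrrCharacter_one)]
  simp only [show (fun _ : K => (1 : ℂ)) = ((oneChar : Cfsg.IrrCharacter K) : K → ℂ) from rfl, classInner_sub_left,
    inner_irr_single, if_neg hμ, if_true, sub_zero]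

/-- A class function on `K ∖ 1` from its products with the virtual characters. -/
theorem value [Fintype (Cfsg.IrrCharacter K)] {F : G → ℂ} (hF : Cfsg.IsClassFunction G F) {u : K} (hu : u ≠ 1) :
    F u = -∑ μ : Cfsg.IrrCharacter K, conj (Cfsg.classInner (alpha K μ) F) * (μ : K → ℂ) u := by
  haveI := Fintype.ofFinite K
  have hf : Cfsg.IsClassFunction K (fun v : K => F v) := fun v x => by simp [hF (v : G) x]
  have h := congrFun (classFun_expand hf) u
  simp only [Finset.sum_apply, Pi.smul_apply, smul_eq_mul] at h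
  have hd : ∀ μ : Cfsg.IrrCharacter K, conj (Cfsg.classInner (alpha K μ) F) =
      Cfsg.classInner (fun v : K => F v) (fun _ => 1) - Cfsg.classInner (fun v : K => F v) (μ : K → ℂ) := fun μ => by
    rw [alpha_inner μ hF, ← classInner_comm, classInner_sub_right]
  simp only [hd, sub_mul, Finset.sum_sub_distrib, ← Finset.mul_sum, D.dual_sum hu, mul_zero, zero_sub, neg_neg]
  exact h

theorem alpha_oneChar : alpha K (oneChar : Cfsg.IrrCharacter K) = 0 := by
  funext g
  rw [alpha, Cfsg.indFun, Finset.sum_eq_zero, mul_zero, Pi.zero_apply]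
  intro x _
  by_cases h : x⁻¹ * g * x ∈ K
  · rw [extendByZero_coe K _ ⟨_, h⟩, Pi.sub_apply, oneChar_apply, sub_self]
  · exact extendByZero_of_not_mem K _ h

/-- There is exactly one real nonprincipal linear character. -/
theorem exists_real : ∃ δ : Cfsg.IrrCharacter K, δ ≠ oneChar ∧ bar K δ = δ ∧
    ∀ μ, μ ≠ oneChar → bar K μ = μ → μ = δ := by
  classical
  haveI := finite_irrCharacter (G := K)
  haveI := Fintype.ofFinite (Cfsg.IrrCharacter K)
  haveI : Fact (Nat.Prime 2) := ⟨Nat.prime_two⟩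
  obtain ⟨δ, hδ, hδ'⟩ : ∃ δ : Cfsg.IrrCharacter K, δ ≠ oneChar ∧ bar K δ = δ := by
    let f : Function.End (Cfsg.IrrCharacter K) := bar K
    have hmod := Equiv.Perm.card_fixedPoints_modEq (p := 2) (n := 1) (f := f) (funext fun μ => bar_bar μ)
    by_contra hc
    push Not at hc
    have h1 : Fintype.card (Function.fixedPoints f) = 1 := Fintype.card_eq_one_iff.2
      ⟨⟨oneChar, Subtype.ext (funext fun u => by
          show conj ((1 : ℂ)) = 1
          exact map_one _)⟩,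
        fun μ => Subtype.ext (by_contra fun h => hc μ.1 h μ.2)⟩
    rw [h1, ← Nat.card_eq_fintype_card, D.card_dual] at hmod
    have := Nat.even_iff.1 D.even_card
    unfold Nat.ModEq at hmod
    omega
  refine ⟨δ, hδ, hδ', fun μ hμ hμ' => ?_⟩
  let φ : K →* K :=
    { toFun := fun x => x * x
      map_one' := one_mul 1
      map_mul' := fun a b => Subtype.ext (by
        show (a : G) * b * (a * b) = a * a * (b * b)
        rw [mul_assoc, ← mul_assoc (b : G), D.ab b b.2 a a.2]; group) }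
  have hker : Nat.card φ.ker = 2 := by
    refine Nat.card_eq_two_iff.2 ⟨1, ⟨⟨t, D.htK⟩, Subtype.ext (Invol.mul_self_of_orderOf D.ht)⟩,
      fun h => D.t_ne_one (congrArg (fun z : φ.ker => ((z : K) : G)) h).symm, Set.eq_univ_of_forall fun z => ?_⟩
    rcases D.sq_eq_one z.1.2 (congrArg Subtype.val (MonoidHom.mem_ker.1 z.2)) with h | h
    · exact Or.inl (Subtype.ext (Subtype.ext h))
    · exact Or.inr (Subtype.ext (Subtype.ext h))
  have hidx : φ.range.index = 2 := by
    have h1 := Subgroup.card_mul_index φ.ker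
    rw [Subgroup.index_ker, hker, ← φ.range.card_mul_index, mul_comm] at h1
    exact (Nat.eq_of_mul_eq_mul_left Nat.card_pos h1).symm
  have hreal : ∀ ν : Cfsg.IrrCharacter K, ν ≠ oneChar → bar K ν = ν → ∀ u,
      (ν : K → ℂ) u = if u ∈ φ.range then 1 else -1 := by
    intro ν hν hν' u
    have hsq : ∀ w : K, (ν : K → ℂ) w * (ν : K → ℂ) w = 1 := fun w => by
      nth_rewrite 2 [← hν']
      rw [bar_apply, ← apply_inv (isCharacter_of_irr ν.2), ← D.lin_mul, mul_inv_cancel, D.lin_one]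
    have hR : ∀ w ∈ φ.range, (ν : K → ℂ) w = 1 := by
      rintro w ⟨v, rfl⟩
      show (ν : K → ℂ) (v * v) = 1
      rw [D.lin_mul, hsq]
    split_ifs with hu
    · exact hR u hu
    · refine (mul_self_eq_one_iff.1 (hsq u)).resolve_left fun h1 => hν ?_
      refine Subtype.ext (funext fun w => ?_)
      show (ν : K → ℂ) w = 1
      by_cases hw : w ∈ φ.range
      · exact hR w hw
      · have h := hR (w * u) ((Subgroup.mul_mem_iff_of_index_two hidx).2 ⟨fun a => absurd a hw, fun a => absurd a hu⟩)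
        rwa [D.lin_mul, h1, mul_one] at h
  exact Subtype.ext (funext fun u => by rw [hreal μ hμ hμ', hreal δ hδ hδ'])

variable [Fintype (Cfsg.IrrCharacter G)]

omit [Fintype (Cfsg.IrrCharacter G)] in
theorem apply_t_real (χ : Cfsg.IrrCharacter G) : conj ((χ : G → ℂ) t) = (χ : G → ℂ) t := by
  rw [← apply_inv (isCharacter_of_irr χ.2), Invol.inv_eq_of_orderOf D.ht]

/-- The class function counting pairs of involutions. -/
theorem pairs_eq (g : G) :
    ∑ χ : Cfsg.IrrCharacter G, (χ : G → ℂ) t ^ 2 / (χ : G → ℂ) 1 * (χ : G → ℂ) g =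
      2 * (Nat.card K : ℂ) / ((cz t).index : ℂ) *
        (Nat.card {p : G × G // orderOf p.1 = 2 ∧ orderOf p.2 = 2 ∧ p.1 * p.2 = g} : ℂ) := by
  have h := congrArg conj (Cfsg.Agent.S0840.result t t g)
  have e1 : Nat.card {p : G × G // IsConj t p.1 ∧ IsConj t p.2 ∧ p.1 * p.2 = g} =
      Nat.card {p : G × G // orderOf p.1 = 2 ∧ orderOf p.2 = 2 ∧ p.1 * p.2 = g} := by
    have key : ∀ x, IsConj t x ↔ orderOf x = 2 := fun x => ⟨fun hc => by
      obtain ⟨c, rfl⟩ := isConj_iff.1 hc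
      rw [Invol.orderOf_conj, D.ht], D.hconj t x D.ht⟩
    exact Nat.card_congr (Equiv.subtypeEquivRight fun p => and_congr (key _) (and_congr (key _) Iff.rfl))
  rw [e1, card_conjClass, finsum_eq_sum_of_fintype, D.card_G] at h
  simp only [map_mul, map_div₀, map_sum, map_natCast, Complex.conj_conj, D.apply_t_real] at h
  rw [h]
  have hn : ((cz t).index : ℂ) ≠ 0 := Nat.cast_ne_zero.2 Subgroup.index_ne_zero_of_finite
  have hk : (Nat.card K : ℂ) ≠ 0 := Nat.cast_ne_zero.2 Nat.card_pos.ne'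
  push_cast
  rw [Finset.mul_sum, Finset.mul_sum]
  refine Finset.sum_congr rfl fun χ _ => ?_
  rw [apply_one (isCharacter_of_irr χ.2), Complex.conj_natCast]
  field_simp

theorem pairs_alpha (μ : Cfsg.IrrCharacter K) (hμ : μ ≠ oneChar) :
    ∑ χ : Cfsg.IrrCharacter G, (χ : G → ℂ) t ^ 2 / (χ : G → ℂ) 1 * Cfsg.classInner (alpha K μ) (χ : G → ℂ) =
      2 * (Nat.card K : ℂ) ^ 2 / ((cz t).index : ℂ) := by
  haveI := Fintype.ofFinite K
  classical
  set F : G → ℂ := ∑ χ : Cfsg.IrrCharacter G, ((χ : G → ℂ) t ^ 2 / (χ : G → ℂ) 1) • (χ : G → ℂ) with hFdef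
  have hF : Cfsg.IsClassFunction G F := fun g x => by
    simp only [hFdef, Finset.sum_apply, Pi.smul_apply]
    exact Finset.sum_congr rfl fun χ _ => by rw [irr_isClassFunction χ.2 g x]
  have h1 : Cfsg.classInner (alpha K μ) F =
      ∑ χ : Cfsg.IrrCharacter G, (χ : G → ℂ) t ^ 2 / (χ : G → ℂ) 1 * Cfsg.classInner (alpha K μ) (χ : G → ℂ) := by
    rw [hFdef, classInner_sum_right]
    refine Finset.sum_congr rfl fun χ _ => ?_
    rw [classInner_smul_right, map_div₀, map_pow, D.apply_t_real, apply_one (isCharacter_of_irr χ.2),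
      Complex.conj_natCast]
  rw [← h1, alpha_inner μ hF, classInner_eq]
  have key : ∀ u : K, ((fun _ : K => (1 : ℂ)) - (μ : K → ℂ) : K → ℂ) u * conj (F u) =
      ((fun _ : K => (1 : ℂ)) - (μ : K → ℂ) : K → ℂ) u * (2 * (Nat.card K : ℂ) ^ 2 / ((cz t).index : ℂ)) := by
    intro u
    by_cases hu : u = 1
    · rw [hu, Pi.sub_apply, D.lin_one, sub_self, zero_mul, zero_mul]
    · congr 1
      simp only [hFdef, Finset.sum_apply, Pi.smul_apply, smul_eq_mul]
      rw [D.pairs_eq, D.card_pairs_K u.2 (fun h => hu (Subtype.ext h))]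
      simp only [map_div₀, map_mul, map_ofNat, map_natCast]
      ring
  rw [Finset.sum_congr rfl fun u _ => key u, ← Finset.sum_mul]
  simp only [Pi.sub_apply, Finset.sum_sub_distrib, Finset.sum_const, Finset.card_univ, nsmul_eq_mul, mul_one]
  rw [sum_irr_eq_zero μ.2 (fun h => hμ (Subtype.ext h)), ← Nat.card_eq_fintype_card, sub_zero, ← mul_assoc,
    inv_mul_cancel₀ (Nat.cast_ne_zero.2 Nat.card_pos.ne'), one_mul]

omit [Fintype (Cfsg.IrrCharacter G)] in
theorem exists_split (δ μ : Cfsg.IrrCharacter K) (hδ : δ ≠ oneChar) (hδ' : bar K δ = δ) (hμ : μ ≠ oneChar)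
    (hμ' : μ ≠ δ) (hμr : bar K μ ≠ μ) : Nonempty (Split K δ μ) := by
  classical
  haveI := finite_irrCharacter (G := G)
  haveI := Fintype.ofFinite (Cfsg.IrrCharacter G)
  obtain ⟨a, b, ha, hb, hab, heq⟩ := norm_three_cases (alpha_gen μ)
    (by rw [D.alpha_alpha μ μ hμ hμ, if_pos rfl, if_neg hμr.symm]; norm_num) (D.alpha_one μ)
    (D.alpha_principal μ hμ)
  obtain ⟨n, hn, -, hnorm⟩ := gen_coeff (alpha_gen δ)
  rw [D.alpha_alpha δ δ hδ hδ, if_pos rfl, if_pos hδ'.symm] at hnorm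
  have hsum : ∑ χ, n χ ^ 2 = 4 := by
    have : ((∑ χ, n χ ^ 2 : ℤ) : ℂ) = ((4 : ℤ) : ℂ) := by rw [← hnorm]; norm_num
    exact_mod_cast this
  have hab2 : n b - n a = 1 := by
    have h := D.alpha_alpha δ μ hδ hμ
    rw [if_neg hμ'.symm, if_neg (fun e => hμ' (by rw [← bar_bar μ, ← e, hδ'])), heq, classInner_add_right,
      classInner_sub_right, D.alpha_principal δ hδ, hn, hn] at h
    have : ((n b - n a : ℤ) : ℂ) = ((1 : ℤ) : ℂ) := by push_cast; linear_combination h
    exact_mod_cast this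
  have hone : n oneChar = 1 := by
    have h := hn oneChar
    rw [show ((oneChar : Cfsg.IrrCharacter G) : G → ℂ) = fun _ => 1 from rfl, D.alpha_principal δ hδ] at h
    exact_mod_cast h.symm
  have hbound : n a ^ 2 + n b ^ 2 ≤ 3 := by
    have h := Finset.sum_le_sum_of_subset_of_nonneg (Finset.subset_univ {oneChar, a, b}) (f := fun χ => n χ ^ 2)
      (fun x _ _ => sq_nonneg (n x))
    rw [hsum, Finset.sum_insert (by
      simp only [Finset.mem_insert, Finset.mem_singleton, not_or]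
      exact ⟨fun e => ha (congrArg Subtype.val e).symm, fun e => hb (congrArg Subtype.val e).symm⟩),
      Finset.sum_pair hab, hone] at h
    omega
  have hab3 : (n a = 0 ∧ n b = 1) ∨ (n a = -1 ∧ n b = 0) := by
    have h1 : n b = n a + 1 := by omega
    rw [h1] at hbound ⊢
    have : -1 ≤ n a ∧ n a ≤ 0 := by constructor <;> nlinarith
    omega
  have ha' : a ≠ oneChar := fun e => ha (congrArg Subtype.val e)
  have hb' : b ≠ oneChar := fun e => hb (congrArg Subtype.val e)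
  rcases hab3 with ⟨h0, h1⟩ | ⟨h0, h1⟩
  · exact ⟨⟨b, a, 1, Or.inl rfl, hb', ha', hab.symm, by rw [heq]; funext g; simp; ring,
      by rw [hn, h1]; simp, by rw [hn, h0]; simp⟩⟩
  · exact ⟨⟨a, b, -1, Or.inr rfl, ha', hb', hab, by rw [heq]; funext g; simp; ring,
      by rw [hn, h0]; simp, by rw [hn, h1]; simp⟩⟩

/-- All the splittings have the same first constituent. -/
theorem split_common {δ : Cfsg.IrrCharacter K} (hδ : δ ≠ oneChar) (hδ' : bar K δ = δ)
    (huniq : ∀ μ, μ ≠ oneChar → bar K μ = μ → μ = δ)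
    (S : ∀ μ : Cfsg.IrrCharacter K, μ ≠ oneChar → μ ≠ δ → Split K δ μ)
    {μ ν : Cfsg.IrrCharacter K} (hμ : μ ≠ oneChar) (hμ' : μ ≠ δ) (hν : ν ≠ oneChar) (hν' : ν ≠ δ) :
    (S μ hμ hμ').X = (S ν hν hν').X := by
  classical
  haveI := finite_irrCharacter (G := K)
  haveI := Fintype.ofFinite (Cfsg.IrrCharacter K)
  have hbarne : ∀ ρ : Cfsg.IrrCharacter K, ρ ≠ oneChar → ρ ≠ δ → bar K ρ ≠ ρ := fun ρ h h' e => h' (huniq ρ h e)
  have pair : ∀ ρ σ (h1 : ρ ≠ oneChar) (h2 : ρ ≠ δ) (h3 : σ ≠ oneChar) (h4 : σ ≠ δ),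
      ((ρ = σ ∨ ρ = bar K σ) → (S ρ h1 h2).X = (S σ h3 h4).X ∧ (S ρ h1 h2).Y = (S σ h3 h4).Y) ∧
      (¬(ρ = σ ∨ ρ = bar K σ) → (S ρ h1 h2).ε = (S σ h3 h4).ε ∧
        ((S ρ h1 h2).X = (S σ h3 h4).X ↔ (S ρ h1 h2).Y ≠ (S σ h3 h4).Y)) := by
    intro ρ σ h1 h2 h3 h4
    have h := D.alpha_alpha ρ σ h1 h3
    obtain ⟨hA0, -, hAc⟩ := sign_facts (S σ h3 h4).hε
    obtain ⟨hB0, -, -⟩ := sign_facts (S ρ h1 h2).hε
    have hx1 : (S ρ h1 h2).X ≠ (S σ h3 h4).Y := fun e => hB0 (by rw [← (S ρ h1 h2).bX, e, (S σ h3 h4).bY])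
    have hx2 : (S ρ h1 h2).Y ≠ (S σ h3 h4).X := fun e => hA0 (by rw [← (S σ h3 h4).bX, ← e, (S ρ h1 h2).bY])
    conv at h => lhs; rw [(S σ h3 h4).eq]
    rw [classInner_sub_right, classInner_add_right, classInner_smul_right, classInner_smul_right, hAc,
      D.alpha_principal ρ h1, (S ρ h1 h2).inner, (S ρ h1 h2).inner, if_neg (S σ h3 h4).hX.symm,
      if_neg (S σ h3 h4).hY.symm, if_neg hx1, if_neg hx2] at h
    constructor
    · intro hor
      have hr : (2 + (if ρ = σ then (1 : ℂ) else 0) + if ρ = bar K σ then 1 else 0) = 3 := by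
        rcases hor with e | e
        · subst e; rw [if_pos rfl, if_neg (hbarne ρ h1 h2).symm]; norm_num
        · subst e; rw [if_neg (hbarne σ h3 h4), if_pos rfl]; norm_num
      rw [hr] at h
      rcases (S ρ h1 h2).hε with e1 | e1 <;> rcases (S σ h3 h4).hε with e2 | e2 <;> rw [e1, e2] at h <;>
        split_ifs at h with a b <;> norm_num at h
      all_goals exact ⟨by assumption, by assumption⟩
    · intro hor
      push Not at hor
      rw [if_neg hor.1, if_neg hor.2] at h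
      rcases (S ρ h1 h2).hε with e1 | e1 <;> rcases (S σ h3 h4).hε with e2 | e2 <;> rw [e1, e2] at h ⊢ <;>
        split_ifs at h with a b <;> norm_num at h
      all_goals simp_all
  by_contra hne
  have hnp : ¬(μ = ν ∨ μ = bar K ν) := fun h => hne ((pair μ ν hμ hμ' hν hν').1 h).1
  have hYeq : (S μ hμ hμ').Y = (S ν hν hν').Y := by
    by_contra h; exact hne (((pair μ ν hμ hμ' hν hν').2 hnp).2.2 h)
  obtain ⟨ρ, hρ, hρ', hρt⟩ : ∃ ρ : Cfsg.IrrCharacter K, ρ ≠ oneChar ∧ ρ ≠ δ ∧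
      (ρ : K → ℂ) ⟨t, D.htK⟩ ≠ (μ : K → ℂ) ⟨t, D.htK⟩ := by
    by_contra hc
    push Not at hc
    have h0 := D.dual_sum (u := ⟨t, D.htK⟩) (fun h => D.t_ne_one (congrArg Subtype.val h))
    rw [← Finset.add_sum_erase _ _ (Finset.mem_univ (oneChar : Cfsg.IrrCharacter K)),
      ← Finset.add_sum_erase _ _ (Finset.mem_erase.2 ⟨hδ, Finset.mem_univ δ⟩), oneChar_apply,
      Finset.sum_congr rfl (fun ρ hρ => hc ρ (Finset.ne_of_mem_erase (Finset.mem_of_mem_erase hρ))
        (Finset.ne_of_mem_erase hρ)), Finset.sum_const, nsmul_eq_mul] at h0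
    have h4 : 4 ≤ ((Finset.univ.erase (oneChar : Cfsg.IrrCharacter K)).erase δ).card := by
      have hbμ : bar K μ ≠ oneChar ∧ bar K μ ≠ δ := ⟨bar_ne_one hμ, bar_ne_real hδ' hμ'⟩
      have hbν : bar K ν ≠ oneChar ∧ bar K ν ≠ δ := ⟨bar_ne_one hν, bar_ne_real hδ' hν'⟩
      push Not at hnp
      calc 4 = ({μ, bar K μ, ν, bar K ν} : Finset (Cfsg.IrrCharacter K)).card := by
            rw [Finset.card_insert_of_notMem, Finset.card_insert_of_notMem, Finset.card_pair (hbarne ν hν hν').symm]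
            · simp only [Finset.mem_insert, Finset.mem_singleton, not_or]
              exact ⟨fun e => hnp.2 (by rw [← e, bar_bar]), fun e => hnp.1 (by rw [← bar_bar μ, e, bar_bar])⟩
            · simp only [Finset.mem_insert, Finset.mem_singleton, not_or]
              exact ⟨(hbarne μ hμ hμ').symm, hnp.1, hnp.2⟩
        _ ≤ _ := Finset.card_le_card (by
            intro x hx
            simp only [Finset.mem_insert, Finset.mem_singleton] at hx
            simp only [Finset.mem_erase, Finset.mem_univ, and_true]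
            rcases hx with rfl | rfl | rfl | rfl
            · exact ⟨hμ', hμ⟩
            · exact ⟨hbμ.2, hbμ.1⟩
            · exact ⟨hν', hν⟩
            · exact ⟨hbν.2, hbν.1⟩)
    have h4' : (4 : ℝ) ≤ (((Finset.univ.erase (oneChar : Cfsg.IrrCharacter K)).erase δ).card : ℕ) := by exact_mod_cast h4
    have h0' := congrArg Complex.re h0
    rcases D.lin_t μ with e | e <;> rcases D.lin_t δ with e' | e' <;> rw [e, e'] at h0' <;>
      simp at h0' <;> first | linarith | (rw [h0'] at h4; simp at h4)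
  have hρp : ¬(ρ = μ ∨ ρ = bar K μ) := by
    rintro (e | e)
    · exact hρt (by rw [e])
    · exact hρt (by rw [e, D.bar_t])
  have hY : ∀ σ (h1 : σ ≠ oneChar) (h2 : σ ≠ δ), (S σ h1 h2).Y = (S μ hμ hμ').Y := by
    intro σ h1 h2
    by_contra h
    have a1 : (S σ h1 h2).X = (S μ hμ hμ').X := by
      by_cases hor : σ = μ ∨ σ = bar K μ
      · exact ((pair σ μ h1 h2 hμ hμ').1 hor).1
      · exact ((pair σ μ h1 h2 hμ hμ').2 hor).2.2 h
    have a2 : (S σ h1 h2).X = (S ν hν hν').X := by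
      have h' : (S σ h1 h2).Y ≠ (S ν hν hν').Y := hYeq ▸ h
      by_cases hor : σ = ν ∨ σ = bar K ν
      · exact ((pair σ ν h1 h2 hν hν').1 hor).1
      · exact ((pair σ ν h1 h2 hν hν').2 hor).2.2 h'
    exact hne (a1.symm.trans a2)
  have hval : ∀ σ (h1 : σ ≠ oneChar) (h2 : σ ≠ δ), ((S σ h1 h2).X : G → ℂ) t =
      -(S σ h1 h2).ε * ((δ : K → ℂ) ⟨t, D.htK⟩ + 2 * (σ : K → ℂ) ⟨t, D.htK⟩) := by
    intro σ h1 h2
    have h := D.value (irr_isClassFunction (S σ h1 h2).X.2) (u := ⟨t, D.htK⟩)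
      (fun h => D.t_ne_one (congrArg Subtype.val h))
    obtain ⟨he0, -, hec⟩ := sign_facts (S σ h1 h2).hε
    rw [← Finset.add_sum_erase _ _ (Finset.mem_univ δ),
      ← Finset.sum_subset (s₁ := ({σ, bar K σ} : Finset (Cfsg.IrrCharacter K))) (fun x hx => by
        simp only [Finset.mem_erase, Finset.mem_univ, and_true]
        simp only [Finset.mem_insert, Finset.mem_singleton] at hx
        rcases hx with rfl | rfl
        · exact h2
        · exact bar_ne_real hδ' h2)
        (fun x hx hx' => ?_), Finset.sum_pair (hbarne σ h1 h2).symm] at h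
    · rw [h]
      have d0 : Cfsg.classInner (alpha K δ) ((S σ h1 h2).X : G → ℂ) = (S σ h1 h2).ε := (S σ h1 h2).bX
      have d1 : ∀ τ, (τ = σ ∨ τ = bar K σ) → Cfsg.classInner (alpha K τ) ((S σ h1 h2).X : G → ℂ) = (S σ h1 h2).ε := by
        intro τ hτ
        have t1 : τ ≠ oneChar ∧ τ ≠ δ := by
          rcases hτ with rfl | rfl
          · exact ⟨h1, h2⟩
          · exact ⟨bar_ne_one h1, bar_ne_real hδ' h2⟩
        obtain ⟨eX, eY⟩ := (pair τ σ t1.1 t1.2 h1 h2).1 hτ
        rw [(S τ t1.1 t1.2).inner, if_neg (S σ h1 h2).hX.symm, eX, eY, if_pos rfl, if_neg (S σ h1 h2).hXY.symm,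
          ← (S τ t1.1 t1.2).bX, eX, d0]
        ring
      rw [d0, d1 σ (Or.inl rfl), d1 _ (Or.inr rfl), hec, D.bar_t]
      ring
    · simp only [Finset.mem_erase, Finset.mem_univ, and_true] at hx
      simp only [Finset.mem_insert, Finset.mem_singleton] at hx'
      by_cases hx1 : x = oneChar
      · rw [hx1, D.alpha_oneChar, classInner_zero_l, map_zero, zero_mul]
      · have eY := hY x hx1 hx
        have eY' := hY σ h1 h2
        have nX : (S x hx1 hx).X ≠ (S σ h1 h2).X := fun e =>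
          ((pair x σ hx1 hx h1 h2).2 hx').2.1 e (eY.trans eY'.symm)
        rw [(S x hx1 hx).inner, if_neg (S σ h1 h2).hX.symm, if_neg nX, eY, ← eY', if_neg (S σ h1 h2).hXY.symm]
        simp
  have heqn : ∀ σ (h1 : σ ≠ oneChar) (h2 : σ ≠ δ), 1 + (S σ h1 h2).ε * ((S σ h1 h2).X : G → ℂ) t ^ 2 / ((S σ h1 h2).X : G → ℂ) 1
      - (S σ h1 h2).ε * ((S μ hμ hμ').Y : G → ℂ) t ^ 2 / ((S μ hμ hμ').Y : G → ℂ) 1 =
      2 * (Nat.card K : ℂ) ^ 2 / ((cz t).index : ℂ) := by
    intro σ h1 h2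
    rw [← D.pairs_alpha σ h1, ← hY σ h1 h2]
    simp only [(S σ h1 h2).inner, mul_sub, mul_add, mul_ite, mul_one, mul_zero, Finset.sum_sub_distrib,
      Finset.sum_add_distrib, Finset.sum_ite_eq, Finset.mem_univ, if_true, oneChar_apply]
    ring
  have e1 := heqn μ hμ hμ'
  have e2 := heqn ρ hρ hρ'
  obtain ⟨hεeq, -⟩ := (pair ρ μ hρ hρ' hμ hμ').2 hρp
  obtain ⟨he0, hee, -⟩ := sign_facts (S μ hμ hμ').hε
  have d1 := congrFun (S μ hμ hμ').eq 1
  have d2 := congrFun (S ρ hρ hρ').eq 1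
  rw [D.alpha_one] at d1 d2
  simp only [Pi.sub_apply, Pi.add_apply, Pi.smul_apply, smul_eq_mul] at d1 d2
  rw [hY ρ hρ hρ', hεeq] at d2
  have hdeg : ((S ρ hρ hρ').X : G → ℂ) 1 = ((S μ hμ hμ').X : G → ℂ) 1 :=
    mul_left_cancel₀ he0 (by linear_combination d1 - d2)
  rw [hεeq, hdeg] at e2
  have hsq : ((S ρ hρ hρ').X : G → ℂ) t ^ 2 = ((S μ hμ hμ').X : G → ℂ) t ^ 2 := by
    have h := sub_left_injective (e2.trans e1.symm)
    rw [add_right_inj, div_left_inj' (apply_one_ne_zero (S μ hμ hμ').X.2)] at h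
    exact mul_left_cancel₀ he0 h
  rw [hval ρ hρ hρ', hval μ hμ hμ', hεeq] at hsq
  rcases D.lin_t μ with a | a <;> rcases D.lin_t ρ with b | b <;> rcases D.lin_t δ with c | c <;>
    rcases (S μ hμ hμ').hε with d | d <;> first | exact hρt (b.trans a.symm) | (rw [a, b, c, d] at hsq; norm_num at hsq)

end Hyp

end CfsgLib.BSW
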