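import Mathlib
import Cfsg.Agent.BSW.Chars

/-!
Groups with a generalised dihedral involution centraliser: existence of the character data.
-/

set_option autoImplicit false

namespace CfsgLib.BSW

open CfsgLib.CharBasics CfsgLib.Exceptional
open scoped ComplexConjugate

universe u

/-- The degrees for a centraliser of order four. -/
theorem degrees_four_sorted (a b c ν : ℤ) (h12 : b ≤ a) (h23 : c ≤ b) (ha : 4 ∣ a - 1) (hb : 4 ∣ b - 1)
    (hc : 4 ∣ c - 1) (hs : a + b + c = -1) (hν : 0 < ν)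
    (heq : (ν : ℝ) * (1 + 1 / (a : ℝ) + 1 / (b : ℝ) + 1 / (c : ℝ)) = 8) (hdeg : 1 + a ^ 2 + b ^ 2 + c ^ 2 ≤ 4 * ν) :
    a = b ∨ b = c := by
  obtain ⟨p, hp⟩ := ha
  obtain ⟨q, hq⟩ := hb
  obtain ⟨r, hr⟩ := hc
  have hν' : (0 : ℝ) < ν := by exact_mod_cast hν
  have hc3 : c ≤ -3 := by omega
  by_cases hb0 : 0 < b
  · by_cases ha1 : a = 1
    · left; omega
    exfalso
    have h1 : (0 : ℝ) < 1 / (a : ℝ) := one_div_pos.2 (by exact_mod_cast (show (0 : ℤ) < a by omega))
    have h2 : (0 : ℝ) < 1 / (b : ℝ) := one_div_pos.2 (by exact_mod_cast hb0)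
    have hc7 : (c : ℝ) ≤ -7 := by exact_mod_cast (show c ≤ -7 by omega)
    have h3 : -(1 / 7 : ℝ) ≤ 1 / (c : ℝ) := by
      rw [le_div_iff_of_neg (by linarith)]; linarith
    have h4 : (ν : ℝ) * (6 / 7) ≤ 8 := by
      rw [← heq]; exact mul_le_mul_of_nonneg_left (by linarith) hν'.le
    have h5 : (ν : ℝ) < 10 := by linarith
    have h6 : ν < 10 := by exact_mod_cast h5
    have : 25 ≤ a ^ 2 := by nlinarith [show 5 ≤ a by omega]
    have : 49 ≤ c ^ 2 := by nlinarith [show c ≤ -7 by omega]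
    nlinarith [sq_nonneg b]
  · have hb3 : b ≤ -3 := by omega
    by_cases ha5 : a = 5
    · right; omega
    exfalso
    have h1 : (0 : ℝ) < 1 / (a : ℝ) := one_div_pos.2 (by exact_mod_cast (show (0 : ℤ) < a by omega))
    have hb' : (b : ℝ) ≤ -3 := by exact_mod_cast hb3
    have hc' : (c : ℝ) ≤ -3 := by exact_mod_cast hc3
    have h2 : -(1 / 3 : ℝ) ≤ 1 / (b : ℝ) := by rw [le_div_iff_of_neg (by linarith)]; linarith
    have h3 : -(1 / 3 : ℝ) ≤ 1 / (c : ℝ) := by rw [le_div_iff_of_neg (by linarith)]; linarith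
    have h4 : (ν : ℝ) * (1 / 3) ≤ 8 := by
      rw [← heq]; exact mul_le_mul_of_nonneg_left (by linarith) hν'.le
    have h5 : (ν : ℝ) ≤ 24 := by linarith
    have h6 : ν ≤ 24 := by exact_mod_cast h5
    have : 81 ≤ a ^ 2 := by nlinarith [show 9 ≤ a by omega]
    have : 50 ≤ b ^ 2 + c ^ 2 := by nlinarith [show b + c ≤ -10 by omega, sq_nonneg (b - c)]
    linarith

theorem degrees_four (a b c ν : ℤ) (ha : 4 ∣ a - 1) (hb : 4 ∣ b - 1) (hc : 4 ∣ c - 1) (hs : a + b + c = -1)
    (hν : 0 < ν) (heq : (ν : ℝ) * (1 + 1 / (a : ℝ) + 1 / (b : ℝ) + 1 / (c : ℝ)) = 8)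
    (hdeg : 1 + a ^ 2 + b ^ 2 + c ^ 2 ≤ 4 * ν) : a = b ∨ b = c ∨ a = c := by
  rcases le_total b a with h1 | h1 <;> rcases le_total c b with h2 | h2 <;> rcases le_total c a with h3 | h3
  · rcases degrees_four_sorted a b c ν h1 h2 ha hb hc hs hν heq hdeg with h | h <;> omega
  · omega
  · rcases degrees_four_sorted a c b ν h3 h2 ha hc hb (by omega) hν (by linarith) (by linarith) with h | h <;> omega
  · rcases degrees_four_sorted c a b ν h3 h1 hc ha hb (by omega) hν (by linarith) (by linarith) with h | h <;> omega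
  · rcases degrees_four_sorted b a c ν h1 h3 hb ha hc (by omega) hν (by linarith) (by linarith) with h | h <;> omega
  · rcases degrees_four_sorted b c a ν h2 h3 hb hc ha (by omega) hν (by linarith) (by linarith) with h | h <;> omega
  · omega
  · rcases degrees_four_sorted c b a ν h2 h1 hc hb ha (by omega) hν (by linarith) (by linarith) with h | h <;> omega

variable {G : Type u} [Group G] [Fintype G]

theorem exists_int_degree (χ : Cfsg.IrrCharacter G) {n : ℤ} (hn : n = 1 ∨ n = -1) :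
    ∃ e : ℤ, (e : ℂ) = (n : ℂ) * (χ : G → ℂ) 1 ∧ e ^ 2 = (Cfsg.charDegree (χ : G → ℂ) : ℤ) ^ 2 :=
  ⟨n * Cfsg.charDegree (χ : G → ℂ), by rw [apply_one (isCharacter_of_irr χ.2)]; push_cast; rfl,
    by rcases hn with h | h <;> simp [h]⟩

namespace Hyp

variable {t s : G} {K : Subgroup G} (D : Hyp t s K) [Fintype (Cfsg.IrrCharacter G)]
include D

theorem data_two (hk : Nat.card K = 2) : Nonempty (Data t K) := by
  classical
  haveI := finite_irrCharacter (G := K)
  haveI := Fintype.ofFinite (Cfsg.IrrCharacter K)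
  obtain ⟨δ, hδ, hδ', -⟩ := D.exists_real
  have hdual : ∀ μ : Cfsg.IrrCharacter K, μ = oneChar ∨ μ = δ := fun μ => by
    have h2 := D.card_dual.trans hk
    rw [Nat.card_eq_two_iff' (oneChar : Cfsg.IrrCharacter K)] at h2
    by_cases h : μ = oneChar
    · exact Or.inl h
    · exact Or.inr (h2.unique h hδ)
  have hKt : ∀ u ∈ K, u ≠ 1 → u = t := fun u hu hu1 => by
    have h2 := (Nat.card_eq_two_iff' (1 : K)).1 hk
    exact congrArg Subtype.val (h2.unique (y₁ := ⟨u, hu⟩) (y₂ := ⟨t, D.htK⟩) (fun h => hu1 (congrArg Subtype.val h))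
      (fun h => D.t_ne_one (congrArg Subtype.val h)))
  have hδt : (δ : K → ℂ) ⟨t, D.htK⟩ = -1 := by
    have h := D.dual_sum (u := ⟨t, D.htK⟩) (fun h => D.t_ne_one (congrArg Subtype.val h))
    rw [show (Finset.univ : Finset (Cfsg.IrrCharacter K)) = {oneChar, δ} from
      (Finset.eq_univ_iff_forall.2 fun μ => by simpa using hdual μ).symm, Finset.sum_pair hδ.symm, oneChar_apply] at h
    linear_combination h
  obtain ⟨n, hn, hexp, hnorm⟩ := gen_coeff (alpha_gen (K := K) δ)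
  rw [D.alpha_alpha δ δ hδ hδ, if_pos rfl, if_pos hδ'.symm] at hnorm
  have hsum : ∑ χ, n χ ^ 2 = 4 := by
    have : ((∑ χ, n χ ^ 2 : ℤ) : ℂ) = ((4 : ℤ) : ℂ) := by rw [← hnorm]; norm_num
    exact_mod_cast this
  have hone : n oneChar = 1 := by
    have h := hn oneChar
    rw [show ((oneChar : Cfsg.IrrCharacter G) : G → ℂ) = fun _ => 1 from rfl, D.alpha_principal δ hδ] at h
    exact_mod_cast h.symm
  have hsmall : ∀ χ, n χ = 0 ∨ n χ = 1 ∨ n χ = -1 := fun χ => by
    by_cases h : χ = oneChar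
    · exact Or.inr (Or.inl (h ▸ hone))
    have h1 := Finset.sum_le_sum_of_subset_of_nonneg (Finset.subset_univ {oneChar, χ}) (f := fun χ => n χ ^ 2)
      (fun x _ _ => sq_nonneg (n x))
    rw [hsum, Finset.sum_pair (Ne.symm h), hone] at h1
    have : -1 ≤ n χ ∧ n χ ≤ 1 := by constructor <;> nlinarith
    omega
  set T := (Finset.univ.filter fun χ => n χ ≠ 0).erase oneChar with hT
  have hTmem : ∀ χ, χ ∈ T ↔ χ ≠ oneChar ∧ n χ ≠ 0 := fun χ => by simp [hT]
  have hTcard : T.card = 3 := by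
    have h1 : ∑ χ ∈ T, n χ ^ 2 = 3 := by
      have h2 := Finset.sum_filter_ne_zero (s := Finset.univ) (f := fun χ => n χ ^ 2)
      simp only [ne_eq, pow_eq_zero_iff (two_ne_zero)] at h2
      rw [hsum, ← Finset.add_sum_erase _ _ (show (oneChar : Cfsg.IrrCharacter G) ∈
        Finset.univ.filter (fun χ => ¬ n χ = 0) by simp [hone]), hone] at h2
      simp only [hT, ne_eq]
      linarith
    rw [Finset.sum_congr rfl (g := fun _ => (1 : ℤ)) (fun χ hχ => by
      rcases hsmall χ with h | h | h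
      · exact absurd h ((hTmem χ).1 hχ).2
      · simp [h]
      · simp [h])] at h1
    simp at h1
    omega
  obtain ⟨R₁, R₂, R₃, h12, h13, h23, hR⟩ := Finset.card_eq_three.1 hTcard
  have hmem : ∀ R, (R = R₁ ∨ R = R₂ ∨ R = R₃) → R ≠ oneChar ∧ n R ≠ 0 := fun R h => by
    refine (hTmem R).1 ?_
    rw [hR]; simpa using h
  have hval : ∀ R, (R = R₁ ∨ R = R₂ ∨ R = R₃) → (R : G → ℂ) t = n R := by
    intro R h
    rw [show (R : G → ℂ) t = (R : G → ℂ) ((⟨t, D.htK⟩ : K) : G) from rfl,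
      D.value (irr_isClassFunction R.2) (fun h => D.t_ne_one (congrArg Subtype.val h)),
      show (Finset.univ : Finset (Cfsg.IrrCharacter K)) = {oneChar, δ} from
        (Finset.eq_univ_iff_forall.2 fun μ => by simpa using hdual μ).symm,
      Finset.sum_pair hδ.symm, D.alpha_oneChar, classInner_zero_l, hn, hδt, map_zero, map_intCast]
    ring
  have hs1 : ∀ R, (R = R₁ ∨ R = R₂ ∨ R = R₃) → n R = 1 ∨ n R = -1 := fun R h => (hsmall R).resolve_left (hmem R h).2
  have hcong : ∀ R, (R = R₁ ∨ R = R₂ ∨ R = R₃) → ∀ e : ℤ, (e : ℂ) = (n R : ℂ) * (R : G → ℂ) 1 → 4 ∣ e - 1 := by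
    intro R h e he
    haveI := Fintype.ofFinite (cz t)
    obtain ⟨m, hm⟩ := classInner_characters_nat (isCharacter_restrict (isCharacter_of_irr R.2) (cz t))
      (isCharacter_of_irr (isIrrCharacter_one (G := cz t)))
    rw [classInner_eq, D.card_cz, hk, ← Finset.add_sum_erase _ _ (Finset.mem_univ (1 : cz t)),
      Finset.sum_congr rfl (g := fun _ => (n R : ℂ)) (fun x hx => ?_)] at hm
    · rw [Finset.sum_const, Finset.card_erase_of_mem (Finset.mem_univ _), Finset.card_univ, nsmul_eq_mul,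
        ← Nat.card_eq_fintype_card, D.card_cz, hk] at hm
      simp only [map_one, mul_one, OneMemClass.coe_one] at hm
      push_cast at hm
      refine ⟨n R * m - 1, ?_⟩
      have hsq : ((n R : ℤ) : ℂ) * (n R : ℂ) = 1 := by rcases hs1 R h with h' | h' <;> simp [h']
      have : ((e - 1 : ℤ) : ℂ) = ((4 * (n R * m - 1) : ℤ) : ℂ) := by
        push_cast
        linear_combination he + 4 * (n R : ℂ) * hm - 3 * hsq
      exact_mod_cast this
    · have hx1 : (x : G) ≠ 1 := fun h' => Finset.ne_of_mem_erase hx (Subtype.ext h')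
      simp only [map_one, mul_one]
      rw [← hval R h]
      refine apply_isConj (isCharacter_of_irr R.2) (D.hconj _ _ ?_ D.ht)
      by_cases hK : (x : G) ∈ K
      · rw [hKt _ hK hx1]; exact D.ht
      · exact Invol.orderOf_eq_two (D.not_mem_K x.2 hK).1 hx1
  have hb : alpha K δ = (fun _ => 1) + (n R₁ : ℂ) • (R₁ : G → ℂ) + (n R₂ : ℂ) • (R₂ : G → ℂ) +
      (n R₃ : ℂ) • (R₃ : G → ℂ) := by
    rw [hexp, ← Finset.sum_subset (Finset.subset_univ (insert oneChar T)) (fun χ _ hχ => by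
      simp only [Finset.mem_insert, hTmem, not_or, not_and, not_not] at hχ
      rw [hχ.2 hχ.1]; simp), Finset.sum_insert (by simp [hTmem]), hone, hR, Finset.sum_insert (by simp [h12, h13]),
      Finset.sum_pair h23]
    push_cast
    rw [one_smul, ← add_assoc, ← add_assoc]
    rfl
  obtain ⟨e₁, he₁, hd₁⟩ := exists_int_degree R₁ (hs1 R₁ (Or.inl rfl))
  obtain ⟨e₂, he₂, hd₂⟩ := exists_int_degree R₂ (hs1 R₂ (Or.inr (Or.inl rfl)))
  obtain ⟨e₃, he₃, hd₃⟩ := exists_int_degree R₃ (hs1 R₃ (Or.inr (Or.inr rfl)))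
  have hsum1 : e₁ + e₂ + e₃ = -1 := by
    have h := congrFun hb 1
    rw [D.alpha_one] at h
    simp only [Pi.add_apply, Pi.smul_apply, smul_eq_mul, ← he₁, ← he₂, ← he₃] at h
    have : ((e₁ + e₂ + e₃ : ℤ) : ℂ) = ((-1 : ℤ) : ℂ) := by push_cast; linear_combination -h
    exact_mod_cast this
  have hdeg : 1 + e₁ ^ 2 + e₂ ^ 2 + e₃ ^ 2 ≤ 4 * ((cz t).index : ℤ) := by
    have h := Finset.sum_le_sum_of_subset (Finset.subset_univ (insert oneChar T))
      (f := fun χ : Cfsg.IrrCharacter G => Cfsg.charDegree (χ : G → ℂ) ^ 2)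
    rw [sum_sq_degree, Finset.sum_insert (by simp [hTmem]), hR, Finset.sum_insert (by simp [h12, h13]),
      Finset.sum_pair h23, D.card_G, hk, show Cfsg.charDegree ((oneChar : Cfsg.IrrCharacter G) : G → ℂ) = 1 by
        have := apply_one (isCharacter_of_irr (isIrrCharacter_one (G := G)))
        exact_mod_cast this.symm] at h
    rw [hd₁, hd₂, hd₃]
    have h' : ((1 ^ 2 + (Cfsg.charDegree (R₁ : G → ℂ) ^ 2 + (Cfsg.charDegree (R₂ : G → ℂ) ^ 2 +
      Cfsg.charDegree (R₃ : G → ℂ) ^ 2)) : ℕ) : ℤ) ≤ ((2 * 2 * (cz t).index : ℕ) : ℤ) := by exact_mod_cast h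
    push_cast at h'
    linarith
  have hν : (0 : ℤ) < (cz t).index := by exact_mod_cast Nat.pos_of_ne_zero Subgroup.index_ne_zero_of_finite
  have hinv : ∀ R, (R = R₁ ∨ R = R₂ ∨ R = R₃) → ∀ e : ℤ, (e : ℂ) = (n R : ℂ) * (R : G → ℂ) 1 →
      (R : G → ℂ) t ^ 2 / (R : G → ℂ) 1 * n R = 1 / (e : ℂ) := by
    intro R h e he
    rw [hval R h, he]
    rcases hs1 R h with h' | h' <;> simp [h']
  have heqC : 1 + 1 / (e₁ : ℂ) + 1 / (e₂ : ℂ) + 1 / (e₃ : ℂ) = 8 / ((cz t).index : ℂ) := by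
    have h := D.pairs_alpha δ hδ
    simp only [hn, hk] at h
    rw [← Finset.sum_subset (Finset.subset_univ (insert oneChar T)) (fun χ _ hχ => by
      simp only [Finset.mem_insert, hTmem, not_or, not_and, not_not] at hχ
      rw [hχ.2 hχ.1]; simp), Finset.sum_insert (by simp [hTmem]), hR, Finset.sum_insert (by simp [h12, h13]),
      Finset.sum_pair h23, hone, hinv R₁ (Or.inl rfl) e₁ he₁, hinv R₂ (Or.inr (Or.inl rfl)) e₂ he₂,
      hinv R₃ (Or.inr (Or.inr rfl)) e₃ he₃, oneChar_apply, oneChar_apply] at h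
    push_cast at h
    linear_combination h
  have heqR : ((cz t).index : ℤ) * (1 + 1 / (e₁ : ℝ) + 1 / (e₂ : ℝ) + 1 / (e₃ : ℝ)) = (8 : ℝ) := by
    have h1 : (((1 + 1 / (e₁ : ℝ) + 1 / (e₂ : ℝ) + 1 / (e₃ : ℝ)) : ℝ) : ℂ) = ((8 / ((cz t).index : ℝ) : ℝ) : ℂ) := by
      push_cast; exact heqC
    rw [Complex.ofReal_inj] at h1
    rw [h1]
    push_cast
    rw [mul_div_cancel₀]
    exact_mod_cast hν.ne'
  have build : ∀ X P P' : Cfsg.IrrCharacter G, (X = R₁ ∨ X = R₂ ∨ X = R₃) → (P = R₁ ∨ P = R₂ ∨ P = R₃) →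
      (P' = R₁ ∨ P' = R₂ ∨ P' = R₃) → X ≠ P → X ≠ P' → P ≠ P' →
      alpha K δ = (fun _ => 1) + (n X : ℂ) • (X : G → ℂ) + (n P : ℂ) • (P : G → ℂ) + (n P' : ℂ) • (P' : G → ℂ) →
      (n P : ℂ) * (P : G → ℂ) 1 = (n P' : ℂ) * (P' : G → ℂ) 1 → Nonempty (Data t K) := by
    intro X P P' hX hP hP' n1 n2 n3 hβ hpp
    have hsame : n P = n P' := by
      rcases hs1 P hP with a | a <;> rcases hs1 P' hP' with b | b <;> rw [a, b] <;>
        rw [a, b] at hpp <;> exfalso <;>
        · obtain ⟨d, hd, hd'⟩ := degree_eq P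
          obtain ⟨d₂, hd₂', hd₂''⟩ := degree_eq P'
          rw [hd', hd₂''] at hpp
          push_cast at hpp
          have h1 : ((d : ℂ) + (d₂ : ℂ)) = 0 := by
            first | linear_combination hpp | linear_combination -hpp
          norm_cast at h1
          omega
    refine ⟨⟨X, P, P', δ, n X, n P, ?_, ?_, hδ, (hmem X hX).1, (hmem P hP).1, (hmem P' hP').1, n1, n2, n3,
      by rw [hβ, hsame], ?_, ?_, ?_, ?_, ?_⟩⟩
    · rcases hs1 X hX with h | h <;> simp [h]
    · rcases hs1 P hP with h | h <;> simp [h]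
    · intro u hu hu1
      rw [hKt u hu hu1, hval X hX]
    · rw [hval P hP]; rcases hs1 P hP with h | h <;> simp [h]
    · rw [hval P' hP']; rcases hs1 P' hP' with h | h <;> simp [h]
    · rw [hsame] at hpp
      exact mul_left_cancel₀ (by rcases hs1 P' hP' with h | h <;> simp [h]) hpp
    · intro χ hχ1 hχX hχP hχP' hχt
      exfalso
      refine hχt ?_
      rw [show (χ : G → ℂ) t = (χ : G → ℂ) ((⟨t, D.htK⟩ : K) : G) from rfl,
        D.value (irr_isClassFunction χ.2) (fun h => D.t_ne_one (congrArg Subtype.val h)), neg_eq_zero]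
      refine Finset.sum_eq_zero fun μ _ => ?_
      rcases hdual μ with rfl | rfl
      · rw [D.alpha_oneChar, classInner_zero_l, map_zero, zero_mul]
      · rw [hn, show n χ = 0 from by_contra fun h => by
          have h4 := (hTmem χ).2 ⟨hχ1, h⟩
          rw [hR] at h4
          simp only [Finset.mem_insert, Finset.mem_singleton] at h4
          rcases hX with e | e | e <;> rcases hP with e' | e' | e' <;> rcases hP' with e'' | e'' | e'' <;>
            rcases h4 with e4 | e4 | e4 <;> subst_vars <;> contradiction]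
        simp
  rcases degrees_four e₁ e₂ e₃ (cz t).index (hcong R₁ (Or.inl rfl) e₁ he₁) (hcong R₂ (Or.inr (Or.inl rfl)) e₂ he₂)
    (hcong R₃ (Or.inr (Or.inr rfl)) e₃ he₃) hsum1 hν heqR hdeg with h | h | h
  · exact build R₃ R₁ R₂ (by simp) (by simp) (by simp) h13.symm h23.symm h12 (by rw [hb]; abel)
      (by rw [← he₁, ← he₂, h])
  · exact build R₁ R₂ R₃ (by simp) (by simp) (by simp) h12 h13 h23 hb (by rw [← he₂, ← he₃, h])
  · exact build R₂ R₁ R₃ (by simp) (by simp) (by simp) h12.symm h23 h13 (by rw [hb]; abel)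
      (by rw [← he₁, ← he₃, h])

theorem data_gt (hk : Nat.card K ≠ 2) : Nonempty (Data t K) := by
  classical
  haveI := finite_irrCharacter (G := K)
  haveI := Fintype.ofFinite (Cfsg.IrrCharacter K)
  obtain ⟨δ, hδ, hδ', huniq⟩ := D.exists_real
  obtain ⟨μ, hμ, hμ'⟩ : ∃ μ : Cfsg.IrrCharacter K, μ ≠ oneChar ∧ μ ≠ δ := by
    by_contra hc
    push Not at hc
    refine hk (D.card_dual ▸ Nat.card_eq_two_iff.2 ⟨oneChar, δ, hδ.symm, Set.eq_univ_of_forall fun μ => ?_⟩)
    by_cases h : μ = oneChar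
    · exact Or.inl h
    · exact Or.inr (hc μ h)
  let S : ∀ ν : Cfsg.IrrCharacter K, ν ≠ oneChar → ν ≠ δ → Split K δ ν := fun ν h h' =>
    Classical.choice (D.exists_split δ ν hδ hδ' h h' fun e => h' (huniq ν h e))
  obtain ⟨hε0, hεε, hεc⟩ := sign_facts (S μ hμ hμ').hε
  have hX : ∀ ν (h : ν ≠ oneChar) (h' : ν ≠ δ), (S ν h h').X = (S μ hμ hμ').X ∧ (S ν h h').ε = (S μ hμ hμ').ε :=
    fun ν h h' => by
      have e := D.split_common hδ hδ' huniq S h h' hμ hμ'
      exact ⟨e, by rw [← (S ν h h').bX, e, (S μ hμ hμ').bX]⟩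
  have hinner : ∀ ν (h : ν ≠ oneChar) (h' : ν ≠ δ) (χ : Cfsg.IrrCharacter G), Cfsg.classInner (alpha K ν) (χ : G → ℂ) =
      (if oneChar = χ then 1 else 0) + (S μ hμ hμ').ε * (if (S μ hμ hμ').X = χ then 1 else 0) -
        (S μ hμ hμ').ε * (if (S ν h h').Y = χ then 1 else 0) := fun ν h h' χ => by
    rw [(S ν h h').inner, (hX ν h h').1, (hX ν h h').2]
  obtain ⟨n, hn, hexp, hnorm⟩ := gen_coeff (alpha_gen (K := K) δ)
  rw [D.alpha_alpha δ δ hδ hδ, if_pos rfl, if_pos hδ'.symm] at hnorm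
  have hsum : ∑ χ, n χ ^ 2 = 4 := by
    have : ((∑ χ, n χ ^ 2 : ℤ) : ℂ) = ((4 : ℤ) : ℂ) := by rw [← hnorm]; norm_num
    exact_mod_cast this
  have hone : n oneChar = 1 := by
    have h := hn oneChar
    rw [show ((oneChar : Cfsg.IrrCharacter G) : G → ℂ) = fun _ => 1 from rfl, D.alpha_principal δ hδ] at h
    exact_mod_cast h.symm
  have hnX : (n (S μ hμ hμ').X : ℂ) = (S μ hμ hμ').ε := by rw [← hn, (S μ hμ hμ').bX]
  have hnX2 : n (S μ hμ hμ').X ^ 2 = 1 := by
    have : ((n (S μ hμ hμ').X ^ 2 : ℤ) : ℂ) = ((1 : ℤ) : ℂ) := by push_cast; rw [hnX, sq, hεε]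
    exact_mod_cast this
  set T := ((Finset.univ.filter fun χ => n χ ≠ 0).erase oneChar).erase (S μ hμ hμ').X with hT
  have hTmem : ∀ χ, χ ∈ T ↔ χ ≠ (S μ hμ hμ').X ∧ χ ≠ oneChar ∧ n χ ≠ 0 := fun χ => by simp [hT]
  have hsT : ∑ χ ∈ T, n χ ^ 2 = 2 := by
    have h2 := Finset.sum_filter_ne_zero (s := Finset.univ) (f := fun χ => n χ ^ 2)
    simp only [ne_eq, pow_eq_zero_iff (two_ne_zero)] at h2
    rw [hsum, ← Finset.add_sum_erase _ _ (show (oneChar : Cfsg.IrrCharacter G) ∈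
      Finset.univ.filter (fun χ => ¬ n χ = 0) by simp [hone]),
      ← Finset.add_sum_erase _ _ (show (S μ hμ hμ').X ∈
        (Finset.univ.filter (fun χ => ¬ n χ = 0)).erase oneChar by
          simp [(S μ hμ hμ').hX]; intro h; rw [h] at hnX2; simp at hnX2), hone, hnX2] at h2
    simp only [hT, ne_eq]
    linarith
  have habs : ∀ χ ∈ T, n χ = 1 ∨ n χ = -1 := fun χ hχ => by
    have h3 := Finset.single_le_sum (f := fun x => n x ^ 2) (fun x _ => sq_nonneg (n x)) hχ
    rw [hsT] at h3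
    have h0 := ((hTmem χ).1 hχ).2.2
    have h5 : -1 ≤ n χ ∧ n χ ≤ 1 := by constructor <;> nlinarith
    omega
  have hTcard : T.card = 2 := by
    have h1 := hsT
    rw [Finset.sum_congr rfl (g := fun _ => (1 : ℤ)) (fun χ hχ => by
      rcases habs χ hχ with h | h <;> simp [h])] at h1
    simp at h1
    omega
  obtain ⟨P, P', hPP, hP2⟩ := Finset.card_eq_two.1 hTcard
  have hP := (hTmem P).1 (by simp [hP2])
  have hP' := (hTmem P').1 (by simp [hP2])
  have hnot : ∀ χ, χ ≠ oneChar → χ ≠ (S μ hμ hμ').X → χ ≠ P → χ ≠ P' → n χ = 0 := fun χ a b c d =>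
    by_contra fun h => by
      have := (hTmem χ).2 ⟨b, a, h⟩
      simp [hP2, c, d] at this
  have hb : alpha K δ = (fun _ => 1) + (S μ hμ hμ').ε • ((S μ hμ hμ').X : G → ℂ) + (n P : ℂ) • (P : G → ℂ) +
      (n P' : ℂ) • (P' : G → ℂ) := by
    rw [hexp, ← Finset.sum_subset (Finset.subset_univ {oneChar, (S μ hμ hμ').X, P, P'}) (fun χ _ hχ => by
      simp only [Finset.mem_insert, Finset.mem_singleton, not_or] at hχ
      rw [hnot χ hχ.1 hχ.2.1 hχ.2.2.1 hχ.2.2.2]; simp),
      Finset.sum_insert (by simp [(S μ hμ hμ').hX.symm, Ne.symm hP.2.1, Ne.symm hP'.2.1]),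
      Finset.sum_insert (by simp [Ne.symm hP.1, Ne.symm hP'.1]), Finset.sum_pair hPP, hone, hnX]
    push_cast
    rw [one_smul, ← add_assoc, ← add_assoc]
    rfl
  have ht1 : (⟨t, D.htK⟩ : K) ≠ 1 := fun h => D.t_ne_one (congrArg Subtype.val h)
  have hXK : ∀ u ∈ K, u ≠ 1 → ((S μ hμ hμ').X : G → ℂ) u = (S μ hμ hμ').ε := by
    intro u hu hu1
    have hu' : (⟨u, hu⟩ : K) ≠ 1 := fun h => hu1 (congrArg Subtype.val h)
    have h := D.value (irr_isClassFunction (S μ hμ hμ').X.2) hu'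
    rw [← Finset.add_sum_erase _ _ (Finset.mem_univ (oneChar : Cfsg.IrrCharacter K)), D.alpha_oneChar, classInner_zero_l,
      map_zero, zero_mul, zero_add, Finset.sum_congr rfl (g := fun ν : Cfsg.IrrCharacter K => (S μ hμ hμ').ε * (ν : K → ℂ) ⟨u, hu⟩)
        (fun ν hν => ?_), ← Finset.mul_sum] at h
    · have h0 := D.dual_sum hu'
      rw [← Finset.add_sum_erase _ _ (Finset.mem_univ (oneChar : Cfsg.IrrCharacter K)), oneChar_apply] at h0
      rw [h]; linear_combination -(S μ hμ hμ').ε * h0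
    · congr 1
      have hν1 := Finset.ne_of_mem_erase hν
      by_cases hνδ : ν = δ
      · rw [hνδ, (S μ hμ hμ').bX, hεc]
      · have hYX : (S ν hν1 hνδ).Y ≠ (S μ hμ hμ').X := fun e => (S ν hν1 hνδ).hXY ((hX ν hν1 hνδ).1.trans e.symm)
        rw [hinner ν hν1 hνδ, if_neg (S μ hμ hμ').hX.symm, if_pos rfl, if_neg hYX]
        simp [hεc]
  have hP_t : ∀ Q, Q ∈ T → (Q : G → ℂ) t ^ 2 = 1 := by
    intro Q hQ
    obtain ⟨hQX, hQ1, hQ0⟩ := (hTmem Q).1 hQ
    rw [show (Q : G → ℂ) t = (Q : G → ℂ) ((⟨t, D.htK⟩ : K) : G) from rfl, D.value (irr_isClassFunction Q.2) ht1,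
      Finset.sum_eq_single δ (fun ν _ hν => ?_) (by simp), hn, map_intCast]
    · rcases habs Q hQ with h | h <;> rcases D.lin_t δ with h' | h' <;> simp [h, h']
    · by_cases hν1 : ν = oneChar
      · rw [hν1, D.alpha_oneChar, classInner_zero_l, map_zero, zero_mul]
      · have hY : (S ν hν1 hν).Y ≠ Q := fun e => hQ0 (by
          have h := (S ν hν1 hν).bY
          rw [e, hn] at h
          exact_mod_cast h)
        rw [hinner ν hν1 hν, if_neg (Ne.symm hQ1), if_neg (Ne.symm hQX), if_neg hY]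
        simp
  have hYt : ((S μ hμ hμ').Y : G → ℂ) t ^ 2 = 4 := by
    rw [show ((S μ hμ hμ').Y : G → ℂ) t = ((S μ hμ hμ').Y : G → ℂ) ((⟨t, D.htK⟩ : K) : G) from rfl,
      D.value (irr_isClassFunction (S μ hμ hμ').Y.2) ht1, Finset.sum_congr rfl (g := fun ν : Cfsg.IrrCharacter K => -(S μ hμ hμ').ε *
        (((if ν = μ then (1 : ℂ) else 0) + (if ν = bar K μ then 1 else 0)) * (ν : K → ℂ) ⟨t, D.htK⟩)) (fun ν _ => ?_)]
    · simp only [← Finset.mul_sum, add_mul, ite_mul, one_mul, zero_mul, Finset.sum_add_distrib, Finset.sum_ite_eq',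
        Finset.mem_univ, if_true, D.bar_t]
      rcases D.lin_t μ with h | h <;> rcases (S μ hμ hμ').hε with h' | h' <;> rw [h, h'] <;> norm_num
    · rw [← mul_assoc]
      congr 1
      by_cases hν1 : ν = oneChar
      · subst hν1
        rw [D.alpha_oneChar, classInner_zero_l, map_zero, if_neg hμ.symm, if_neg (bar_ne_one hμ).symm]
        simp
      · by_cases hνδ : ν = δ
        · subst hνδ
          rw [(S μ hμ hμ').bY, if_neg hμ'.symm, if_neg (bar_ne_real hδ' hμ').symm]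
          simp
        · have h := D.alpha_alpha ν μ hν1 hμ
          conv at h => lhs; rw [(S μ hμ hμ').eq]
          rw [classInner_sub_right, classInner_add_right, classInner_smul_right, classInner_smul_right, hεc,
            D.alpha_principal ν hν1, hinner ν hν1 hνδ, hinner ν hν1 hνδ, if_neg (S μ hμ hμ').hX.symm, if_pos rfl,
            if_neg (S μ hμ hμ').hY.symm, if_neg (S μ hμ hμ').hXY,
            if_neg (fun e => (S ν hν1 hνδ).hXY ((hX ν hν1 hνδ).1.trans e.symm))] at h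
          rw [hinner ν hν1 hνδ, if_neg (S μ hμ hμ').hY.symm, if_neg (S μ hμ hμ').hXY]
          simp only [mul_zero, add_zero, zero_add, zero_sub, mul_one, map_neg, map_mul, hεc, sub_zero] at h ⊢
          rw [apply_ite conj, map_one, map_zero]
          linear_combination (-(S μ hμ hμ').ε) * h +
            ((S μ hμ hμ').ε * (if (S ν hν1 hνδ).Y = (S μ hμ hμ').Y then (1 : ℂ) else 0) + (S μ hμ hμ').ε) * hεε
  -- the two remaining constituents have the same signed degree
  obtain ⟨hη, hη'⟩ := And.intro (habs P (by simp [hP2])) (habs P' (by simp [hP2]))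
  have hsame : (n P : ℂ) * (P : G → ℂ) 1 = (n P' : ℂ) * (P' : G → ℂ) 1 := by
    have e1 := D.pairs_alpha μ hμ
    simp only [hinner μ hμ hμ', mul_sub, mul_add, mul_ite, mul_one, mul_zero, Finset.sum_sub_distrib,
      Finset.sum_add_distrib, Finset.sum_ite_eq, Finset.mem_univ, if_true, oneChar_apply, hYt] at e1
    rw [show ((S μ hμ hμ').X : G → ℂ) t = (S μ hμ hμ').ε from hXK t D.htK D.t_ne_one] at e1
    have e2 := D.pairs_alpha δ hδ
    simp only [hn] at e2
    rw [← Finset.sum_subset (Finset.subset_univ {oneChar, (S μ hμ hμ').X, P, P'}) (fun χ _ hχ => by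
      simp only [Finset.mem_insert, Finset.mem_singleton, not_or] at hχ
      rw [hnot χ hχ.1 hχ.2.1 hχ.2.2.1 hχ.2.2.2]; simp),
      Finset.sum_insert (by simp [(S μ hμ hμ').hX.symm, Ne.symm hP.2.1, Ne.symm hP'.2.1]),
      Finset.sum_insert (by simp [Ne.symm hP.1, Ne.symm hP'.1]), Finset.sum_pair hPP, hone, hnX, oneChar_apply,
      oneChar_apply, hP_t P (by simp [hP2]), hP_t P' (by simp [hP2]),
      show ((S μ hμ hμ').X : G → ℂ) t = (S μ hμ hμ').ε from hXK t D.htK D.t_ne_one] at e2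
    push_cast at e2
    have e3 := congrFun hb 1
    have e4 := congrFun (S μ hμ hμ').eq 1
    rw [D.alpha_one] at e3 e4
    simp only [Pi.sub_apply, Pi.add_apply, Pi.smul_apply, smul_eq_mul] at e3 e4
    have hp := apply_one_ne_zero P.2
    have hp' := apply_one_ne_zero P'.2
    have hy := apply_one_ne_zero (S μ hμ hμ').Y.2
    have hs : (n P : ℂ) * n P = 1 := by rcases hη with h | h <;> simp [h]
    have hs' : (n P' : ℂ) * n P' = 1 := by rcases hη' with h | h <;> simp [h]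
    set a := (n P : ℂ) * (P : G → ℂ) 1 with ha
    set b := (n P' : ℂ) * (P' : G → ℂ) 1 with hb'
    set c := (S μ hμ hμ').ε * ((S μ hμ hμ').Y : G → ℂ) 1 with hc
    have ha0 : a ≠ 0 := mul_ne_zero (by rcases hη with h | h <;> simp [h]) hp
    have hb0 : b ≠ 0 := mul_ne_zero (by rcases hη' with h | h <;> simp [h]) hp'
    have hc0 : c ≠ 0 := mul_ne_zero hε0 hy
    have i1 : 1 / (P : G → ℂ) 1 * n P = 1 / a := by
      rw [ha, one_div, one_div, mul_inv, ← eq_inv_of_mul_eq_one_left hs, mul_comm]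
    have i2 : 1 / (P' : G → ℂ) 1 * n P' = 1 / b := by
      rw [hb', one_div, one_div, mul_inv, ← eq_inv_of_mul_eq_one_left hs', mul_comm]
    have i3 : (S μ hμ hμ').ε * (1 / ((S μ hμ hμ').Y : G → ℂ) 1) = 1 / c := by
      rw [hc, one_div, one_div, mul_inv, ← eq_inv_of_mul_eq_one_left hεε]
    have hab : a + b = -c := by linear_combination -e3 + e4
    have hr : 1 / a + 1 / b = -4 * (1 / c) := by
      rw [← i1, ← i2, ← i3]
      linear_combination e2 - e1
    field_simp at hr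
    have hsq : (a - b) ^ 2 = 0 := by linear_combination (a + b) * hab - hr
    exact sub_eq_zero.1 (pow_eq_zero_iff two_ne_zero |>.1 hsq)
  have hsgn : n P = n P' := by
    rcases hη with a | a <;> rcases hη' with b | b <;> rw [a, b] <;> rw [a, b] at hsame <;> exfalso <;>
      · obtain ⟨d, hd, hd'⟩ := degree_eq P
        obtain ⟨d₂, hd₂', hd₂''⟩ := degree_eq P'
        rw [hd', hd₂''] at hsame
        push_cast at hsame
        have h1 : ((d : ℂ) + (d₂ : ℂ)) = 0 := by
          first | linear_combination hsame | linear_combination -hsame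
        norm_cast at h1
        omega
  refine ⟨⟨(S μ hμ hμ').X, P, P', δ, (S μ hμ hμ').ε, n P, (S μ hμ hμ').hε, ?_, hδ, (S μ hμ hμ').hX, hP.2.1, hP'.2.1,
    Ne.symm hP.1, Ne.symm hP'.1, hPP, by rw [hb, hsgn], hXK, hP_t P (by simp [hP2]), hP_t P' (by simp [hP2]), ?_, ?_⟩⟩
  · rcases hη with h | h <;> simp [h]
  · rw [hsgn] at hsame
    exact mul_left_cancel₀ (by rcases hη' with h | h <;> simp [h]) hsame
  · intro χ hχ1 hχX hχP hχP' hχt g hg
    by_contra hne
    refine hχt ?_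
    rw [show (χ : G → ℂ) t = (χ : G → ℂ) ((⟨t, D.htK⟩ : K) : G) from rfl, D.value (irr_isClassFunction χ.2) ht1,
      neg_eq_zero]
    refine Finset.sum_eq_zero fun ν _ => ?_
    by_cases hν1 : ν = oneChar
    · rw [hν1, D.alpha_oneChar, classInner_zero_l, map_zero, zero_mul]
    by_cases hνδ : ν = δ
    · rw [hνδ, hn, hnot χ hχ1 hχX hχP hχP']
      simp
    rw [hinner ν hν1 hνδ, if_neg (Ne.symm hχ1), if_neg (Ne.symm hχX), if_neg (fun e => hne ?_)]
    · simp
    have h0 : alpha K ν g = 0 := by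
      rcases hg with rfl | hg
      · exact D.alpha_one ν
      · exact alpha_wild ν hg
    rw [(S ν hν1 hνδ).eq, (hX ν hν1 hνδ).1, (hX ν hν1 hνδ).2, e] at h0
    simp only [Pi.sub_apply, Pi.add_apply, Pi.smul_apply, smul_eq_mul] at h0
    linear_combination -h0

/-- The character data exist. -/
theorem exists_data : Nonempty (Data t K) := by
  by_cases hk : Nat.card K = 2
  · exact D.data_two hk
  · exact D.data_gt hk

end Hyp

end CfsgLib.BSW
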