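import Mathlib
import Cfsg.Agent.BSW.ChData

/-!
Groups with a generalised dihedral involution centraliser: the order and the centralisers of the remaining elements.
-/

set_option autoImplicit false

namespace CfsgLib.BSW

open CfsgLib.CharBasics CfsgLib.Exceptional
open scoped ComplexConjugate

universe u

theorem isIntegral_exists_int {z : ℂ} (hz : IsIntegral ℤ z) {a b : ℤ} (hb : b ≠ 0) (h : (b : ℂ) * z = a) :
    ∃ m : ℤ, z = m := by
  have hzq : z = algebraMap ℚ ℂ ((a : ℚ) / b) := by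
    simp only [eq_ratCast, Rat.cast_div, Rat.cast_intCast]
    rw [eq_div_iff (Int.cast_ne_zero.2 hb), mul_comm]; exact h
  rw [hzq, isIntegral_algebraMap_iff (algebraMap ℚ ℂ).injective] at hz
  obtain ⟨m, hm⟩ := (IsIntegrallyClosed.isIntegral_iff (R := ℤ) (K := ℚ)).1 hz
  exact ⟨m, by rw [hzq, ← hm]; simp⟩

variable {G : Type u} [Group G] [Fintype G]

/-- The number of pairs of involutions with a given product. -/
noncomputable def pairs (g : G) : ℕ :=
  Nat.card {p : G × G // orderOf p.1 = 2 ∧ orderOf p.2 = 2 ∧ p.1 * p.2 = g}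

namespace Hyp

variable {t s : G} {K : Subgroup G} (D : Hyp t s K)
include D

theorem X_conjIn (d : Data t K) {g : G} (hg : g ≠ 1) (hc : IsConjIn K g) : (d.X : G → ℂ) g = d.ε := by
  obtain ⟨c, hc⟩ := hc
  rw [← isClassFunction (isCharacter_of_irr d.X.2) g c]
  exact d.X_K _ hc fun e => hg (conj_eq_one_iff.1 e)

theorem partition_card :
    Nat.card G = 1 + (cz t).index * (Nat.card K - 1) + Nat.card {g : G // Wild K g} := by
  classical
  rw [← D.card_conjIn, Nat.card_eq_fintype_card, Nat.card_eq_fintype_card, Nat.card_eq_fintype_card,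
    Fintype.card_subtype, Fintype.card_subtype, ← Finset.card_univ,
    ← Finset.card_erase_add_one (Finset.mem_univ (1 : G))]
  have hu : (Finset.univ.filter fun g : G => g ≠ 1 ∧ IsConjIn K g) ∪ (Finset.univ.filter fun g : G => Wild K g)
      = Finset.univ.erase 1 := by
    ext g
    simp only [Finset.mem_union, Finset.mem_filter, Finset.mem_univ, true_and, Finset.mem_erase, and_true]
    exact ⟨fun h => h.elim (fun a => a.1) (fun a => a.1), fun h => (em (IsConjIn K g)).elim
      (fun c => Or.inl ⟨h, c⟩) (fun c => Or.inr ⟨h, c⟩)⟩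
  rw [← hu, Finset.card_union_of_disjoint ?_]
  · ring
  · rw [Finset.disjoint_left]
    intro g h1 h2
    exact (Finset.mem_filter.1 h2).2.2 (Finset.mem_filter.1 h1).2.2

/-- The order of `G` and the values of the pair counting function. -/
theorem census : ∃ e σ : ℤ, (σ = 1 ∨ σ = -1) ∧ e = 1 + 2 * (Nat.card K : ℤ) * σ ∧
    2 * ((cz t).index : ℤ) = e * (e + 1) ∧
    (∀ g : G, Wild K g → 2 * (pairs g : ℤ) = (1 + σ) * e ∨
      2 * (pairs g : ℤ) = (1 + σ) * e - (1 - σ + 2 * (Nat.card K : ℤ) * σ)) ∧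
    (Nat.card {g : G // Wild K g ∧ 2 * (pairs g : ℤ) = (1 + σ) * e} : ℤ) = e ^ 2 - 1 := by
  classical
  haveI := finite_irrCharacter (G := G)
  haveI := Fintype.ofFinite (Cfsg.IrrCharacter G)
  obtain ⟨d⟩ := D.exists_data
  obtain ⟨hε0, hεε, hεc⟩ := sign_facts d.hε
  obtain ⟨hη0, hηη, -⟩ := sign_facts d.hη
  obtain ⟨e, he⟩ : ∃ e : ℤ, (e : ℂ) = d.ε * (d.X : G → ℂ) 1 := by
    rcases d.hε with h | h
    · exact ⟨Cfsg.charDegree (d.X : G → ℂ), by rw [h, apply_one (isCharacter_of_irr d.X.2)]; push_cast; ring⟩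
    · exact ⟨-Cfsg.charDegree (d.X : G → ℂ), by rw [h, apply_one (isCharacter_of_irr d.X.2)]; push_cast; ring⟩
  have hb1 : d.η * (d.P : G → ℂ) 1 = -(1 + (e : ℂ)) / 2 := by
    have h := congrFun d.beta 1
    rw [D.alpha_one] at h
    simp only [Pi.add_apply, Pi.smul_apply, smul_eq_mul, ← d.deg, ← he] at h
    linear_combination -h / 2
  have he0 : (e : ℂ) ≠ 0 := by rw [he]; exact mul_ne_zero hε0 (apply_one_ne_zero d.X.2)
  have he1 : (1 : ℂ) + e ≠ 0 := fun h => by
    rw [h] at hb1
    simp [hη0, apply_one_ne_zero d.P.2] at hb1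
  have hXt : (d.X : G → ℂ) t = d.ε := d.X_K t D.htK D.t_ne_one
  have hk0 : (Nat.card K : ℂ) ≠ 0 := Nat.cast_ne_zero.2 Nat.card_pos.ne'
  have hν0 : ((cz t).index : ℂ) ≠ 0 := Nat.cast_ne_zero.2 Subgroup.index_ne_zero_of_finite
  -- the order
  have hord : ((cz t).index : ℤ) * (e - 1) ^ 2 = 2 * (Nat.card K : ℤ) ^ 2 * (e * (e + 1)) := by
    have h := D.pairs_alpha d.δ d.δ_ne
    rw [d.beta] at h
    simp only [classInner_add_left, classInner_smul_left, show (fun _ : G => (1 : ℂ)) =
      ((oneChar : Cfsg.IrrCharacter G) : G → ℂ) from rfl, inner_irr_single, mul_add, mul_ite, mul_one, mul_zero,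
      Finset.sum_add_distrib, Finset.sum_ite_eq, Finset.mem_univ, if_true, oneChar_apply, d.P_t, d.P'_t, ← d.deg,
      hXt] at h
    have i1 : d.ε ^ 2 / (d.X : G → ℂ) 1 * d.ε = 1 / (e : ℂ) := by
      rw [he, sq, hεε, one_div, one_div, mul_inv, ← eq_inv_of_mul_eq_one_left hεε, mul_comm]
    have i2 : 1 / (d.P : G → ℂ) 1 * d.η = -2 / (1 + (e : ℂ)) := by
      have : 1 / (d.P : G → ℂ) 1 * d.η = 1 / (d.η * (d.P : G → ℂ) 1) := by
        rw [one_div, one_div, mul_inv, ← eq_inv_of_mul_eq_one_left hηη, mul_comm]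
      rw [this, hb1, one_div_div, div_neg, neg_div]
    rw [i1, i2] at h
    have h' : ((((cz t).index : ℤ) * (e - 1) ^ 2 : ℤ) : ℂ) = ((2 * (Nat.card K : ℤ) ^ 2 * (e * (e + 1)) : ℤ) : ℂ) := by
      push_cast
      field_simp at h
      linear_combination h
    exact_mod_cast h'
  have hdvd : 2 * (Nat.card K : ℤ) ∣ e - 1 := by
    haveI := Fintype.ofFinite (cz t)
    obtain ⟨m, hm⟩ := classInner_characters_nat (isCharacter_restrict (isCharacter_of_irr d.X.2) (cz t))
      (isCharacter_of_irr (isIrrCharacter_one (G := cz t)))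
    rw [classInner_eq, ← Finset.add_sum_erase _ _ (Finset.mem_univ (1 : cz t)),
      Finset.sum_congr rfl (g := fun _ => d.ε) (fun x hx => ?_)] at hm
    · rw [Finset.sum_const, Finset.card_erase_of_mem (Finset.mem_univ _), Finset.card_univ, nsmul_eq_mul,
        ← Nat.card_eq_fintype_card, D.card_cz, Nat.cast_sub (by have := Nat.card_pos (α := K); omega)] at hm
      simp only [map_one, mul_one, OneMemClass.coe_one] at hm
      push_cast at hm
      field_simp at hm
      rcases d.hε with h | h <;> rw [h] at hm he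
      · refine ⟨(m : ℤ) - 1, ?_⟩
        have : ((e - 1 : ℤ) : ℂ) = ((2 * (Nat.card K : ℤ) * ((m : ℤ) - 1) : ℤ) : ℂ) := by
          push_cast; linear_combination he + hm
        exact_mod_cast this
      · refine ⟨-(m : ℤ) - 1, ?_⟩
        have : ((e - 1 : ℤ) : ℂ) = ((2 * (Nat.card K : ℤ) * (-(m : ℤ) - 1) : ℤ) : ℂ) := by
          push_cast; linear_combination he - hm
        exact_mod_cast this
    · simp only [map_one, mul_one]
      exact D.X_conjIn d (fun h => Finset.ne_of_mem_erase hx (Subtype.ext h)) (D.mem_cz_isConjIn D.ht x.2)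
  obtain ⟨σ, hσ'⟩ := hdvd
  have hk2 : (2 : ℤ) ≤ Nat.card K := by
    have h1 := Nat.card_pos (α := K)
    obtain ⟨a, ha⟩ := D.even_card
    omega
  have he' : e = 1 + 2 * (Nat.card K : ℤ) * σ := by linarith
  have hν : 2 * σ ^ 2 * ((cz t).index : ℤ) = e * (e + 1) := by
    have h1 : 2 * (Nat.card K : ℤ) ^ 2 * (2 * σ ^ 2 * ((cz t).index : ℤ) - e * (e + 1)) = 0 := by
      rw [hσ'] at hord; linear_combination hord
    rcases mul_eq_zero.1 h1 with h2 | h2
    · nlinarith
    · linarith
  have hσ : σ = 1 ∨ σ = -1 := by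
    have hdiv : σ ∣ 2 := by
      refine (Int.dvd_add_left (dvd_mul_left σ (6 * (Nat.card K : ℤ) + 4 * (Nat.card K : ℤ) ^ 2 * σ))).1
        ⟨2 * σ * ((cz t).index : ℤ), ?_⟩
      rw [he'] at hν
      linear_combination -hν
    have h2 : σ.natAbs ≤ 2 := Nat.le_of_dvd two_pos (Int.natAbs_dvd_natAbs.2 hdiv)
    have hne : σ ≠ 0 := fun h => by
      have : e = 1 := by rw [he', h, mul_zero, add_zero]
      rw [h, this] at hν
      norm_num at hν
    have h4 : σ ≠ 2 ∧ σ ≠ -2 := by
      constructor <;> intro h <;> rw [h] at hν he' <;> rw [he'] at hν <;> ring_nf at hν <;> omega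
    omega
  have hσ2 : σ ^ 2 = 1 := by rcases hσ with h | h <;> simp [h]
  rw [hσ2, mul_one] at hν
  -- values on the wild elements
  have hcoef : (1 - σ + 2 * (Nat.card K : ℤ) * σ) ≠ 0 := by rcases hσ with h | h <;> subst h <;> omega
  have hrest : ∑ χ ∈ Finset.univ \ ({oneChar, d.X, d.P, d.P'} : Finset (Cfsg.IrrCharacter G)), (χ : G → ℂ) t ^ 2 =
      2 * (Nat.card K : ℂ) - 4 := by
    have h := sum_col t t
    rw [if_pos (IsConj.refl t), D.card_cz, Nat.cast_mul, Nat.cast_ofNat] at h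
    rw [← Finset.sum_sdiff (Finset.subset_univ ({oneChar, d.X, d.P, d.P'} : Finset (Cfsg.IrrCharacter G))),
      Finset.sum_insert (by simp [d.X_one.symm, d.P_one.symm, d.P'_one.symm]),
      Finset.sum_insert (by simp [d.XP, d.XP']), Finset.sum_pair d.PP', oneChar_apply, map_one, D.apply_t_real,
      D.apply_t_real, D.apply_t_real, hXt, hεε, mul_one, ← sq, d.P_t, ← sq, d.P'_t,
      Finset.sum_congr rfl (g := fun χ : Cfsg.IrrCharacter G => (χ : G → ℂ) t ^ 2)
        (fun χ _ => by rw [D.apply_t_real, sq])] at h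
    linear_combination h
  have hval : ∀ g : G, Wild K g → 2 * (pairs g : ℂ) =
      (1 + σ) * e + (1 - σ + 2 * (Nat.card K : ℂ) * σ) * (d.ε * (d.X : G → ℂ) g) := by
    intro g hg
    have h := D.pairs_eq g
    rw [← Finset.sum_sdiff (Finset.subset_univ ({oneChar, d.X, d.P, d.P'} : Finset (Cfsg.IrrCharacter G))),
      Finset.sum_congr rfl (g := fun χ : Cfsg.IrrCharacter G => (χ : G → ℂ) t ^ 2 *
        ((1 + d.ε * (d.X : G → ℂ) g) / (1 + (e : ℂ)))) (fun χ hχ => ?_), ← Finset.sum_mul, hrest,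
      Finset.sum_insert (by simp [d.X_one.symm, d.P_one.symm, d.P'_one.symm]),
      Finset.sum_insert (by simp [d.XP, d.XP']), Finset.sum_pair d.PP', oneChar_apply, oneChar_apply, oneChar_apply,
      hXt, d.P_t, d.P'_t, ← d.deg] at h
    · have hbg := congrFun d.beta g
      rw [alpha_wild d.δ hg] at hbg
      simp only [Pi.add_apply, Pi.smul_apply, smul_eq_mul] at hbg
      have j1 : d.ε ^ 2 / (d.X : G → ℂ) 1 * (d.X : G → ℂ) g = d.ε * (d.X : G → ℂ) g / (e : ℂ) := by
        rw [he, sq, hεε, one_div_mul_eq_div, mul_div_mul_left _ _ hε0]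
      have j2 : 1 / (d.P : G → ℂ) 1 * (d.P : G → ℂ) g + 1 / (d.P : G → ℂ) 1 * (d.P' : G → ℂ) g =
          2 * (1 + d.ε * (d.X : G → ℂ) g) / (1 + (e : ℂ)) := by
        have : d.η * ((d.P : G → ℂ) g + (d.P' : G → ℂ) g) = -(1 + d.ε * (d.X : G → ℂ) g) := by linear_combination -hbg
        rw [← mul_add, one_div_mul_eq_div, ← mul_div_mul_left _ _ hη0, this, hb1]
        field_simp
      rw [j1, j2] at h
      have hν' : 2 * ((cz t).index : ℂ) = (e : ℂ) * ((e : ℂ) + 1) := by exact_mod_cast hν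
      have he'' : (e : ℂ) = 1 + 2 * (Nat.card K : ℂ) * σ := by rw [he']; push_cast; rfl
      field_simp at h
      refine mul_left_cancel₀ (mul_ne_zero (mul_ne_zero two_ne_zero hk0) (mul_ne_zero he0 he1)) ?_
      simp only [pairs]
      linear_combination -2 * h + (e * (1 + e) + d.ε * (d.X : G → ℂ) g * (1 + e) +
        (2 * (Nat.card K : ℂ) - 2) * e * (1 + d.ε * (d.X : G → ℂ) g)) * hν' +
        e * (1 + e) * (e + d.ε * (d.X : G → ℂ) g * (2 * (Nat.card K : ℂ) - 1)) * he''
    · simp only [Finset.mem_sdiff, Finset.mem_univ, true_and, Finset.mem_insert, Finset.mem_singleton, not_or] at hχ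
      by_cases hχt : (χ : G → ℂ) t = 0
      · simp [hχt]
      · have k1 := d.others χ hχ.1 hχ.2.1 hχ.2.2.1 hχ.2.2.2 hχt g (Or.inr hg)
        have k2 := d.others χ hχ.1 hχ.2.1 hχ.2.2.1 hχ.2.2.2 hχt 1 (Or.inl rfl)
        rw [← he] at k2
        rw [← k1, ← k2, mul_div_mul_left _ _ hε0, div_mul_eq_mul_div, mul_div_assoc]
  have hw : ∀ g : G, ∃ w : ℤ, d.ε * (d.X : G → ℂ) g = w := by
    intro g
    by_cases hg1 : g = 1
    · exact ⟨e, by rw [hg1, he]⟩
    by_cases hc : IsConjIn K g
    · exact ⟨1, by rw [D.X_conjIn d hg1 hc, hεε, Int.cast_one]⟩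
    · refine isIntegral_exists_int ?_ hcoef (a := 2 * (pairs g : ℤ) - (1 + σ) * e) ?_
      · rcases d.hε with h | h <;> rw [h]
        · rw [one_mul]; exact isIntegral_apply (isCharacter_of_irr d.X.2) g
        · rw [neg_one_mul]; exact (isIntegral_apply (isCharacter_of_irr d.X.2) g).neg
      · push_cast
        linear_combination -(hval g ⟨hg1, hc⟩)
  choose w hw using hw
  have hXg : ∀ g, (d.X : G → ℂ) g = d.ε * (w g : ℂ) := fun g => by rw [← hw g, ← mul_assoc, hεε, one_mul]
  have hsum0 : ∑ g, w g = 0 := by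
    have h := sum_irr_eq_zero d.X.2 (fun e' => d.X_one (Subtype.ext e'))
    simp only [hXg, ← Finset.mul_sum, mul_eq_zero, hε0, false_or] at h
    exact_mod_cast h
  have hsum2 : ∑ g, w g ^ 2 = (Nat.card G : ℤ) := by
    have h := sum_mul_conj d.X d.X
    rw [if_pos rfl] at h
    simp only [hXg, map_mul, hεc, map_intCast] at h
    rw [Finset.sum_congr rfl (fun g _ => show d.ε * (w g : ℂ) * (d.ε * (w g : ℂ)) = ((w g ^ 2 : ℤ) : ℂ) by
      push_cast; linear_combination (w g : ℂ) ^ 2 * hεε), ← Int.cast_sum] at h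
    exact_mod_cast h
  have hw1 : w 1 = e := by
    have : ((w 1 : ℤ) : ℂ) = (e : ℂ) := by rw [← hw 1, he]
    exact_mod_cast this
  have hwK : ∀ g, g ≠ 1 → IsConjIn K g → w g = 1 := fun g hg hc => by
    have : ((w g : ℤ) : ℂ) = ((1 : ℤ) : ℂ) := by rw [← hw g, D.X_conjIn d hg hc, hεε, Int.cast_one]
    exact_mod_cast this
  have split : ∀ F : G → ℤ, ∑ g, F g = F 1 + ∑ g ∈ Finset.univ.filter (fun g => g ≠ 1 ∧ IsConjIn K g), F g +
      ∑ g ∈ Finset.univ.filter (fun g => Wild K g), F g := by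
    intro F
    rw [← Finset.add_sum_erase _ _ (Finset.mem_univ (1 : G)),
      ← Finset.sum_filter_add_sum_filter_not (Finset.univ.erase 1) (fun g => IsConjIn K g), ← add_assoc]
    congr 1
    · congr 1
      exact Finset.sum_congr (by ext g; simp) fun _ _ => rfl
    · exact Finset.sum_congr (by ext g; simp only [Finset.mem_filter, Finset.mem_univ, true_and, Finset.mem_erase, and_true]; rfl) fun _ _ => rfl
  have hCK : ((Finset.univ.filter fun g : G => g ≠ 1 ∧ IsConjIn K g).card : ℤ) =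
      ((cz t).index : ℤ) * ((Nat.card K : ℤ) - 1) := by
    rw [← Fintype.card_subtype, ← Nat.card_eq_fintype_card, D.card_conjIn, Nat.cast_mul,
      Nat.cast_sub (Nat.one_le_iff_ne_zero.2 Nat.card_pos.ne'), Nat.cast_one]
  have hGc : (Nat.card G : ℤ) = 2 * (Nat.card K : ℤ) * (cz t).index := by rw [D.card_G]; push_cast; rfl
  have s1 := split w
  have s2 := split fun g => w g ^ 2
  rw [hsum0, hw1, Finset.sum_congr rfl (g := fun _ => (1 : ℤ)) (fun g hg => hwK g (Finset.mem_filter.1 hg).2.1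
    (Finset.mem_filter.1 hg).2.2), Finset.sum_const, nsmul_eq_mul, mul_one, hCK] at s1
  rw [hsum2, hw1, Finset.sum_congr rfl (g := fun _ => (1 : ℤ)) (fun g hg => by
    rw [hwK g (Finset.mem_filter.1 hg).2.1 (Finset.mem_filter.1 hg).2.2, one_pow]), Finset.sum_const, nsmul_eq_mul,
    mul_one, hCK, hGc] at s2
  have hzero : ∑ g ∈ Finset.univ.filter (fun g => Wild K g), (w g ^ 2 + w g) = 0 := by
    rw [Finset.sum_add_distrib]; linear_combination -s1 - s2 + hν
  have hwW : ∀ g, Wild K g → w g = 0 ∨ w g = -1 := by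
    intro g hg
    have hnn : ∀ x : ℤ, 0 ≤ x ^ 2 + x := fun x => by
      rcases le_or_gt 0 x with h | h
      · positivity
      · nlinarith
    have h := (Finset.sum_eq_zero_iff_of_nonneg fun g _ => hnn (w g)).1 hzero g
      (Finset.mem_filter.2 ⟨Finset.mem_univ _, hg⟩)
    rcases mul_eq_zero.1 (show w g * (w g + 1) = 0 by linear_combination h) with h' | h'
    · exact Or.inl h'
    · exact Or.inr (by linarith)
  have hp : ∀ g, Wild K g → 2 * (pairs g : ℤ) = (1 + σ) * e + (1 - σ + 2 * (Nat.card K : ℤ) * σ) * w g := by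
    intro g hg
    have h := hval g hg
    rw [hw g] at h
    exact_mod_cast h
  refine ⟨e, σ, hσ, he', hν, fun g hg => ?_, ?_⟩
  · rcases hwW g hg with h | h
    · left; rw [hp g hg, h]; ring
    · right; rw [hp g hg, h]; ring
  · have h3 := D.partition_card
    have hW : ((Finset.univ.filter fun g : G => Wild K g).card : ℤ) =
        (Nat.card G : ℤ) - 1 - ((cz t).index : ℤ) * ((Nat.card K : ℤ) - 1) := by
      rw [← Fintype.card_subtype, ← Nat.card_eq_fintype_card]
      have h4 := congrArg (fun x : ℕ => (x : ℤ)) h3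
      simp only [Nat.cast_add, Nat.cast_mul, Nat.cast_one, Nat.cast_sub (Nat.one_le_iff_ne_zero.2
        (Nat.card_pos (α := K)).ne')] at h4
      linarith
    rw [Nat.card_eq_fintype_card, Fintype.card_subtype, show (Finset.univ.filter fun g : G => Wild K g ∧
        2 * (pairs g : ℤ) = (1 + σ) * e) = (Finset.univ.filter fun g : G => Wild K g).filter (fun g => w g = 0) from ?_]
    · have hcnt : (((Finset.univ.filter fun g : G => Wild K g).filter (fun g => w g = 0)).card : ℤ) =
          ∑ g ∈ Finset.univ.filter (fun g => Wild K g), (1 - w g ^ 2) := by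
        rw [Finset.card_filter]
        push_cast
        refine Finset.sum_congr rfl fun g hg => ?_
        rcases hwW g (Finset.mem_filter.1 hg).2 with h | h <;> simp [h]
      rw [hcnt, Finset.sum_sub_distrib, Finset.sum_const, nsmul_eq_mul, mul_one, hW, hGc]
      linear_combination s2
    · ext g
      simp only [Finset.mem_filter, Finset.mem_univ, true_and]
      refine and_congr_right fun hg => ?_
      rw [hp g hg]
      constructor
      · intro h
        exact (mul_eq_zero.1 (by linarith : (1 - σ + 2 * (Nat.card K : ℤ) * σ) * w g = 0)).resolve_left hcoef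
      · intro h; rw [h]; ring

end Hyp

end CfsgLib.BSW
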