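import Mathlib
import Cfsg.Agent.BSW.Setup

/-!
Finite groups of odd order in which the elements of order prime to `r` have self-normalising trivial intersection
centralisers; a Sylow argument.
-/

set_option autoImplicit false

namespace CfsgLib.BSW

universe u

variable {L : Type u} [Group L] [Finite L]

theorem card_cz_conj (c x : L) : Nat.card (cz (c * x * c⁻¹)) = Nat.card (cz x) :=
  (Nat.card_congr ((MulAut.conj c).toEquiv.subtypeEquiv fun y => (cz_conj c).symm)).symm

/-- An element of a `p`-group commuting with all of it. -/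
theorem exists_central {p : ℕ} [Fact p.Prime] {P : Subgroup L} (hP : IsPGroup p P) (hne : P ≠ ⊥) :
    ∃ z ∈ P, z ≠ 1 ∧ P ≤ cz z := by
  haveI : Nontrivial P := (Subgroup.nontrivial_iff_ne_bot P).2 hne
  haveI := hP.center_nontrivial
  obtain ⟨z, hz⟩ := exists_ne (1 : Subgroup.center P)
  refine ⟨((z : P) : L), (z : P).2, fun h => hz (Subtype.ext (Subtype.ext h)), fun y hy => mem_cz.2 ?_⟩
  exact congrArg Subtype.val (Subgroup.mem_center_iff.1 z.2 ⟨y, hy⟩)

/-- A subgroup containing an element of order `p` and the centralisers of its `p`-elements meets every class of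
elements of order `p`. -/
theorem conj_into_of_prime {p : ℕ} (hp : p.Prime) (A : Subgroup L) {u : L} (hu : u ∈ A) (huo : orderOf u = p)
    (hA : ∀ x ∈ A, x ≠ 1 → (∃ n : ℕ, orderOf x = p ^ n) → cz x ≤ A) {y : L} (hy : orderOf y = p) :
    ∃ c : L, c * y * c⁻¹ ∈ A := by
  haveI := Fact.mk hp
  have hpg : ∀ v : L, orderOf v = p → IsPGroup p (Subgroup.zpowers v) := fun v hv =>
    IsPGroup.of_card (n := 1) (by rw [Nat.card_zpowers, hv, pow_one])
  obtain ⟨P, hP⟩ := (hpg u huo).exists_le_sylow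
  have huP : u ∈ (P : Subgroup L) := hP (Subgroup.mem_zpowers u)
  have hu1 : u ≠ 1 := fun h => hp.one_lt.ne (by rw [← huo, h, orderOf_one])
  obtain ⟨z, hzP, hz1, hPz⟩ := exists_central P.isPGroup' (fun h => hu1 (by
    rw [h, Subgroup.mem_bot] at huP; exact huP))
  have hzA : z ∈ A := hA u hu hu1 ⟨1, by rw [huo, pow_one]⟩ (mem_cz_comm.1 (hPz huP))
  have hzo : ∃ n : ℕ, orderOf z = p ^ n := by
    obtain ⟨n, hn⟩ := IsPGroup.iff_orderOf.1 P.isPGroup' ⟨z, hzP⟩
    exact ⟨n, by rw [← hn, Subgroup.orderOf_mk]⟩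
  obtain ⟨R, hR⟩ := (hpg y hy).exists_le_sylow
  obtain ⟨c, hc⟩ := MulAction.exists_smul_eq L R P
  refine ⟨c, hA z hzA hz1 hzo (hPz ?_)⟩
  rw [← hc, Sylow.coe_subgroup_smul]
  exact Subgroup.mem_pointwise_smul_iff_inv_smul_mem.2 (by
    simpa [MulAut.smul_def, mul_assoc] using hR (Subgroup.mem_zpowers y))

theorem three_le_card_cz (hodd : Odd (Nat.card L)) {x : L} (hx : x ≠ 1) : 3 ≤ Nat.card (cz x) := by
  have h1 : 1 < Nat.card (cz x) := (Subgroup.one_lt_card_iff_ne_bot _).2 fun h => hx <| by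
    have h2 : x ∈ cz x := mem_cz.2 rfl
    rw [h, Subgroup.mem_bot] at h2; exact h2
  obtain ⟨a, ha⟩ := hodd.of_dvd_nat (Subgroup.card_subgroup_dvd_card (cz x))
  omega

/-- The structure of such a group. -/
theorem fpf_split {r : ℕ} (hr : r.Prime) (hodd : Odd (Nat.card L))
    (hdich : ∀ x : L, r ∣ orderOf x → orderOf x = r)
    (hC : ∀ x : L, x ≠ 1 → orderOf x ≠ r → ∀ y ∈ cz x, y ≠ 1 → orderOf y ≠ r ∧ cz y = cz x)
    (hN : ∀ x : L, x ≠ 1 → orderOf x ≠ r → ∀ m : L, m * x * m⁻¹ ∈ cz x → m ∈ cz x) :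
    ∃ R : Subgroup L, IsPGroup r R ∧ (∀ x : L, orderOf x = r → x ∈ R) ∧
      ∀ x : L, x ≠ 1 → orderOf x ≠ r → Nat.card L = Nat.card R * Nat.card (cz x) := by
  classical
  haveI := Fact.mk hr
  haveI := Fintype.ofFinite L
  by_cases hex : ∃ x : L, x ≠ 1 ∧ orderOf x ≠ r
  swap
  · push Not at hex
    refine ⟨⊤, IsPGroup.iff_orderOf.2 fun x => ?_, fun _ _ => Subgroup.mem_top _, fun x h1 h2 => absurd (hex x h1) h2⟩
    by_cases h : (x : L) = 1
    · exact ⟨0, by rw [pow_zero, orderOf_eq_one_iff]; exact Subtype.ext h⟩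
    · exact ⟨1, by rw [pow_one, ← Subgroup.orderOf_coe]; exact hex _ h⟩
  obtain ⟨x₀, hx₀, hx₀r⟩ := hex
  let S : L → Finset L := fun x => Finset.univ.filter fun z => z ≠ 1 ∧ ∃ c : L, c * z * c⁻¹ ∈ cz x
  have hScard : ∀ x : L, x ≠ 1 → orderOf x ≠ r → (S x).card = (cz x).index * (Nat.card (cz x) - 1) := by
    intro x hx hxr
    have key : Function.Bijective (fun q : (L ⧸ cz x) × {y : cz x // y ≠ 1} =>
        (⟨q.1.out * (q.2.1 : L) * q.1.out⁻¹, fun e => q.2.2 (Subtype.ext (conj_eq_one_iff.1 e)), q.1.out⁻¹, by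
          rw [show q.1.out⁻¹ * (q.1.out * (q.2.1 : L) * q.1.out⁻¹) * q.1.out⁻¹⁻¹ = (q.2.1 : L) by group]
          exact q.2.1.2⟩ : {z : L // z ≠ 1 ∧ ∃ c : L, c * z * c⁻¹ ∈ cz x})) := by
      refine ⟨?_, ?_⟩
      · rintro ⟨q, y, hy⟩ ⟨q', y', hy'⟩ e
        have e' : q.out * (y : L) * q.out⁻¹ = q'.out * (y' : L) * q'.out⁻¹ := congrArg Subtype.val e
        obtain ⟨hyr, hyc⟩ := hC x hx hxr y y.2 fun h => hy (Subtype.ext h)
        have hm : q'.out⁻¹ * q.out ∈ cz x := by
          refine hyc.le ?_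
          refine hN y (fun h => hy (Subtype.ext h)) hyr _ ?_
          rw [hyc, show q'.out⁻¹ * q.out * (y : L) * (q'.out⁻¹ * q.out)⁻¹ =
            q'.out⁻¹ * (q.out * (y : L) * q.out⁻¹) * q'.out by group, e',
            show q'.out⁻¹ * (q'.out * (y' : L) * q'.out⁻¹) * q'.out = (y' : L) by group]
          exact y'.2
        obtain rfl : q' = q := by
          rw [← QuotientGroup.out_eq' q', ← QuotientGroup.out_eq' q]
          exact QuotientGroup.eq.2 hm
        obtain rfl : y = y' := Subtype.ext (mul_left_cancel (mul_right_cancel e'))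
        rfl
      · rintro ⟨z, hz, c, hc⟩
        obtain ⟨m, hm⟩ := QuotientGroup.mk_out_eq_mul (cz x) c⁻¹
        have hmem : (m : L)⁻¹ * (c * z * c⁻¹) * (m : L)⁻¹⁻¹ ∈ cz x :=
          mul_mem (mul_mem (inv_mem m.2) hc) (inv_mem (inv_mem m.2))
        refine ⟨⟨((c⁻¹ : L) : L ⧸ cz x), ⟨⟨_, hmem⟩, fun e => hz ?_⟩⟩, Subtype.ext ?_⟩
        · exact conj_eq_one_iff.1 (conj_eq_one_iff.1
            (congrArg Subtype.val e : (m : L)⁻¹ * (c * z * c⁻¹) * (m : L)⁻¹⁻¹ = 1))
        · simp only [hm]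
          group
    rw [← Fintype.card_subtype, ← Nat.card_eq_fintype_card, ← Nat.card_congr (Equiv.ofBijective _ key), Nat.card_prod,
      ← Subgroup.index_eq_card, Nat.card_eq_fintype_card (α := {y : cz x // y ≠ 1}), Fintype.card_subtype_compl,
      Fintype.card_subtype_eq, Nat.card_eq_fintype_card (α := cz x)]
  have hall : ∀ z : L, z ≠ 1 → orderOf z ≠ r → ∃ c : L, c * z * c⁻¹ ∈ cz x₀ := by
    intro z hz hzr
    by_contra hno
    have hdisj : Disjoint (S x₀) (S z) := by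
      rw [Finset.disjoint_left]
      intro w hw0 hw1
      simp only [S, Finset.mem_filter, Finset.mem_univ, true_and] at hw0 hw1
      obtain ⟨hw, c, hc⟩ := hw0
      obtain ⟨-, d, hd⟩ := hw1
      have e0 := (hC x₀ hx₀ hx₀r _ hc (fun h => hw (conj_eq_one_iff.1 h))).2
      have h1 := (cz_conj (c * d⁻¹)).2 (mem_cz_comm.1 hd)
      rw [show c * d⁻¹ * (d * w * d⁻¹) * (c * d⁻¹)⁻¹ = c * w * c⁻¹ by group, e0] at h1
      exact hno ⟨c * d⁻¹, h1⟩
    have hsub : S x₀ ∪ S z ⊆ Finset.univ.erase (1 : L) := by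
      intro w hw
      simp only [S, Finset.mem_union, Finset.mem_filter, Finset.mem_univ, true_and] at hw
      exact Finset.mem_erase.2 ⟨hw.elim (fun h => h.1) (fun h => h.1), Finset.mem_univ _⟩
    have hle := Finset.card_le_card hsub
    rw [Finset.card_union_of_disjoint hdisj, hScard x₀ hx₀ hx₀r, hScard z hz hzr,
      Finset.card_erase_of_mem (Finset.mem_univ _), Finset.card_univ, ← Nat.card_eq_fintype_card] at hle
    have hpos : 0 < Nat.card L := Nat.card_pos
    have bound : ∀ a b : ℕ, a * b = Nat.card L → 3 ≤ b → 2 * Nat.card L ≤ 3 * (a * (b - 1)) := by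
      intro a b hab hb
      obtain ⟨b, rfl⟩ : ∃ j, b = j + 3 := ⟨b - 3, by omega⟩
      rw [show b + 3 - 1 = b + 2 from rfl]
      nlinarith
    have b0 := bound _ _ (Subgroup.index_mul_card (cz x₀)) (three_le_card_cz hodd hx₀)
    have b1 := bound _ _ (Subgroup.index_mul_card (cz z)) (three_le_card_cz hodd hz)
    omega
  have hncop : ¬ r ∣ Nat.card (cz x₀) := fun h => by
    obtain ⟨y, hy⟩ := exists_prime_orderOf_dvd_card' (G := cz x₀) r h
    refine (hC x₀ hx₀ hx₀r y y.2 (fun e => ?_)).1 (by rw [Subgroup.orderOf_coe]; exact hy)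
    rw [OneMemClass.coe_eq_one.1 e, orderOf_one] at hy
    exact hr.one_lt.ne hy
  have hecard : ∀ z : L, z ≠ 1 → orderOf z ≠ r → Nat.card (cz z) = Nat.card (cz x₀) := by
    intro z hz hzr
    obtain ⟨c, hc⟩ := hall z hz hzr
    rw [← card_cz_conj c z, (hC x₀ hx₀ hx₀r _ hc (fun h => hz (conj_eq_one_iff.1 h))).2]
  let P : Sylow r L := default
  have hR : Nat.card L = Nat.card (P : Subgroup L) * Nat.card (cz x₀) := by
    refine Nat.dvd_antisymm ?_ ?_
    · rw [Nat.dvd_iff_prime_pow_dvd_dvd]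
      intro p j hp hj
      haveI := Fact.mk hp
      obtain ⟨A, hA⟩ := Sylow.exists_subgroup_card_pow_prime p hj
      by_cases hpr : p = r
      · subst hpr
        obtain ⟨Q, hQ⟩ := (IsPGroup.of_card hA).exists_le_sylow
        refine Dvd.dvd.mul_right ?_ _
        rw [← hA, Nat.card_congr (Sylow.equiv P Q).toEquiv]
        exact Subgroup.card_dvd_of_le hQ
      · refine Dvd.dvd.mul_left ?_ _
        rw [← hA]
        by_cases hA1 : A = ⊥
        · rw [hA1, Subgroup.card_bot]; exact one_dvd _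
        obtain ⟨z, hzA, hz1, hAz⟩ := exists_central (IsPGroup.of_card hA) hA1
        have hzr : orderOf z ≠ r := fun h => hpr (by
          obtain ⟨n, hn⟩ := IsPGroup.iff_orderOf.1 (IsPGroup.of_card hA) ⟨z, hzA⟩
          rw [Subgroup.orderOf_mk, h] at hn
          exact ((Nat.prime_dvd_prime_iff_eq hr hp).1 (hr.dvd_of_dvd_pow (dvd_of_eq hn))).symm)
        rw [← hecard z hz1 hzr]
        exact Subgroup.card_dvd_of_le hAz
    · refine Nat.Coprime.mul_dvd_of_dvd_of_dvd ?_ (Subgroup.card_subgroup_dvd_card _)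
        (Subgroup.card_subgroup_dvd_card _)
      obtain ⟨j, hj⟩ := IsPGroup.iff_card.1 P.isPGroup'
      rw [hj]
      exact Nat.Coprime.pow_left _ (hr.coprime_iff_not_dvd.2 hncop)
  refine ⟨P, P.isPGroup', ?_, fun z hz hzr => by rw [hR, hecard z hz hzr]⟩
  have hsub : Finset.univ.filter (fun z : L => z ∈ (P : Subgroup L)) ⊆
      Finset.univ.filter (fun z : L => z = 1 ∨ orderOf z = r) := by
    intro z hz
    simp only [Finset.mem_filter, Finset.mem_univ, true_and] at hz ⊢
    obtain ⟨j, hj⟩ := IsPGroup.iff_orderOf.1 P.isPGroup' ⟨z, hz⟩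
    rw [Subgroup.orderOf_mk] at hj
    rcases Nat.eq_zero_or_pos j with rfl | h
    · exact Or.inl (orderOf_eq_one_iff.1 (by simpa using hj))
    · exact Or.inr (hdich z (hj ▸ dvd_pow_self r h.ne'))
  have hcount : (Finset.univ.filter fun z : L => z = 1 ∨ orderOf z = r).card ≤ (cz x₀).index := by
    have hd : Disjoint (S x₀) (Finset.univ.filter fun z : L => z = 1 ∨ orderOf z = r) := by
      rw [Finset.disjoint_left]
      intro w hw h'
      simp only [S, Finset.mem_filter, Finset.mem_univ, true_and] at hw h'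
      obtain ⟨hw1, c, hc⟩ := hw
      rcases h' with h' | h'
      · exact hw1 h'
      · exact (hC x₀ hx₀ hx₀r _ hc (fun h => hw1 (conj_eq_one_iff.1 h))).1 (by rw [Invol.orderOf_conj]; exact h')
    have h1 := Finset.card_le_univ (S x₀ ∪ Finset.univ.filter fun z : L => z = 1 ∨ orderOf z = r)
    rw [Finset.card_union_of_disjoint hd, hScard x₀ hx₀ hx₀r, ← Nat.card_eq_fintype_card (α := L),
      ← Subgroup.index_mul_card (cz x₀)] at h1
    obtain ⟨b, hb⟩ : ∃ b, Nat.card (cz x₀) = b + 1 := ⟨_, (Nat.sub_add_cancel Nat.card_pos).symm⟩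
    rw [hb] at h1
    simp only [Nat.add_sub_cancel, mul_add, mul_one] at h1
    omega
  have hPc : (Finset.univ.filter fun z : L => z ∈ (P : Subgroup L)).card = (cz x₀).index := by
    rw [← Fintype.card_subtype, ← Nat.card_eq_fintype_card]
    have h := Subgroup.index_mul_card (cz x₀)
    rw [hR] at h
    exact (Nat.eq_of_mul_eq_mul_right Nat.card_pos h).symm
  intro z hz
  have hmem : z ∈ Finset.univ.filter (fun z : L => z = 1 ∨ orderOf z = r) := by simp [hz]
  rw [← Finset.eq_of_subset_of_card_le hsub (hPc ▸ hcount)] at hmem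
  simpa using hmem

end CfsgLib.BSW
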