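import Mathlib
import Cfsg.Agent.BSW.Census
import Cfsg.Agent.BSW.Split

/-!
Groups with a generalised dihedral involution centraliser: normalisers of the inverted centralisers, and the two
possible shapes.
-/

set_option autoImplicit false

namespace CfsgLib.BSW

open CfsgLib.Invol

universe u

variable {G : Type u} [Group G] [Finite G]

omit [Finite G] in
theorem mem_cz_sub {L : Subgroup G} {x y : L} : y ∈ cz x ↔ (y : G) ∈ cz (x : G) := by
  rw [mem_cz, mem_cz]
  exact ⟨fun h => congrArg Subtype.val h, fun h => Subtype.ext h⟩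

/-- A subgroup acting semiregularly on the nontrivial elements of another. -/
theorem card_dvd_of_semiregular (C A : Subgroup G) (hnorm : ∀ c ∈ C, ∀ y ∈ A, c * y * c⁻¹ ∈ A)
    (hfree : ∀ c ∈ C, c ≠ 1 → ∀ y ∈ A, y ≠ 1 → c * y * c⁻¹ ≠ y) : Nat.card C ∣ Nat.card A - 1 := by
  classical
  letI : MulAction C {y : A // y ≠ 1} :=
    { smul := fun c y => ⟨⟨(c : G) * (y.1 : G) * (c : G)⁻¹, hnorm c c.2 y.1 y.1.2⟩,
        fun h => y.2 (Subtype.ext (conj_eq_one_iff.1 (congrArg Subtype.val h)))⟩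
      one_smul := fun y => Subtype.ext (Subtype.ext (by
        show ((1 : C) : G) * (y.1 : G) * ((1 : C) : G)⁻¹ = (y.1 : G)
        simp))
      mul_smul := fun a b y => Subtype.ext (Subtype.ext (by
        show ((a * b : C) : G) * (y.1 : G) * ((a * b : C) : G)⁻¹ =
          (a : G) * ((b : G) * (y.1 : G) * (b : G)⁻¹) * (a : G)⁻¹
        rw [Subgroup.coe_mul]; group)) }
  haveI := Fintype.ofFinite A
  have hstab : ∀ y : {y : A // y ≠ 1}, MulAction.stabilizer C y = ⊥ := by
    intro y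
    rw [Subgroup.eq_bot_iff_forall]
    intro c hc
    by_contra hc1
    refine hfree c c.2 (fun h => hc1 (Subtype.ext h)) y.1 y.1.2 (fun h => y.2 (Subtype.ext h)) ?_
    exact congrArg (fun z : {y : A // y ≠ 1} => ((z.1 : A) : G)) (MulAction.mem_stabilizer_iff.1 hc)
  haveI := Fintype.ofFinite C
  haveI : Fintype (MulAction.orbitRel.Quotient C {y : A // y ≠ 1}) := Fintype.ofFinite _
  have h := Nat.card_congr (MulAction.selfEquivSigmaOrbitsQuotientStabilizer C {y : A // y ≠ 1})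
  rw [Nat.card_sigma] at h
  simp only [hstab, ← Subgroup.index_eq_card, Subgroup.index_bot, Finset.sum_const, smul_eq_mul] at h
  rw [Nat.card_eq_fintype_card (α := {y : A // y ≠ 1}), Fintype.card_subtype_compl, Fintype.card_subtype_eq,
    ← Nat.card_eq_fintype_card] at h
  exact ⟨_, h.trans (mul_comm _ _)⟩

namespace Hyp

variable {t s : G} {K : Subgroup G} (D : Hyp t s K)
include D

theorem inverts_of_normalizes (A : Subgroup G) (hA : ∀ y ∈ A, y ≠ 1 → Wild K y) {i : G} (hi : orderOf i = 2)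
    (hn : ∀ y ∈ A, i * y * i⁻¹ ∈ A) : ∀ y ∈ A, i * y * i⁻¹ = y⁻¹ := by
  let φ : A →* A :=
    { toFun := fun y => ⟨i * y * i⁻¹, hn y y.2⟩
      map_one' := Subtype.ext (by simp)
      map_mul' := fun a b => Subtype.ext (by simp [mul_assoc]) }
  have h2 : Function.Involutive φ := fun y => Subtype.ext (by
    show i * (i * (y : G) * i⁻¹) * i⁻¹ = y
    calc i * (i * (y : G) * i⁻¹) * i⁻¹ = (i * i) * (y : G) * (i * i)⁻¹ := by group
      _ = _ := by rw [mul_self_of_orderOf hi]; simp)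
  have hf : MonoidHom.FixedPointFree φ := by
    intro y hy
    by_contra hy1
    have h1 : i * (y : G) * i⁻¹ = y := congrArg Subtype.val hy
    exact (hA y y.2 fun e => hy1 (Subtype.ext e)).2
      (D.mem_cz_isConjIn hi (mem_cz.2 (mul_inv_eq_iff_eq_mul.1 h1).symm))
  exact fun y hy => congrArg Subtype.val (congrFun (hf.coe_eq_inv_of_involutive h2) ⟨y, hy⟩)

theorem inf_cz_invol {g i y : G} (hg : Wild K g) (hi : orderOf i = 2) (hy : y ∈ cz g) (hyi : y ∈ cz i) : y = 1 :=
  not_not.1 fun h => (D.wild_commute hg h hy).2 (D.mem_cz_isConjIn hi hyi)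

/-- An element sending an inverted element into its centraliser normalises it and may be corrected to commute
with the inverting involution. -/
theorem reduce {g i m : G} (hg : Wild K g) (hi : orderOf i = 2) (hig : i * g * i⁻¹ = g⁻¹)
    (hm : m * g * m⁻¹ ∈ cz g) : ∃ z ∈ cz g, z⁻¹ * m ∈ cz i ∧
      ∀ y ∈ cz g, z⁻¹ * m * y * (z⁻¹ * m)⁻¹ ∈ cz g := by
  obtain ⟨hinv, hab⟩ := D.inverts_cz hg hi hig
  have he := (D.inverted_cz hg ⟨i, hi, hig⟩ hm (fun h => hg.1 (conj_eq_one_iff.1 h))).2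
  have hnorm : ∀ y ∈ cz g, m * y * m⁻¹ ∈ cz g := fun y hy => by rw [← he]; exact (cz_conj m).2 hy
  have hback : ∀ y ∈ cz g, m⁻¹ * y * m ∈ cz g := fun y hy => by
    rw [← cz_conj m, he, show m * (m⁻¹ * y * m) * m⁻¹ = y by group]
    exact hy
  have hgA : g ∈ cz g := mem_cz.2 rfl
  have h1 : m * i * m⁻¹ * g * (m * i * m⁻¹)⁻¹ = g⁻¹ := by
    calc m * i * m⁻¹ * g * (m * i * m⁻¹)⁻¹ = m * (i * (m⁻¹ * g * m) * i⁻¹) * m⁻¹ := by group
      _ = g⁻¹ := by rw [hinv _ (hback g hgA)]; group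
  set y := i⁻¹ * (m * i * m⁻¹) with hy
  have hyA : y ∈ cz g := mem_cz.2 <| by
    rw [hy]
    calc i⁻¹ * (m * i * m⁻¹) * g = i⁻¹ * (m * i * m⁻¹ * g * (m * i * m⁻¹)⁻¹) * (m * i * m⁻¹) := by group
      _ = i⁻¹ * (i * g * i⁻¹) * (m * i * m⁻¹) := by rw [h1, hig]
      _ = g * (i⁻¹ * (m * i * m⁻¹)) := by group
  obtain ⟨z, hz⟩ := (powCoprime (G := cz g) (n := 2) (Nat.coprime_two_right.2 (D.odd_cz hg))).surjective ⟨y, hyA⟩⁻¹
  have hz2 : (z : G) * z = y⁻¹ := by
    have := congrArg Subtype.val hz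
    simpa [powCoprime, pow_two] using this
  refine ⟨z, z.2, mem_cz.2 ?_, fun w hw => ?_⟩
  · have h2 : (z : G) * i * (z : G)⁻¹ = m * i * m⁻¹ := by
      calc (z : G) * i * (z : G)⁻¹ = i * (i⁻¹ * (z : G) * i) * (z : G)⁻¹ := by group
        _ = i * ((z : G)⁻¹ * (z : G)⁻¹) := by
          rw [show i⁻¹ * (z : G) * i = i * (z : G) * i⁻¹ by rw [inv_eq_of_orderOf hi], hinv _ z.2, mul_assoc]
        _ = i * y := by rw [← mul_inv_rev, hz2, inv_inv]
        _ = _ := by rw [hy]; group
    calc (z : G)⁻¹ * m * i = (z : G)⁻¹ * (m * i * m⁻¹) * m := by group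
      _ = i * ((z : G)⁻¹ * m) := by rw [← h2]; group
  · rw [show (z : G)⁻¹ * m * w * ((z : G)⁻¹ * m)⁻¹ = (z : G)⁻¹ * (m * w * m⁻¹) * ((z : G)⁻¹)⁻¹ by group]
    exact mul_mem (mul_mem (inv_mem z.2) (hnorm w hw)) (inv_mem (inv_mem z.2))

theorem invol_normalizer {g i c : G} (hg : Wild K g) (hi : orderOf i = 2) (hig : i * g * i⁻¹ = g⁻¹) (hc : c ∈ cz i)
    (hcn : ∀ y ∈ cz g, c * y * c⁻¹ ∈ cz g) (hco : orderOf c = 2) : c = i := by
  have hcg := D.inverts_of_normalizes (cz g) (fun y hy hy1 => D.wild_commute hg hy1 hy) hco hcn g (mem_cz.2 rfl)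
  have h1 : c * i ∈ cz g := mem_cz.2 <| by
    calc c * i * g = c * (i * g * i⁻¹) * i := by group
      _ = (c * g * c⁻¹)⁻¹ * c * i := by rw [hig]; group
      _ = g * (c * i) := by rw [hcg, inv_inv, mul_assoc]
  have h2 := D.inf_cz_invol hg hi h1 (mul_mem hc (mem_cz.2 rfl))
  rw [eq_inv_of_mul_eq_one_left h2, inv_eq_of_orderOf hi]

/-- The normaliser of a centraliser of order `#K - 1` is that centraliser extended by the involution. -/
theorem torus_normalizer {g i m : G} (hg : Wild K g) (hi : orderOf i = 2) (hig : i * g * i⁻¹ = g⁻¹)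
    (hcard : Nat.card (cz g) + 1 = Nat.card K) (hm : m * g * m⁻¹ ∈ cz g) : m ∈ cz g ∨ i * m ∈ cz g := by
  obtain ⟨hinv, -⟩ := D.inverts_cz hg hi hig
  obtain ⟨z, hz, hzi, hzn⟩ := D.reduce hg hi hig hm
  set C := cz i ⊓ Subgroup.normalizer ((cz g : Subgroup G) : Set G) with hC
  have hCn : ∀ c ∈ C, ∀ y ∈ cz g, c * y * c⁻¹ ∈ cz g := fun c hc y hy =>
    ((Subgroup.mem_normalizer_iff.1 (Subgroup.mem_inf.1 hc).2) y).1 hy
  have hnm : ∀ c, (∀ y ∈ cz g, c * y * c⁻¹ ∈ cz g) → c ∈ Subgroup.normalizer ((cz g : Subgroup G) : Set G) := by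
    intro c hc
    refine Subgroup.mem_normalizer_iff.2 fun y => ⟨hc y, fun hy => ?_⟩
    haveI := Fintype.ofFinite (cz g)
    have hinj : Function.Injective (fun y : cz g => (⟨c * y * c⁻¹, hc y y.2⟩ : cz g)) := fun a b h =>
      Subtype.ext (mul_left_cancel (mul_right_cancel (congrArg Subtype.val h)))
    obtain ⟨w, hw⟩ := (Finite.injective_iff_surjective.1 hinj) ⟨_, hy⟩
    have h1 : c * (w : G) * c⁻¹ = c * y * c⁻¹ := congrArg Subtype.val hw
    rw [← mul_left_cancel (mul_right_cancel h1)]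
    exact w.2
  have hiC : i ∈ C := Subgroup.mem_inf.2 ⟨mem_cz.2 rfl, hnm i fun y hy => by rw [hinv y hy]; exact inv_mem hy⟩
  have hdvd := card_dvd_of_semiregular C (cz g) hCn (by
    intro c hc hc1 y hy hy1 h
    have h1 : c ∈ cz y := mem_cz.2 (mul_inv_eq_iff_eq_mul.1 h)
    exact (D.wild_commute (D.wild_commute hg hy1 hy) hc1 h1).2 (D.mem_cz_isConjIn hi (Subgroup.mem_inf.1 hc).1))
  obtain ⟨c₀, hc₀⟩ := isConj_iff.1 (D.hconj i t hi D.ht)
  have hall : ∀ c ∈ C, c = 1 ∨ c = i := by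
    set C' := C.map (MulAut.conj c₀).toMonoidHom with hC'
    have hC't : C' ≤ cz t := by
      rintro x ⟨c, hc, rfl⟩
      have h := (cz_conj c₀).2 (Subgroup.mem_inf.1 hc).1
      rw [hc₀] at h
      exact h
    have htC' : t ∈ C' := ⟨i, hiC, hc₀⟩
    have hcC : Nat.card C' = Nat.card C :=
      (Nat.card_congr (Subgroup.equivMapOfInjective C _ (MulAut.conj c₀).injective).toEquiv).symm
    have h2 : Nat.card (C' ⊓ K : Subgroup G) ∣ 2 := by
      have h1 : Nat.card (C' ⊓ K : Subgroup G) ∣ Nat.card (cz g) - 1 :=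
        ((Subgroup.card_dvd_of_le inf_le_left).trans hcC.dvd).trans hdvd
      have h1' : Nat.card (C' ⊓ K : Subgroup G) ∣ Nat.card K := Subgroup.card_dvd_of_le inf_le_right
      have h3 : Nat.card (cz g) - 1 = Nat.card K - 2 := by omega
      rw [h3] at h1
      have := Nat.dvd_sub h1' h1
      have h4 : 2 ≤ Nat.card K := by
        obtain ⟨a, ha⟩ := D.even_card
        have := Nat.card_pos (α := K)
        omega
      rwa [show Nat.card K - (Nat.card K - 2) = 2 by omega] at this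
    have hK : ∀ x ∈ C', x ∈ K → x = 1 ∨ x = t := by
      intro x hx hxK
      refine D.sq_eq_one hxK ?_
      have hd := (orderOf_dvd_natCard (⟨x, Subgroup.mem_inf.2 ⟨hx, hxK⟩⟩ : (C' ⊓ K : Subgroup G))).trans h2
      rw [Subgroup.orderOf_mk] at hd
      rw [← pow_two]; exact orderOf_dvd_iff_pow_eq_one.1 hd
    intro c hc
    have hcC' : c₀ * c * c₀⁻¹ ∈ C' := ⟨c, hc, rfl⟩
    by_cases hcK : c₀ * c * c₀⁻¹ ∈ K
    · rcases hK _ hcC' hcK with h | h
      · exact Or.inl (conj_eq_one_iff.1 h)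
      · exact Or.inr (mul_left_cancel (mul_right_cancel (h.trans hc₀.symm)))
    · refine Or.inr (D.invol_normalizer hg hi hig (Subgroup.mem_inf.1 hc).1 (hCn c hc) ?_)
      rw [← Invol.orderOf_conj c₀ c]
      exact orderOf_eq_two (D.not_mem_K (hC't hcC') hcK).1 fun h => hcK (h ▸ one_mem K)
  rcases hall (z⁻¹ * m) (Subgroup.mem_inf.2 ⟨hzi, hnm _ hzn⟩) with h | h
  · left; rw [inv_mul_eq_one] at h; exact h ▸ hz
  · right
    rw [inv_mul_eq_iff_eq_mul.1 h, ← mul_assoc, show i * z * i = i * z * i⁻¹ by rw [inv_eq_of_orderOf hi],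
      hinv z hz]
    exact inv_mem hz

open scoped Classical in
theorem pairs_eq_card [Fintype G] {g : G} (hg : Wild K g) :
    pairs g = if Inverted g then Nat.card (cz g) else 0 := by
  split_ifs with h
  · exact D.card_pairs_inverted hg h
  · exact D.card_pairs_not_inverted hg h

/-- The two possible shapes of `G`. -/
theorem shapes :
    ((cz t).index = (2 * Nat.card K + 1) * (Nat.card K + 1) ∧
      (∀ g : G, Wild K g → Inverted g) ∧
      Nat.card {g : G // Wild K g ∧ Nat.card (cz g) = 2 * Nat.card K + 1} + 1 = (2 * Nat.card K + 1) ^ 2) ∨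
    ((cz t).index = (2 * Nat.card K - 1) * (Nat.card K - 1) ∧
      (∀ g : G, Wild K g → Inverted g → Nat.card (cz g) + 1 = Nat.card K) ∧
      Nat.card {g : G // Wild K g ∧ ¬ Inverted g} + 1 = (2 * Nat.card K - 1) ^ 2) := by
  classical
  haveI := Fintype.ofFinite G
  obtain ⟨e, σ, hσ, he, hν, hvals, hcount⟩ := D.census
  have hk1 : 1 ≤ Nat.card K := Nat.card_pos
  have hk2 : 2 ≤ Nat.card K := by
    obtain ⟨a, ha⟩ := D.even_card
    omega
  rcases hσ with rfl | rfl
  · left
    have he' : e = ((2 * Nat.card K + 1 : ℕ) : ℤ) := by push_cast; linarith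
    have hinv : ∀ g : G, Wild K g → Inverted g := by
      intro g hg
      by_contra hn
      have hp : pairs g = 0 := by rw [D.pairs_eq_card hg, if_neg hn]
      rcases hvals g hg with h | h <;> rw [hp] at h <;> push_cast at h <;> linarith
    refine ⟨?_, hinv, ?_⟩
    · have : ((2 * (cz t).index : ℕ) : ℤ) = ((2 * ((2 * Nat.card K + 1) * (Nat.card K + 1)) : ℕ) : ℤ) := by
        push_cast; rw [hν, he]; ring
      have := Nat.cast_injective this
      omega
    · have hiff : ∀ g : G, (Wild K g ∧ 2 * (pairs g : ℤ) = (1 + 1) * e) ↔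
          (Wild K g ∧ Nat.card (cz g) = 2 * Nat.card K + 1) := fun g => and_congr_right fun hg => by
        rw [D.pairs_eq_card hg, if_pos (hinv g hg), he']
        omega
      rw [Nat.card_congr (Equiv.subtypeEquivRight hiff), he'] at hcount
      have : ((Nat.card {g : G // Wild K g ∧ Nat.card (cz g) = 2 * Nat.card K + 1} + 1 : ℕ) : ℤ) =
          (((2 * Nat.card K + 1) ^ 2 : ℕ) : ℤ) := by
        push_cast; rw [hcount]; push_cast; ring
      exact Nat.cast_injective this
  · right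
    have he' : -e = ((2 * Nat.card K - 1 : ℕ) : ℤ) := by
      rw [Nat.cast_sub (by omega), he]; push_cast; ring
    have hiff : ∀ g : G, (Wild K g ∧ 2 * (pairs g : ℤ) = (1 + -1) * e) ↔ (Wild K g ∧ ¬ Inverted g) := fun g =>
      and_congr_right fun hg => by
        rw [D.pairs_eq_card hg]
        by_cases h : Inverted g
        · rw [if_pos h]
          have := Nat.card_pos (α := cz g)
          simp [h]
        · simp [h]
    refine ⟨?_, fun g hg hi => ?_, ?_⟩
    · have : ((2 * (cz t).index : ℕ) : ℤ) = ((2 * ((2 * Nat.card K - 1) * (Nat.card K - 1)) : ℕ) : ℤ) := by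
        rw [Nat.cast_mul 2 ((2 * Nat.card K - 1) * (Nat.card K - 1)), Nat.cast_mul (2 * Nat.card K - 1) _,
          Nat.cast_sub (by omega), Nat.cast_sub (by omega)]
        push_cast; rw [hν, he]; ring
      have := Nat.cast_injective this
      omega
    · have hpos := Nat.card_pos (α := cz g)
      rcases hvals g hg with h | h <;> rw [D.pairs_eq_card hg, if_pos hi] at h
      · simp at h
      · omega
    · rw [Nat.card_congr (Equiv.subtypeEquivRight hiff)] at hcount
      have : ((Nat.card {g : G // Wild K g ∧ ¬ Inverted g} + 1 : ℕ) : ℤ) =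
          (((2 * Nat.card K - 1) ^ 2 : ℕ) : ℤ) := by
        rw [Nat.cast_add, hcount, Nat.cast_pow, ← he']; push_cast; ring
      exact Nat.cast_injective this

end Hyp

end CfsgLib.BSW
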