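import Mathlib
import Cfsg.Agent.BSW.Local

/-!
Groups with a generalised dihedral involution centraliser: the structure theorem.
-/

set_option autoImplicit false

namespace CfsgLib.BSW

open CfsgLib.Invol

universe u

variable {G : Type u} [Group G] [Finite G]

theorem two_le_card_cz {g : G} (hg : g ≠ 1) : 2 ≤ Nat.card (cz g) :=
  (Subgroup.one_lt_card_iff_ne_bot _).2 fun h => hg <| by
    have h2 : g ∈ cz g := mem_cz.2 rfl
    rw [h, Subgroup.mem_bot] at h2; exact h2

/-- The conclusion. -/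
def Structured (G : Type u) [Group G] : Prop :=
  ∃ Q D : Subgroup G, 2 * Nat.card G = Nat.card ↥Q * (Nat.card ↥Q + 1) * (Nat.card ↥Q - 1) ∧
    (∀ x ∈ Q, x ≠ 1 → Subgroup.centralizer ({x} : Set G) = Q) ∧
    IsMulCommutative ↥D ∧ 2 * Nat.card ↥D + 1 = Nat.card ↥Q ∧ Q ⊓ D = ⊥ ∧
    Subgroup.normalizer (Q : Set G) = Q ⊔ D ∧
    ∀ X : Subgroup G, X ≤ D → X ≠ ⊥ →
      Subgroup.normalizer (X : Set G) = Subgroup.normalizer (D : Set G) ∧
      ∃ u : G, orderOf u = 2 ∧ u ∉ D ∧ (∀ d ∈ D, u * d * u⁻¹ = d⁻¹) ∧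
        Subgroup.normalizer (D : Set G) = D ⊔ Subgroup.zpowers u

namespace Hyp

variable {t s : G} {K : Subgroup G} (D : Hyp t s K)
include D

theorem normalizer_K_sub {X : Subgroup G} (hX : X ≤ K) (hne : X ≠ ⊥) :
    Subgroup.normalizer (X : Set G) = cz t := by
  refine le_antisymm (fun m hm => ?_) (fun m hm => ?_)
  · obtain ⟨x, hx, hx1⟩ : ∃ x ∈ X, x ≠ 1 := by
      by_contra hc
      push Not at hc
      exact hne ((Subgroup.eq_bot_iff_forall X).2 hc)
    exact D.ti (hX hx) hx1 (hX ((Subgroup.mem_normalizer_iff.1 hm x).1 hx))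
  · refine Subgroup.mem_normalizer_iff.2 fun y => ?_
    have key : ∀ m ∈ cz t, ∀ y ∈ X, m * y * m⁻¹ ∈ X := by
      intro m hm y hy
      by_cases hK : m ∈ K
      · rw [D.ab m hK y (hX hy), mul_inv_cancel_right]; exact hy
      · rw [(D.not_mem_K hm hK).2 y (hX hy)]; exact inv_mem hy
    refine ⟨key m hm y, fun h => ?_⟩
    have := key m⁻¹ (inv_mem hm) _ h
    rwa [show m⁻¹ * (m * y * m⁻¹) * m⁻¹⁻¹ = y by group] at this

theorem structured_plus (hν : (cz t).index = (2 * Nat.card K + 1) * (Nat.card K + 1))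
    (hinv : ∀ g : G, Wild K g → Inverted g)
    (hcnt : Nat.card {g : G // Wild K g ∧ Nat.card (cz g) = 2 * Nat.card K + 1} + 1 = (2 * Nat.card K + 1) ^ 2) :
    Structured G := by
  classical
  haveI := Fintype.ofFinite G
  obtain ⟨⟨g₁, hg₁, hg₁c⟩⟩ : Nonempty {g : G // Wild K g ∧ Nat.card (cz g) = 2 * Nat.card K + 1} := by
    refine (Nat.card_pos_iff.1 ?_).1
    have := Nat.card_pos (α := K)
    nlinarith
  obtain ⟨i, hi, hig⟩ := hinv g₁ hg₁
  obtain ⟨c, hc⟩ := isConj_iff.1 (D.hconj i t hi D.ht)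
  set g := c * g₁ * c⁻¹ with hgdef
  have hg : Wild K g := (wild_conj c).2 hg₁
  have htg : t * g * t⁻¹ = g⁻¹ := by
    rw [← hc, hgdef]
    calc c * i * c⁻¹ * (c * g₁ * c⁻¹) * (c * i * c⁻¹)⁻¹ = c * (i * g₁ * i⁻¹) * c⁻¹ := by group
      _ = _ := by rw [hig]; group
  have hq : Nat.card (cz g) = 2 * Nat.card K + 1 := by rw [hgdef, card_cz_conj, hg₁c]
  have hQw : ∀ y ∈ cz g, y ≠ 1 → Wild K y := fun y hy hy1 => D.wild_commute hg hy1 hy
  have hQ : ∀ y ∈ cz g, y ≠ 1 → cz y = cz g := fun y hy hy1 => (D.inverted_cz hg (hinv g hg) hy hy1).2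
  set N := Subgroup.normalizer ((cz g : Subgroup G) : Set G) with hNdef
  have hgA : g ∈ cz g := mem_cz.2 rfl
  have hdec : ∀ m ∈ N, ∃ z ∈ cz g, z⁻¹ * m ∈ K := by
    intro m hm
    obtain ⟨z, hz, hzt, hzn⟩ := D.reduce hg D.ht htg ((Subgroup.mem_normalizer_iff.1 hm g).1 hgA)
    refine ⟨z, hz, ?_⟩
    by_contra hK
    exact hK (D.invol_normalizer hg D.ht htg hzt hzn
      (orderOf_eq_two (D.not_mem_K hzt hK).1 fun h => hK (h ▸ one_mem K)) ▸ D.htK)
  have hle : cz g ≤ N := Subgroup.le_normalizer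
  have hcardN : Nat.card N ≤ Nat.card (cz g) * Nat.card (N ⊓ K : Subgroup G) := by
    rw [← Nat.card_prod]
    refine Nat.card_le_card_of_surjective (fun p : cz g × (N ⊓ K : Subgroup G) =>
      (⟨(p.1 : G) * p.2, mul_mem (hle p.1.2) (Subgroup.mem_inf.1 p.2.2).1⟩ : N)) fun m => ?_
    obtain ⟨z, hz, hzK⟩ := hdec m m.2
    exact ⟨(⟨z, hz⟩, ⟨z⁻¹ * m, Subgroup.mem_inf.2 ⟨mul_mem (inv_mem (hle hz)) m.2, hzK⟩⟩),
      Subtype.ext (mul_inv_cancel_left z m)⟩
  have hconj : N.index * (Nat.card (cz g) - 1) ≤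
      Nat.card {g : G // Wild K g ∧ Nat.card (cz g) = 2 * Nat.card K + 1} := by
    rw [Subgroup.index_eq_card, show Nat.card (cz g) - 1 = Nat.card {y : cz g // y ≠ 1} by
      haveI := Fintype.ofFinite (cz g)
      rw [Nat.card_eq_fintype_card (α := {y : cz g // y ≠ 1}), Fintype.card_subtype_compl, Fintype.card_subtype_eq,
        Nat.card_eq_fintype_card], ← Nat.card_prod]
    refine Nat.card_le_card_of_injective (fun p => ⟨p.1.out * (p.2.1 : G) * p.1.out⁻¹,
      (wild_conj _).2 (hQw _ p.2.1.2 fun h => p.2.2 (Subtype.ext h)),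
      by rw [card_cz_conj, hQ _ p.2.1.2 (fun h => p.2.2 (Subtype.ext h)), hq]⟩) ?_
    rintro ⟨q, y, hy⟩ ⟨q', y', hy'⟩ e
    have e' : q.out * (y : G) * q.out⁻¹ = q'.out * (y' : G) * q'.out⁻¹ := congrArg Subtype.val e
    set m := q'.out⁻¹ * q.out with hm
    have hmy : m * (y : G) * m⁻¹ = y' := by
      rw [hm, show q'.out⁻¹ * q.out * (y : G) * (q'.out⁻¹ * q.out)⁻¹ =
        q'.out⁻¹ * (q.out * (y : G) * q.out⁻¹) * q'.out by group, e']
      group
    have hmN : m ∈ N := Subgroup.mem_normalizer_iff.2 fun w => by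
      have h := cz_conj (g := (y : G)) (x := w) m
      rw [hmy, hQ _ y.2 (fun h' => hy (Subtype.ext h')), hQ _ y'.2 (fun h' => hy' (Subtype.ext h'))] at h
      exact h.symm
    obtain rfl : q' = q := by
      rw [← QuotientGroup.out_eq' q', ← QuotientGroup.out_eq' q]
      exact QuotientGroup.eq.2 hmN
    obtain rfl : y = y' := Subtype.ext (mul_left_cancel (mul_right_cancel e'))
    rfl
  have hG := D.card_G
  have hNi := Subgroup.card_mul_index N
  have hCk : Nat.card (N ⊓ K : Subgroup G) = Nat.card K := by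
    refine le_antisymm (Subgroup.card_le_of_le inf_le_right) ?_
    rw [hq] at hconj hcardN
    have hk := Nat.card_pos (α := K)
    have h1 : N.index ≤ 2 * (Nat.card K + 1) := by
      have h2 : N.index * (2 * Nat.card K) + 1 ≤ (2 * Nat.card K + 1) ^ 2 := by
        rw [← hcnt]; exact Nat.add_le_add_right (le_of_eq_of_le (by rw [Nat.add_sub_cancel]) hconj) 1
      nlinarith
    rw [hG, hν] at hNi
    have h3 : 2 * Nat.card K * ((2 * Nat.card K + 1) * (Nat.card K + 1)) ≤
        (2 * Nat.card K + 1) * Nat.card (N ⊓ K : Subgroup G) * (2 * (Nat.card K + 1)) := by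
      rw [← hNi]; exact Nat.mul_le_mul hcardN h1
    nlinarith
  have hKN : K ≤ N := by
    have h := Subgroup.eq_of_le_of_card_ge (H := N ⊓ K) inf_le_right hCk.ge
    exact h ▸ inf_le_left
  have hKbot : K ≠ ⊥ := fun h => D.t_ne_one (by have := D.htK; rwa [h, Subgroup.mem_bot] at this)
  refine ⟨cz g, K, ?_, hQ, ⟨⟨fun a b => Subtype.ext (D.ab a a.2 b b.2)⟩⟩, hq.symm, ?_, ?_, fun X hX hXne => ?_⟩
  · rw [hG, hν, hq, Nat.add_sub_cancel]; ring
  · refine (Subgroup.eq_bot_iff_forall _).2 fun x hx => ?_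
    by_contra hx1
    exact (hQw x (Subgroup.mem_inf.1 hx).1 hx1).2 ⟨1, by simpa using (Subgroup.mem_inf.1 hx).2⟩
  · refine le_antisymm (fun m hm => ?_) (sup_le hle hKN)
    obtain ⟨z, hz, hzK⟩ := hdec m hm
    rw [← mul_inv_cancel_left z m]
    exact Subgroup.mul_mem_sup hz hzK
  · refine ⟨by rw [D.normalizer_K_sub hX hXne, D.normalizer_K_sub le_rfl hKbot], s, D.hs, D.hsK, D.hinv, ?_⟩
    rw [D.normalizer_K_sub le_rfl hKbot, D.hH]

theorem structured_minus (hν : (cz t).index = (2 * Nat.card K - 1) * (Nat.card K - 1))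
    (hinv : ∀ g : G, Wild K g → Inverted g → Nat.card (cz g) + 1 = Nat.card K)
    (hcnt : Nat.card {g : G // Wild K g ∧ ¬ Inverted g} + 1 = (2 * Nat.card K - 1) ^ 2) :
    Structured G := by
  classical
  haveI := Fintype.ofFinite G
  obtain ⟨k, hk⟩ : ∃ k, Nat.card K = k + 2 := by
    obtain ⟨a, ha⟩ := D.even_card
    have := Nat.card_pos (α := K)
    exact ⟨Nat.card K - 2, by omega⟩
  rw [hk, show 2 * (k + 2) - 1 = 2 * k + 3 by omega] at hcnt hν
  rw [show k + 2 - 1 = k + 1 by omega] at hν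
  have hG : Nat.card G = 2 * (k + 2) * ((2 * k + 3) * (k + 1)) := by rw [D.card_G, hk, hν]
  -- `O`: the elements which are not inverted
  have hWcl : ∀ x y : G, Wild K x → ¬ Inverted x → y ∈ cz x → y ≠ 1 → Wild K y ∧ ¬ Inverted y :=
    fun x y hx hxi hy hy1 => ⟨D.wild_commute hx hy1 hy, fun hyi =>
      hxi (D.inverted_cz (D.wild_commute hx hy1 hy) hyi (mem_cz_comm.1 hy) hx.1).1⟩
  obtain ⟨⟨h, hh, hhi⟩⟩ : Nonempty {g : G // Wild K g ∧ ¬ Inverted g} := by
    refine (Nat.card_pos_iff.1 ?_).1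
    nlinarith
  have hpK : ∀ p : ℕ, p.Prime → Odd p → p ∣ k + 2 → ∀ y : G, orderOf y = p → IsConjIn K y := by
    intro p hp hpo hpd y hy
    haveI := Fact.mk hp
    obtain ⟨u, hu⟩ := exists_prime_orderOf_dvd_card' (G := K) p (hk ▸ hpd)
    refine conj_into_of_prime hp K u.2 (by rw [Subgroup.orderOf_coe]; exact hu) (fun x hx hx1 ⟨n, hn⟩ => ?_) hy
    rw [D.cz_eq hx]
    intro hx2
    have h2 : orderOf x = 2 := orderOf_eq_two hx2 hx1
    rw [h2] at hn
    have h3 := (Nat.prime_dvd_prime_iff_eq Nat.prime_two hp).1 (Nat.prime_two.dvd_of_dvd_pow (dvd_of_eq hn))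
    rw [← h3] at hpo
    exact (by decide : ¬ Odd 2) hpo
  have hW1 : 0 < k → ∃ w : G, Wild K w ∧ Inverted w := by
    intro hk0
    by_contra hc
    push Not at hc
    have h1 := D.partition_card
    rw [hG, hk, hν, Nat.card_congr (Equiv.subtypeEquivRight (p := fun g => Wild K g)
      (q := fun g => Wild K g ∧ ¬ Inverted g) fun g => ⟨fun a => ⟨a, hc g a⟩, fun a => a.1⟩),
      show k + 2 - 1 = k + 1 by omega] at h1
    have h2 : 2 * (k + 2) * ((2 * k + 3) * (k + 1)) = (2 * k + 3) * (k + 1) * (k + 1) + (2 * k + 3) ^ 2 := by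
      rw [h1]; omega
    nlinarith
  have hqdvd : ∀ x : G, Wild K x → ¬ Inverted x → Nat.card (cz x) ∣ 2 * k + 3 := by
    intro x hx hxi
    have hodd := D.odd_cz hx
    have hcopK : ∀ p : ℕ, p.Prime → p ∣ Nat.card (cz x) → ¬ p ∣ k + 2 ∧ ¬ p ∣ k + 1 := by
      intro p hp hpd
      haveI := Fact.mk hp
      obtain ⟨y, hy⟩ := exists_prime_orderOf_dvd_card' (G := cz x) p hpd
      have hy' : orderOf (y : G) = p := by rwa [Subgroup.orderOf_coe]
      have hy1 : (y : G) ≠ 1 := fun e => hp.one_lt.ne (by rw [← hy', e, orderOf_one])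
      obtain ⟨hyw, hyi⟩ := hWcl x y hx hxi y.2 hy1
      refine ⟨fun hd => hyw.2 (hpK p hp (hodd.of_dvd_nat hpd) hd y hy'), fun hd => hyi ?_⟩
      have hk0 : 0 < k := by
        by_contra hk0
        rw [Nat.eq_zero_of_not_pos hk0] at hd
        exact hp.one_lt.ne' (Nat.dvd_one.1 hd)
      obtain ⟨w, hw, hwi⟩ := hW1 hk0
      have hwc : Nat.card (cz w) = k + 1 := by
        have := hinv w hw hwi
        omega
      obtain ⟨u, hu⟩ := exists_prime_orderOf_dvd_card' (G := cz w) p (hwc ▸ hd)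
      obtain ⟨c, hc⟩ := conj_into_of_prime hp (cz w) u.2 (by rw [Subgroup.orderOf_coe]; exact hu)
        (fun v hv hv1 _ => (D.inverted_cz hw hwi hv hv1).2.le) hy'
      have hv1 : c * (y : G) * c⁻¹ ≠ 1 := fun e => hy1 (conj_eq_one_iff.1 e)
      have := inverted_conj c⁻¹ (D.inverted_cz hw hwi hc hv1).1
      rwa [show c⁻¹ * (c * (y : G) * c⁻¹) * c⁻¹⁻¹ = (y : G) by group] at this
    have hd : Nat.card (cz x) ∣ (2 * k + 3) * (2 * (k + 2) * (k + 1)) := by
      rw [show (2 * k + 3) * (2 * (k + 2) * (k + 1)) = 2 * (k + 2) * ((2 * k + 3) * (k + 1)) by ring, ← hG]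
      exact Subgroup.card_subgroup_dvd_card _
    refine Nat.Coprime.dvd_of_dvd_mul_right (Nat.coprime_of_dvd fun p hp hp1 hp2 => ?_) hd
    obtain ⟨h1, h2⟩ := hcopK p hp hp1
    rcases hp.dvd_mul.1 hp2 with h3 | h3
    · rcases hp.dvd_mul.1 h3 with h4 | h4
      · have := (Nat.prime_dvd_prime_iff_eq hp Nat.prime_two).1 h4
        subst this
        exact (Nat.not_even_iff_odd.2 (hodd.of_dvd_nat hp1)) even_two
      · exact h1 h4
    · exact h2 h3
  -- the classes
  have hclass : ∀ x : G, Wild K x → ¬ Inverted x → Nat.card (cz x) = 2 * k + 3 ∧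
      ∀ y : G, Wild K y → ¬ Inverted y → IsConj x y ∨ IsConj x⁻¹ y := by
    intro x hx hxi
    have hnc : ¬ IsConj x x⁻¹ := fun h => by
      obtain ⟨m, hm⟩ := isConj_iff.1 h
      exact hxi (D.inverted_of_conj hx hm)
    have hpred : ∀ y, IsConj x y ∨ IsConj x⁻¹ y → Wild K y ∧ ¬ Inverted y := by
      have hxinv := hWcl x x⁻¹ hx hxi (inv_mem (mem_cz.2 rfl)) (inv_ne_one.2 hx.1)
      have key : ∀ a y : G, Wild K a ∧ ¬ Inverted a → IsConj a y → Wild K y ∧ ¬ Inverted y := by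
        rintro a y ⟨ha, hai⟩ hay
        obtain ⟨m, rfl⟩ := isConj_iff.1 hay
        refine ⟨(wild_conj m).2 ha, fun hi => hai ?_⟩
        have := inverted_conj m⁻¹ hi
        rwa [show m⁻¹ * (m * a * m⁻¹) * m⁻¹⁻¹ = a by group] at this
      rintro y (h | h)
      · exact key x y ⟨hx, hxi⟩ h
      · exact key x⁻¹ y hxinv h
    set A := Finset.univ.filter fun y : G => IsConj x y
    set B := Finset.univ.filter fun y : G => IsConj x⁻¹ y
    have hAB : Disjoint A B := by
      rw [Finset.disjoint_left]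
      intro y hy hy'
      exact hnc ((Finset.mem_filter.1 hy).2.trans (Finset.mem_filter.1 hy').2.symm)
    have hcA : A.card = (cz x).index := by
      rw [← CharBasics.card_conjClass, Nat.card_eq_fintype_card, Fintype.card_subtype]
    have hcB : B.card = (cz x).index := by
      rw [show cz x = cz x⁻¹ from le_antisymm
        (fun y hy => mem_cz.2 ((Commute.inv_right (mem_cz.1 hy : Commute y x))).eq)
        (fun y hy => mem_cz.2 (by simpa using (Commute.inv_right (mem_cz.1 hy : Commute y x⁻¹)).eq)),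
        ← CharBasics.card_conjClass, Nat.card_eq_fintype_card, Fintype.card_subtype]
    set W0 := Finset.univ.filter fun y : G => Wild K y ∧ ¬ Inverted y
    have hW0 : W0.card + 1 = (2 * k + 3) ^ 2 := by
      rw [← hcnt, Nat.card_eq_fintype_card, Fintype.card_subtype]
    have hsub : A ∪ B ⊆ W0 := by
      intro y hy
      simp only [A, B, Finset.mem_union, Finset.mem_filter, Finset.mem_univ, true_and] at hy
      exact Finset.mem_filter.2 ⟨Finset.mem_univ _, hpred y hy⟩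
    have hle := Finset.card_le_card hsub
    rw [Finset.card_union_of_disjoint hAB, hcA, hcB] at hle
    obtain ⟨j, hj⟩ := hqdvd x hx hxi
    have hi := Subgroup.card_mul_index (cz x)
    rw [hG] at hi
    have hi2 : (cz x).index = j * (2 * (k + 2) * (k + 1)) := by
      refine Nat.eq_of_mul_eq_mul_left (Nat.card_pos (α := cz x)) ?_
      rw [hi, hj]; ring
    have hj1 : j = 1 := by
      have h0 : j ≠ 0 := fun h => by rw [h, mul_zero] at hj; omega
      have : j ≤ 1 := by nlinarith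
      omega
    subst hj1
    refine ⟨by rw [mul_one] at hj; exact hj.symm, fun y hy hyi => ?_⟩
    have heq := Finset.eq_of_subset_of_card_le hsub (by
      rw [Finset.card_union_of_disjoint hAB, hcA, hcB, hi2]; nlinarith)
    have hmem : y ∈ A ∪ B := heq ▸ Finset.mem_filter.2 ⟨Finset.mem_univ _, hy, hyi⟩
    simpa [A, B] using hmem
  -- the prime
  set r := (orderOf h).minFac with hrdef
  have hho : orderOf h ≠ 1 := fun e => hh.1 (orderOf_eq_one_iff.1 e)
  have hr : r.Prime := Nat.minFac_prime hho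
  haveI := Fact.mk hr
  have hord : ∀ y : G, Wild K y → ¬ Inverted y → orderOf y = r := by
    have hsame : ∀ y : G, Wild K y → ¬ Inverted y → orderOf y = orderOf h := by
      intro y hy hyi
      rcases (hclass h hh hhi).2 y hy hyi with e | e <;> obtain ⟨m, rfl⟩ := isConj_iff.1 e <;>
        simp [Invol.orderOf_conj]
    intro y hy hyi
    rw [hsame y hy hyi]
    obtain ⟨z, hzc, hzo⟩ : ∃ z ∈ cz h, orderOf z = r :=
      ⟨h ^ (orderOf h / r), pow_mem (mem_cz.2 rfl) _, orderOf_pow_orderOf_div (orderOf_pos h).ne' (Nat.minFac_dvd _)⟩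
    have hz1 : z ≠ 1 := fun e => hr.one_lt.ne (by rw [← hzo, e, orderOf_one])
    obtain ⟨hzw, hzi⟩ := hWcl h z hh hhi hzc hz1
    rw [← hsame z hzw hzi, hzo]
  have hrq : r ∣ 2 * k + 3 := by
    rw [← hord h hh hhi, ← (hclass h hh hhi).1, ← Subgroup.orderOf_mk (G := G) (H := cz h) h (mem_cz.2 rfl)]
    exact orderOf_dvd_natCard _
  have hrk : ¬ r ∣ k + 2 ∧ ¬ r ∣ k + 1 := by
    constructor <;> intro hd
    · have h1 : r ∣ 1 := by
        have := Nat.dvd_sub (hd.mul_left 2) hrq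
        rwa [show 2 * (k + 2) - (2 * k + 3) = 1 by omega] at this
      exact hr.one_lt.ne' (Nat.dvd_one.1 h1)
    · have h1 : r ∣ 1 := by
        have := Nat.dvd_sub hrq (hd.mul_left 2)
        rwa [show 2 * k + 3 - 2 * (k + 1) = 1 by omega] at this
      exact hr.one_lt.ne' (Nat.dvd_one.1 h1)
  have hmemO : ∀ x : G, r ∣ orderOf x → Wild K x ∧ ¬ Inverted x := by
    intro x hx
    have hxw : Wild K x := by
      refine ⟨fun e => hr.one_lt.ne' (Nat.dvd_one.1 (by rwa [e, orderOf_one] at hx)), fun ⟨c, hc⟩ => hrk.1 ?_⟩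
      rw [← hk]
      refine hx.trans ?_
      rw [← Invol.orderOf_conj c x, ← Subgroup.orderOf_mk (G := G) (H := K) _ hc]
      exact orderOf_dvd_natCard _
    refine ⟨hxw, fun hi => hrk.2 ?_⟩
    have hc := hinv x hxw hi
    rw [hk, show k + 2 = k + 1 + 1 from rfl] at hc
    rw [← Nat.add_right_cancel hc]
    refine hx.trans ?_
    rw [← Subgroup.orderOf_mk (G := G) (H := cz x) x (mem_cz.2 rfl)]
    exact orderOf_dvd_natCard _
  have hPsub : ∀ P : Subgroup G, IsPGroup r P → P ≠ ⊥ → ∃ z : G, Wild K z ∧ ¬ Inverted z ∧ P ≤ cz z := by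
    intro P hP hne
    obtain ⟨z, hzP, hz1, hPz⟩ := exists_central hP hne
    obtain ⟨j, hj⟩ := IsPGroup.iff_orderOf.1 hP ⟨z, hzP⟩
    rw [Subgroup.orderOf_mk] at hj
    have hj0 : j ≠ 0 := fun e => hz1 (orderOf_eq_one_iff.1 (by rw [hj, e, pow_zero]))
    obtain ⟨a, b⟩ := hmemO z (hj ▸ dvd_pow_self r hj0)
    exact ⟨z, a, b, hPz⟩
  have hcpg : ∀ x : G, Wild K x → ¬ Inverted x → IsPGroup r (cz x) := fun x hx hxi =>
    IsPGroup.iff_orderOf.2 fun y => by
      by_cases hy : (y : G) = 1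
      · exact ⟨0, by rw [pow_zero, orderOf_eq_one_iff]; exact Subtype.ext hy⟩
      · obtain ⟨a, b⟩ := hWcl x y hx hxi y.2 hy
        exact ⟨1, by rw [pow_one, ← Subgroup.orderOf_coe]; exact hord _ a b⟩
  have hoddN : ∀ A : Subgroup G, A ≠ ⊥ → (∀ y ∈ A, y ≠ 1 → Wild K y ∧ ¬ Inverted y) →
      Odd (Nat.card (Subgroup.normalizer (A : Set G))) := by
    intro A hA hAO
    rw [← Nat.not_even_iff_odd, even_iff_two_dvd]
    intro hd
    haveI := Fact.mk Nat.prime_two
    obtain ⟨i, hi⟩ := exists_prime_orderOf_dvd_card' (G := Subgroup.normalizer (A : Set G)) 2 hd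
    have hi' : orderOf (i : G) = 2 := by rwa [Subgroup.orderOf_coe]
    have hneg := D.inverts_of_normalizes A (fun y hy hy1 => (hAO y hy hy1).1) hi'
      (fun y hy => (Subgroup.mem_normalizer_iff.1 i.2 y).1 hy)
    obtain ⟨y, hy, hy1⟩ : ∃ y ∈ A, y ≠ 1 := by
      by_contra hc
      push Not at hc
      exact hA ((Subgroup.eq_bot_iff_forall A).2 hc)
    exact (hAO y hy hy1).2 ⟨i, hi', hneg y hy⟩
  have hsplit : ∀ L : Subgroup G, Odd (Nat.card L) → ∃ R : Subgroup L, IsPGroup r R ∧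
      (∀ x : L, orderOf x = r → x ∈ R) ∧
      ∀ x : L, x ≠ 1 → orderOf x ≠ r → Nat.card L = Nat.card R * Nat.card (cz x) := by
    intro L hL
    have hsq : ∀ x : G, x ∈ L → x * x = 1 → x = 1 := by
      intro x hx h2
      have hd : orderOf x ∣ 2 := orderOf_dvd_iff_pow_eq_one.2 (by rw [pow_two]; exact h2)
      rcases (Nat.dvd_prime Nat.prime_two).1 hd with e | e
      · exact orderOf_eq_one_iff.1 e
      · exfalso
        have h3 : Odd (orderOf x) := by
          rw [← Subgroup.orderOf_mk (G := G) (H := L) x hx]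
          exact hL.of_dvd_nat (orderOf_dvd_natCard _)
        rw [e] at h3
        exact (Nat.not_even_iff_odd.2 h3) even_two
    have hdich : ∀ x : L, r ∣ orderOf x → orderOf x = r := fun x hx => by
      rw [← Subgroup.orderOf_coe] at hx ⊢
      obtain ⟨a, b⟩ := hmemO x hx
      exact hord _ a b
    have hnotO : ∀ x : L, x ≠ 1 → orderOf x ≠ r → ∀ y : G, Wild K y → ¬ Inverted y → (x : G) ∉ cz y :=
      fun x hx hxr y hy hyi hxy => hxr (by
        obtain ⟨a, b⟩ := hWcl y x hy hyi hxy (fun e => hx (Subtype.ext e))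
        rw [← Subgroup.orderOf_coe]; exact hord _ a b)
    have hcase : ∀ x : L, x ≠ 1 → orderOf x ≠ r →
        (∃ c : G, c * (x : G) * c⁻¹ ∈ K ∧ cz (c * (x : G) * c⁻¹) = K) ∨ (Wild K (x : G) ∧ Inverted (x : G)) := by
      intro x hx hxr
      by_cases hc : IsConjIn K (x : G)
      · obtain ⟨c, hc⟩ := hc
        refine Or.inl ⟨c, hc, D.cz_eq hc fun e => hx (Subtype.ext (hsq x x.2 ?_))⟩
        exact conj_eq_one_iff.1 (show c * ((x : G) * x) * c⁻¹ = 1 by
          rw [← e]; group)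
      · refine Or.inr ⟨⟨fun e => hx (Subtype.ext e), hc⟩, ?_⟩
        by_contra hi
        exact hnotO x hx hxr x ⟨fun e => hx (Subtype.ext e), hc⟩ hi (mem_cz.2 rfl)
    refine fpf_split hr hL hdich (fun x hx hxr y hy hy1 => ⟨fun hyr => ?_, ?_⟩) (fun x hx hxr m hm => ?_)
    · obtain ⟨a, b⟩ := hmemO (y : G) (by rw [Subgroup.orderOf_coe, hyr])
      exact hnotO x hx hxr y a b (mem_cz_comm.1 (mem_cz_sub.1 hy))
    · have key : cz (y : G) = cz (x : G) := by
        rcases hcase x hx hxr with ⟨c, hc, hcz⟩ | ⟨hw, hi⟩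
        · have h1 : c * (y : G) * c⁻¹ ∈ K := hcz ▸ (cz_conj c).2 (mem_cz_sub.1 hy)
          have h2 : cz (c * (y : G) * c⁻¹) = K := D.cz_eq h1 fun e => hy1 (Subtype.ext (hsq y y.2
            (conj_eq_one_iff.1 (show c * ((y : G) * y) * c⁻¹ = 1 by rw [← e]; group))))
          ext z
          rw [← cz_conj c, h2, ← cz_conj c (g := (x : G)), hcz]
        · exact (D.inverted_cz hw hi (mem_cz_sub.1 hy) fun e => hy1 (Subtype.ext e)).2
      ext z
      rw [mem_cz_sub, mem_cz_sub, key]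
    · rw [mem_cz_sub] at hm ⊢
      simp only [Subgroup.coe_mul, Subgroup.coe_inv] at hm
      rcases hcase x hx hxr with ⟨c, hc, hcz⟩ | ⟨hw, ⟨i, hi, hix⟩⟩
      · rw [← cz_conj c, hcz]
        have h1 := (cz_conj c).2 hm
        rw [hcz, show c * ((m : G) * x * (m : G)⁻¹) * c⁻¹ = c * m * c⁻¹ * (c * x * c⁻¹) * (c * m * c⁻¹)⁻¹ by
          group] at h1
        have h2 := D.ti hc (fun e => hx (Subtype.ext (conj_eq_one_iff.1 e))) h1
        by_contra hK
        have h3 := (D.not_mem_K h2 hK).1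
        have h4 : (m : G) = 1 := hsq m m.2 (conj_eq_one_iff.1 (show c * ((m : G) * m) * c⁻¹ = 1 by
          rw [← h3]; group))
        exact hK (by rw [h4]; simp)
      · rcases D.torus_normalizer hw hi hix (hinv _ hw ⟨i, hi, hix⟩) hm with h1 | h1
        · exact h1
        · have h2 := (D.inverts_cz hw hi hix).1 _ h1
          have h3 : (m : G) = 1 := hsq m m.2 <| by
            calc (m : G) * m = (i * (i * m) * i⁻¹) * (i * m) := by
                  rw [← mul_assoc i i, mul_self_of_orderOf hi, one_mul, inv_eq_of_orderOf hi]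
                  rw [mul_assoc (m : G) i, ← mul_assoc i i, mul_self_of_orderOf hi, one_mul]
              _ = 1 := by rw [h2, inv_mul_cancel]
          rw [h3]; exact one_mem _
  -- trivial intersections
  have hTI : ∀ y z : G, Wild K y → ¬ Inverted y → Wild K z → ¬ Inverted z → cz y ⊓ cz z ≠ ⊥ → cz y = cz z := by
    by_contra hc
    push Not at hc
    set S := Finset.univ.filter fun p : G × G => (Wild K p.1 ∧ ¬ Inverted p.1) ∧ (Wild K p.2 ∧ ¬ Inverted p.2) ∧
      cz p.1 ⊓ cz p.2 ≠ ⊥ ∧ cz p.1 ≠ cz p.2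
    obtain ⟨y₀, z₀, a1, a2, a3, a4, a5, a6⟩ := hc
    obtain ⟨⟨y, z⟩, hmem, hmax⟩ := Finset.exists_max_image S (fun p => Nat.card (cz p.1 ⊓ cz p.2 : Subgroup G))
      ⟨(y₀, z₀), Finset.mem_filter.2 ⟨Finset.mem_univ _, ⟨a1, a2⟩, ⟨a3, a4⟩, a5, a6⟩⟩
    simp only [S, Finset.mem_filter, Finset.mem_univ, true_and] at hmem hmax
    obtain ⟨⟨hy, hyi⟩, ⟨hz, hzi⟩, hW, hne⟩ := hmem
    set W := cz y ⊓ cz z with hWdef
    set L := Subgroup.normalizer (W : Set G) with hLdef
    obtain ⟨R, hR, hRmem, -⟩ := hsplit L (hoddN W hW fun w hw hw1 => hWcl y w hy hyi (Subgroup.mem_inf.1 hw).1 hw1)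
    have hWL : W ≤ L := Subgroup.le_normalizer
    have hbig : ∀ v : G, Wild K v → ¬ Inverted v → cz v ⊓ L ≤ R.map L.subtype := by
      intro v hv hvi x hx
      by_cases hx1 : x = 1
      · rw [hx1]; exact one_mem _
      obtain ⟨a, b⟩ := hWcl v x hv hvi (Subgroup.mem_inf.1 hx).1 hx1
      exact ⟨⟨x, (Subgroup.mem_inf.1 hx).2⟩, hRmem _ (by rw [Subgroup.orderOf_mk]; exact hord x a b), rfl⟩
    obtain ⟨v, hv, hvi, hRv⟩ := hPsub _ (hR.map L.subtype) (fun e => hW (le_bot_iff.1 (by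
      rw [← e]; exact le_trans (le_inf inf_le_left hWL) (hbig y hy hyi))))
    have hgrow : ∀ u : G, Wild K u → ¬ Inverted u → W < cz u → cz u = cz v := by
      intro u hu hui hlt
      haveI : Group.IsNilpotent (cz u) := (hcpg u hu hui).isNilpotent
      have hlt' : W.subgroupOf (cz u) < ⊤ := lt_top_iff_ne_top.2 fun e =>
        hlt.not_ge (Subgroup.subgroupOf_eq_top.1 e)
      obtain ⟨x, hxN, hxW⟩ := SetLike.exists_of_lt (Group.normalizerCondition_of_isNilpotent _ hlt')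
      have hxL : (x : G) ∈ L := Subgroup.mem_normalizer_iff.2 fun w => by
        constructor
        · intro hw
          exact (Subgroup.mem_subgroupOf.1 ((Subgroup.mem_normalizer_iff.1 hxN ⟨w, hlt.le hw⟩).1
            (Subgroup.mem_subgroupOf.2 hw)))
        · intro hw
          have hwu : w ∈ cz u := by
            have := mul_mem (mul_mem (inv_mem x.2) (hlt.le hw)) x.2
            rwa [show (x : G)⁻¹ * ((x : G) * w * (x : G)⁻¹) * (x : G) = w by group] at this
          exact Subgroup.mem_subgroupOf.1 ((Subgroup.mem_normalizer_iff.1 hxN ⟨w, hwu⟩).2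
            (Subgroup.mem_subgroupOf.2 hw))
      by_contra hne'
      have h1 : W < cz u ⊓ cz v := by
        refine lt_of_le_of_ne (le_inf hlt.le ((le_inf hlt.le hWL).trans ((hbig u hu hui).trans hRv))) fun e => ?_
        exact hxW (Subgroup.mem_subgroupOf.2 (e ▸ Subgroup.mem_inf.2
          ⟨x.2, hRv (hbig u hu hui (Subgroup.mem_inf.2 ⟨x.2, hxL⟩))⟩))
      have h2 := hmax (u, v) ⟨⟨hu, hui⟩, ⟨hv, hvi⟩, fun e => hW (le_bot_iff.1 (e ▸ h1.le)), hne'⟩
      exact h2.not_gt (Set.Finite.card_lt_card (Set.toFinite _) h1)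
    have hcard2 := fun u hu hui => (hclass u hu hui).1
    have hlt1 : W < cz y := lt_of_le_of_ne inf_le_left fun e => hne (Subgroup.eq_of_le_of_card_ge
      (e ▸ inf_le_right) (by rw [hcard2 y hy hyi, hcard2 z hz hzi]))
    have hlt2 : W < cz z := lt_of_le_of_ne inf_le_right fun e => hne (Subgroup.eq_of_le_of_card_ge
      (e ▸ inf_le_left) (by rw [hcard2 y hy hyi, hcard2 z hz hzi])).symm
    exact hne ((hgrow y hy hyi hlt1).trans (hgrow z hz hzi hlt2).symm)
  have hQ : ∀ x : G, Wild K x → ¬ Inverted x → ∀ y ∈ cz x, y ≠ 1 → cz y = cz x := by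
    intro x hx hxi y hy hy1
    obtain ⟨a, b⟩ := hWcl x y hx hxi hy hy1
    refine hTI y x a b hx hxi fun e => hy1 ?_
    have : y ∈ cz y ⊓ cz x := Subgroup.mem_inf.2 ⟨mem_cz.2 rfl, hy⟩
    rwa [e, Subgroup.mem_bot] at this
  -- the normalizer
  have hcardN : ∀ x : G, Wild K x → ¬ Inverted x →
      Nat.card (Subgroup.normalizer ((cz x : Subgroup G) : Set G)) = (2 * k + 3) * (k + 1) := by
    intro x hx hxi
    obtain ⟨hq, hcov⟩ := hclass x hx hxi
    set N := Subgroup.normalizer ((cz x : Subgroup G) : Set G)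
    have hOQ : ∀ y : cz x, y ≠ 1 → Wild K (y : G) ∧ ¬ Inverted (y : G) := fun y hy =>
      hWcl x y hx hxi y.2 fun e => hy (Subtype.ext e)
    have key : Function.Bijective (fun p : (G ⧸ N) × {y : cz x // y ≠ 1} =>
        (⟨p.1.out * (p.2.1 : G) * p.1.out⁻¹, (wild_conj _).2 (hOQ _ p.2.2).1, fun hi => (hOQ _ p.2.2).2 (by
          have := inverted_conj p.1.out⁻¹ hi
          rwa [show p.1.out⁻¹ * (p.1.out * (p.2.1 : G) * p.1.out⁻¹) * p.1.out⁻¹⁻¹ = (p.2.1 : G) by group] at this)⟩ :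
          {g : G // Wild K g ∧ ¬ Inverted g})) := by
      refine ⟨?_, ?_⟩
      · rintro ⟨q, y, hy⟩ ⟨q', y', hy'⟩ e
        have e' : q.out * (y : G) * q.out⁻¹ = q'.out * (y' : G) * q'.out⁻¹ := congrArg Subtype.val e
        set m := q'.out⁻¹ * q.out with hm
        have hmy : m * (y : G) * m⁻¹ = y' := by
          rw [hm, show q'.out⁻¹ * q.out * (y : G) * (q'.out⁻¹ * q.out)⁻¹ =
            q'.out⁻¹ * (q.out * (y : G) * q.out⁻¹) * q'.out by group, e']
          group
        have hmN : m ∈ N := Subgroup.mem_normalizer_iff.2 fun w => by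
          have h := cz_conj (g := (y : G)) (x := w) m
          rw [hmy, hQ x hx hxi _ y.2 (fun h' => hy (Subtype.ext h')),
            hQ x hx hxi _ y'.2 (fun h' => hy' (Subtype.ext h'))] at h
          exact h.symm
        obtain rfl : q' = q := by
          rw [← QuotientGroup.out_eq' q', ← QuotientGroup.out_eq' q]
          exact QuotientGroup.eq.2 hmN
        obtain rfl : y = y' := Subtype.ext (mul_left_cancel (mul_right_cancel e'))
        rfl
      · rintro ⟨g, hg, hgi⟩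
        obtain ⟨v, hv, hv1, m, rfl⟩ : ∃ v ∈ cz x, v ≠ 1 ∧ ∃ m : G, m * v * m⁻¹ = g := by
          rcases hcov g hg hgi with e | e <;> obtain ⟨m, hm⟩ := isConj_iff.1 e
          · exact ⟨x, mem_cz.2 rfl, hx.1, m, hm⟩
          · exact ⟨x⁻¹, inv_mem (mem_cz.2 rfl), inv_ne_one.2 hx.1, m, hm⟩
        obtain ⟨d, hd⟩ := QuotientGroup.mk_out_eq_mul N m
        have hmem : (d : G)⁻¹ * v * (d : G)⁻¹⁻¹ ∈ cz x :=
          (Subgroup.mem_normalizer_iff.1 (inv_mem d.2) v).1 hv
        refine ⟨⟨((m : G) : G ⧸ N), ⟨⟨_, hmem⟩, fun e => hv1 (conj_eq_one_iff.1 (congrArg Subtype.val e :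
          (d : G)⁻¹ * v * (d : G)⁻¹⁻¹ = 1))⟩⟩, Subtype.ext ?_⟩
        simp only [hd]
        group
    have h1 := Nat.card_congr (Equiv.ofBijective _ key)
    haveI := Fintype.ofFinite (cz x)
    rw [Nat.card_prod, ← Subgroup.index_eq_card, Nat.card_eq_fintype_card (α := {y : cz x // y ≠ 1}),
      Fintype.card_subtype_compl, Fintype.card_subtype_eq, ← Nat.card_eq_fintype_card (α := cz x), hq,
      show 2 * k + 3 - 1 = 2 * k + 2 by omega] at h1
    have h2 := Subgroup.card_mul_index N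
    rw [hG] at h2
    rw [← h1] at hcnt
    have h3 : N.index = 2 * k + 4 := by
      have : N.index * (2 * k + 2) = (2 * k + 4) * (2 * k + 2) := by nlinarith
      exact Nat.eq_of_mul_eq_mul_right (by omega) this
    rw [h3] at h2
    refine Nat.eq_of_mul_eq_mul_right (show 0 < 2 * k + 4 by omega) ?_
    rw [h2]; ring
  rcases Nat.eq_zero_or_pos k with hk0 | hk0
  · refine ⟨cz h, ⊥, ?_, hQ h hh hhi, ⟨⟨fun a b => Subsingleton.elim _ _⟩⟩, ?_, inf_bot_eq _, ?_,
      fun X hX hne => absurd (le_bot_iff.1 hX) hne⟩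
    · rw [(hclass h hh hhi).1, hG, hk0]
    · rw [(hclass h hh hhi).1, Subgroup.card_bot, hk0]
    · rw [sup_bot_eq]
      exact (Subgroup.eq_of_le_of_card_ge Subgroup.le_normalizer (by
        rw [(hclass h hh hhi).1, hcardN h hh hhi, hk0])).symm
  set N := Subgroup.normalizer ((cz h : Subgroup G) : Set G)
  obtain ⟨p, hp, hpd⟩ := Nat.exists_prime_and_dvd (show k + 1 ≠ 1 by omega)
  haveI := Fact.mk hp
  obtain ⟨x, hx⟩ := exists_prime_orderOf_dvd_card' (G := N) p (by rw [hcardN h hh hhi]; exact hpd.mul_left _)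
  have hxo : orderOf (x : G) = p := by rwa [Subgroup.orderOf_coe]
  have hx1 : (x : G) ≠ 1 := fun e => hp.one_lt.ne (by rw [← hxo, e, orderOf_one])
  have hxr : orderOf x ≠ r := fun e => hrk.2 (by rw [← e, hx]; exact hpd)
  have hxw : Wild K (x : G) := by
    refine ⟨hx1, fun ⟨c, hc⟩ => ?_⟩
    have hd2 : p ∣ k + 2 := by
      rw [← hk, ← hxo, ← Invol.orderOf_conj c (x : G), ← Subgroup.orderOf_mk (G := G) (H := K) _ hc]
      exact orderOf_dvd_natCard _
    exact hp.one_lt.ne' (Nat.dvd_one.1 ((Nat.dvd_add_right hpd).1 hd2))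
  have hxi : Inverted (x : G) := by
    by_contra hi
    exact hxr (by rw [← Subgroup.orderOf_coe]; exact hord _ hxw hi)
  have hoN : Odd (Nat.card N) := hoddN _
    (fun e => hh.1 (by
      have : h ∈ cz h := mem_cz.2 rfl
      rwa [e, Subgroup.mem_bot] at this))
    (fun y hy hy1 => hWcl h y hh hhi hy hy1)
  obtain ⟨R, hR, -, hRcard⟩ := hsplit N hoN
  have hcx : Nat.card (cz (x : G)) = k + 1 := by
    have := hinv _ hxw hxi
    omega
  have hxN : cz (x : G) ≤ N := by
    have h1 := hRcard x (fun e => hx1 (by rw [e]; rfl)) hxr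
    rw [hcardN h hh hhi] at h1
    have hmap : (cz x).map N.subtype ≤ cz (x : G) := by
      rintro w ⟨v, hv, rfl⟩
      exact mem_cz_sub.1 hv
    have hcm : Nat.card ((cz x).map N.subtype) = Nat.card (cz x) :=
      (Nat.card_congr (Subgroup.equivMapOfInjective _ _ N.subtype_injective).toEquiv).symm
    have hRle : Nat.card R ≤ 2 * k + 3 := by
      by_cases hRb : R.map N.subtype = ⊥
      · rw [(Subgroup.map_eq_bot_iff_of_injective _ N.subtype_injective).1 hRb, Subgroup.card_bot]; omega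
      obtain ⟨v, hv, hvi, hle⟩ := hPsub _ (hR.map N.subtype) hRb
      rw [← (hclass v hv hvi).1, Nat.card_congr (Subgroup.equivMapOfInjective R _ N.subtype_injective).toEquiv]
      exact Subgroup.card_le_of_le hle
    have heq := Subgroup.eq_of_le_of_card_ge hmap (by
      rw [hcm, hcx]
      by_contra hlt
      nlinarith [Nat.lt_of_not_le hlt])
    exact heq ▸ Subgroup.map_subtype_le _
  obtain ⟨i, hi, hix⟩ := hxi
  obtain ⟨c, hc⟩ := isConj_iff.1 (D.hconj i t hi D.ht)
  set g := c * (x : G) * c⁻¹ with hgdef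
  set h' := c * h * c⁻¹ with hh'def
  have hgw : Wild K g := (wild_conj c).2 hxw
  have htg : t * g * t⁻¹ = g⁻¹ := by
    rw [← hc, hgdef]
    calc c * i * c⁻¹ * (c * x * c⁻¹) * (c * i * c⁻¹)⁻¹ = c * (i * x * i⁻¹) * c⁻¹ := by group
      _ = _ := by rw [hix]; group
  have hh' : Wild K h' ∧ ¬ Inverted h' := ⟨(wild_conj c).2 hh, fun e => hhi (by
    have := inverted_conj c⁻¹ e
    rwa [hh'def, show c⁻¹ * (c * h * c⁻¹) * c⁻¹⁻¹ = h by group] at this)⟩
  obtain ⟨hinvA, habA⟩ := D.inverts_cz hgw D.ht htg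
  have hgc : Nat.card (cz g) + 1 = Nat.card K := hinv g hgw ⟨t, D.ht, htg⟩
  have hDN : cz g ≤ Subgroup.normalizer ((cz h' : Subgroup G) : Set G) := by
    intro w hw
    have hw' : c⁻¹ * w * c ∈ N := hxN ((cz_conj c).1 (by
      rw [show c * (c⁻¹ * w * c) * c⁻¹ = w by group]; exact hw))
    refine Subgroup.mem_normalizer_iff.2 fun v => ?_
    have h1 := Subgroup.mem_normalizer_iff.1 hw' (c⁻¹ * v * c)
    rw [← cz_conj c, ← cz_conj c (g := h) (x := c⁻¹ * w * c * (c⁻¹ * v * c) * (c⁻¹ * w * c)⁻¹)] at h1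
    rw [show c * (c⁻¹ * v * c) * c⁻¹ = v by group,
      show c * (c⁻¹ * w * c * (c⁻¹ * v * c) * (c⁻¹ * w * c)⁻¹) * c⁻¹ = w * v * w⁻¹ by group] at h1
    exact h1
  have htD : t ∉ cz g := fun h0 => (D.wild_commute hgw D.t_ne_one h0).2 ⟨1, by simpa using D.htK⟩
  have hDne : cz g ≠ ⊥ := fun e => hgw.1 (by
    have : g ∈ cz g := mem_cz.2 rfl
    rwa [e, Subgroup.mem_bot] at this)
  have hNX : ∀ X : Subgroup G, X ≤ cz g → X ≠ ⊥ →
      Subgroup.normalizer (X : Set G) = cz g ⊔ Subgroup.zpowers t := by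
    intro X hX hne
    refine le_antisymm (fun m hm => ?_) (sup_le (fun m hm => ?_) ?_)
    · obtain ⟨v, hv, hv1⟩ : ∃ v ∈ X, v ≠ 1 := by
        by_contra hcon
        push Not at hcon
        exact hne ((Subgroup.eq_bot_iff_forall X).2 hcon)
      obtain ⟨hvi, hvc⟩ := D.inverted_cz hgw ⟨t, D.ht, htg⟩ (hX hv) hv1
      rcases D.torus_normalizer (D.wild_commute hgw hv1 (hX hv)) D.ht (hinvA v (hX hv))
        (hvc ▸ hgc) (hvc ▸ hX ((Subgroup.mem_normalizer_iff.1 hm v).1 hv)) with h1 | h1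
      · exact Subgroup.mem_sup_left (hvc ▸ h1)
      · rw [← inv_mul_cancel_left t m]
        exact mul_mem (Subgroup.mem_sup_right (inv_mem (Subgroup.mem_zpowers t))) (Subgroup.mem_sup_left (hvc ▸ h1))
    · refine Subgroup.mem_normalizer_iff.2 fun v => ?_
      constructor
      · intro hv
        rw [habA m hm v (hX hv), mul_inv_cancel_right]; exact hv
      · intro hv
        have h1 := habA m⁻¹ (inv_mem hm) _ (hX hv)
        rw [show m⁻¹ * (m * v * m⁻¹) = v * m⁻¹ by group] at h1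
        rw [mul_right_cancel h1]; exact hv
    · refine Subgroup.zpowers_le.2 (Subgroup.mem_normalizer_iff.2 fun v => ?_)
      constructor
      · intro hv; rw [hinvA v (hX hv)]; exact inv_mem hv
      · intro hv
        have h1 := hinvA _ (hX hv)
        rw [show t * (t * v * t⁻¹) * t⁻¹ = (t * t) * v * (t * t)⁻¹ by group, mul_self_of_orderOf D.ht, one_mul,
          inv_one, mul_one] at h1
        rw [h1]; exact inv_mem hv
  refine ⟨cz h', cz g, ?_, hQ h' hh'.1 hh'.2, ⟨⟨fun a b => Subtype.ext (habA a a.2 b b.2)⟩⟩, ?_, ?_, ?_,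
    fun X hX hne => ⟨(hNX X hX hne).trans (hNX _ le_rfl hDne).symm, t, D.ht, htD, hinvA, hNX _ le_rfl hDne⟩⟩
  · rw [(hclass h' hh'.1 hh'.2).1, hG, show 2 * k + 3 - 1 = 2 * k + 2 by omega]; ring
  · rw [(hclass h' hh'.1 hh'.2).1]; omega
  · refine (Subgroup.eq_bot_iff_forall _).2 fun v hv => ?_
    by_contra hv1
    exact (hWcl h' v hh'.1 hh'.2 (Subgroup.mem_inf.1 hv).1 hv1).2
      (D.inverted_cz hgw ⟨t, D.ht, htg⟩ (Subgroup.mem_inf.1 hv).2 hv1).1
  · refine (Subgroup.eq_of_le_of_card_ge (sup_le Subgroup.le_normalizer hDN) ?_).symm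
    rw [hcardN h' hh'.1 hh'.2, ← (hclass h' hh'.1 hh'.2).1, show k + 1 = Nat.card (cz g) by omega]
    refine Nat.le_of_dvd Nat.card_pos ?_
    refine Nat.Coprime.mul_dvd_of_dvd_of_dvd ?_ (Subgroup.card_dvd_of_le le_sup_left)
      (Subgroup.card_dvd_of_le le_sup_right)
    rw [(hclass h' hh'.1 hh'.2).1, show Nat.card (cz g) = k + 1 by omega]
    refine Nat.coprime_of_dvd fun q hq h1 h2 => hq.one_lt.ne' (Nat.dvd_one.1 ?_)
    have := Nat.dvd_sub h1 (h2.mul_left 2)
    rwa [show 2 * k + 3 - 2 * (k + 1) = 1 by omega] at this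

/-- The abstract form of the Brauer–Suzuki–Wall theorem. -/
theorem structured : Structured G := by
  rcases D.shapes with ⟨a, b, c⟩ | ⟨a, b, c⟩
  · exact D.structured_plus a b c
  · exact D.structured_minus a b c

/-- The order of `G`. -/
theorem order_cases : Nat.card G = 2 * Nat.card K * ((2 * Nat.card K + 1) * (Nat.card K + 1)) ∨
    Nat.card G = 2 * Nat.card K * ((2 * Nat.card K - 1) * (Nat.card K - 1)) := by
  rw [D.card_G]
  rcases D.shapes with ⟨a, -⟩ | ⟨a, -⟩ <;> rw [a] <;> simp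

end Hyp

end CfsgLib.BSW
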