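import Mathlib
import Cfsg.Agent.BSW.Main

/-!
The field structure on the subgroup `Q` of a structured group.
-/

set_option autoImplicit false

namespace CfsgLib.BSW

universe u v

variable {G : Type u} [Group G] [Finite G]

/-- A Frobenius group `Q ⊔ D` with `|D| = (|Q| - 1) / 2`. -/
structure Base (Q D : Subgroup G) : Prop where
  hcz : ∀ x ∈ Q, x ≠ 1 → Subgroup.centralizer ({x} : Set G) = Q
  hab : ∀ x ∈ D, ∀ y ∈ D, x * y = y * x
  hcard : 2 * Nat.card ↥D + 1 = Nat.card ↥Q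
  hinf : Q ⊓ D = ⊥
  hnorm : ∀ c ∈ D, ∀ x ∈ Q, c * x * c⁻¹ ∈ Q

namespace Base

variable {Q D : Subgroup G} (B : Base Q D)
include B

theorem comm {x y : G} (hx : x ∈ Q) (hy : y ∈ Q) : x * y = y * x := by
  rcases eq_or_ne x 1 with rfl | hx1
  · simp
  rw [← B.hcz x hx hx1] at hy
  exact (Subgroup.mem_centralizer_singleton_iff.1 hy).symm

theorem semiregular {c x : G} (hc : c ∈ D) (hx : x ∈ Q) (hx1 : x ≠ 1) (h : c * x * c⁻¹ = x) : c = 1 := by
  have h1 : c ∈ Subgroup.centralizer ({x} : Set G) :=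
    Subgroup.mem_centralizer_singleton_iff.2 (mul_inv_eq_iff_eq_mul.1 h)
  rw [B.hcz x hx hx1] at h1
  have h2 : c ∈ Q ⊓ D := ⟨h1, hc⟩
  rwa [B.hinf, Subgroup.mem_bot] at h2

omit [Finite G] B in
/-- Conjugation, as an additive endomorphism. -/
def conjEnd (Q : Subgroup G) (c : G) (hc : ∀ x ∈ Q, c * x * c⁻¹ ∈ Q) : AddMonoid.End (Additive ↥Q) :=
  AddMonoidHom.mk' (fun x => Additive.ofMul (⟨c * (x.toMul : G) * c⁻¹, hc _ x.toMul.2⟩ : ↥Q)) fun x y => by
    refine congrArg Additive.ofMul (Subtype.ext ?_)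
    show c * ((x.toMul : G) * (y.toMul : G)) * c⁻¹ = c * (x.toMul : G) * c⁻¹ * (c * (y.toMul : G) * c⁻¹)
    group

omit [Finite G] B in
theorem conjEnd_apply (Q : Subgroup G) (c : G) (hc : ∀ x ∈ Q, c * x * c⁻¹ ∈ Q) (x : Additive ↥Q) :
    ((conjEnd Q c hc x).toMul : G) = c * (x.toMul : G) * c⁻¹ := rfl

theorem irred {A : Subgroup G} (hA : A ≤ Q) (hAn : A ≠ ⊥) (hinv : ∀ c ∈ D, ∀ x ∈ A, c * x * c⁻¹ ∈ A) :
    A = Q := by
  classical
  by_contra hne
  obtain ⟨a, ha, ha1⟩ : ∃ a ∈ A, a ≠ 1 := by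
    by_contra hc
    push Not at hc
    exact hAn ((Subgroup.eq_bot_iff_forall A).2 hc)
  have h1 : Nat.card ↥D ≤ Nat.card {x : ↥A // x ≠ 1} :=
    Nat.card_le_card_of_injective (fun c => ⟨⟨c * a * (c : G)⁻¹, hinv c c.2 a ha⟩, fun e =>
      ha1 (conj_eq_one_iff.1 (congrArg Subtype.val e))⟩) fun c c' e => by
      have e' : (c : G) * a * (c : G)⁻¹ = c' * a * (c' : G)⁻¹ := congrArg Subtype.val (congrArg Subtype.val e)
      have h2 := B.semiregular (mul_mem (inv_mem c'.2) c.2) (hA ha) ha1 (by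
        calc (c' : G)⁻¹ * c * a * ((c' : G)⁻¹ * c)⁻¹ = (c' : G)⁻¹ * (c * a * (c : G)⁻¹) * c' := by group
          _ = a := by rw [e']; group)
      exact Subtype.ext (eq_of_inv_mul_eq_one h2).symm
  haveI := Fintype.ofFinite ↥A
  rw [Nat.card_eq_fintype_card (α := {x : ↥A // x ≠ 1}), Fintype.card_subtype_compl, Fintype.card_subtype_eq,
    ← Nat.card_eq_fintype_card] at h1
  obtain ⟨i, hi⟩ := Subgroup.card_dvd_of_le hA
  have hQ := B.hcard
  have hA0 := Nat.card_pos (α := ↥A)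
  have hi1 : i ≠ 1 := fun h => hne (Subgroup.eq_of_le_of_card_ge hA (by rw [hi, h, mul_one]))
  have hi0 : i ≠ 0 := fun h => by rw [h, mul_zero] at hi; omega
  have hi2 : i ≠ 2 := fun h => by rw [h] at hi; omega
  have hD0 := Nat.card_pos (α := ↥D)
  have : Nat.card ↥A * 3 ≤ Nat.card ↥Q := by rw [hi]; exact Nat.mul_le_mul_left _ (by omega)
  omega

/-- `Q` carries the structure of a one-dimensional space over a finite field. -/
theorem exists_field : ∃ (R : Type u) (_ : Field R) (_ : Fintype R) (τ : R → G),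
    Fintype.card R = Nat.card ↥Q ∧ Function.Injective τ ∧ (∀ a b, τ (a + b) = τ a * τ b) ∧
    (∀ a, τ a ∈ Q) ∧ (∀ x ∈ Q, ∃ a, τ a = x) ∧
    ∀ c ∈ D, ∃ r : R, ∀ a, c * τ a * c⁻¹ = τ (r * a) := by
  classical
  haveI : IsMulCommutative ↥Q := ⟨⟨fun x y => Subtype.ext (B.comm x.2 y.2)⟩⟩
  letI : CommGroup ↥Q := { (inferInstance : Group ↥Q) with mul_comm := fun x y => Subtype.ext (B.comm x.2 y.2) }
  set gens : Set (AddMonoid.End (Additive ↥Q)) :=
    Set.range fun c : ↥D => conjEnd Q (c : G) (B.hnorm c c.2) with hgens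
  set R := Subring.closure gens with hR
  have hgc : ∀ x ∈ gens, ∀ y ∈ gens, x * y = y * x := by
    rintro _ ⟨c, rfl⟩ _ ⟨c', rfl⟩
    refine AddMonoidHom.ext fun x => ?_
    refine congrArg Additive.ofMul (Subtype.ext ?_)
    show (c : G) * ((c' : G) * (x.toMul : G) * (c' : G)⁻¹) * (c : G)⁻¹ =
      (c' : G) * ((c : G) * (x.toMul : G) * (c : G)⁻¹) * (c' : G)⁻¹
    calc _ = ((c : G) * c') * (x.toMul : G) * ((c : G) * c')⁻¹ := by group
      _ = _ := by rw [B.hab c c.2 c' c'.2]; group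
  haveI hRc : IsMulCommutative ↥R := Subring.isMulCommutative_closure hgc
  -- invariant subgroups of the additive group
  have inv_sub : ∀ H : AddSubgroup (Additive ↥Q),
      (∀ c : ↥D, ∀ x ∈ H, conjEnd Q (c : G) (B.hnorm c c.2) x ∈ H) → H ≠ ⊥ → H = ⊤ := by
    intro H hinv hH
    set A : Subgroup G := (AddSubgroup.toSubgroup' H).map Q.subtype with hAdef
    have hmem : ∀ x : ↥Q, (x : G) ∈ A ↔ Additive.ofMul x ∈ H := fun x => by
      rw [hAdef]
      refine (Subgroup.mem_map_iff_mem Q.subtype_injective (x := x)).trans ?_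
      rfl
    have hAQ : A = Q := B.irred (Subgroup.map_subtype_le _) (fun h => hH ?_) ?_
    · refine (AddSubgroup.eq_top_iff' H).2 fun x => ?_
      exact (hmem x.toMul).1 (by rw [hAQ]; exact x.toMul.2)
    · refine (AddSubgroup.eq_bot_iff_forall H).2 fun x hx => ?_
      have h1 := (hmem x.toMul).2 hx
      rw [h, Subgroup.mem_bot] at h1
      exact congrArg Additive.ofMul (Subtype.ext h1 : x.toMul = 1)
    · intro c hc x hx
      have hxQ : x ∈ Q := Subgroup.map_subtype_le _ hx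
      exact (hmem ⟨c * x * c⁻¹, B.hnorm c hc x hxQ⟩).2 (hinv ⟨c, hc⟩ _ ((hmem ⟨x, hxQ⟩).1 hx))
  have hcomm : ∀ (r : ↥R) (c : ↥D) (x : Additive ↥Q), (r : AddMonoid.End (Additive ↥Q))
      (conjEnd Q (c : G) (B.hnorm c c.2) x) = conjEnd Q (c : G) (B.hnorm c c.2) ((r : AddMonoid.End (Additive ↥Q)) x) := by
    intro r c x
    have h := hRc.is_comm.comm r ⟨_, Subring.subset_closure ⟨c, rfl⟩⟩
    exact DFunLike.congr_fun (congrArg Subtype.val h) x
  have hinj : ∀ r : ↥R, r ≠ 0 → ∀ x, (r : AddMonoid.End (Additive ↥Q)) x = 0 → x = 0 := by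
    intro r hr x hx
    by_contra hx0
    refine hr (Subtype.ext (AddMonoidHom.ext fun y => ?_))
    have h := inv_sub (AddMonoidHom.ker (r : AddMonoid.End (Additive ↥Q))) (fun c z hz => ?_) (fun h => hx0 ?_)
    · have hy : y ∈ AddMonoidHom.ker (r : AddMonoid.End (Additive ↥Q)) := by rw [h]; trivial
      exact hy
    · have hz' : (r : AddMonoid.End (Additive ↥Q)) z = 0 := hz
      exact (hcomm r c z).trans (by rw [hz', map_zero])
    · have hy : x ∈ AddMonoidHom.ker (r : AddMonoid.End (Additive ↥Q)) := hx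
      rwa [h, AddSubgroup.mem_bot] at hy
  obtain ⟨v0, hv0⟩ : ∃ v : Additive ↥Q, v ≠ 0 := by
    haveI : Nontrivial ↥Q := by
      rw [← Finite.one_lt_card_iff_nontrivial, ← B.hcard]
      have := Nat.card_pos (α := ↥D)
      omega
    exact exists_ne 0
  let ev : ↥R →+ Additive ↥Q :=
    { toFun := fun r => (r : AddMonoid.End (Additive ↥Q)) v0
      map_zero' := rfl
      map_add' := fun _ _ => rfl }
  have hev : Function.Bijective ev := by
    refine ⟨(injective_iff_map_eq_zero ev).2 fun r hr => ?_, ?_⟩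
    · by_contra h
      exact hv0 (hinj r h v0 hr)
    · rw [← AddMonoidHom.range_eq_top]
      refine inv_sub _ (fun c x hx => ?_) fun h => hv0 ?_
      · obtain ⟨r, rfl⟩ := hx
        exact ⟨⟨_, Subring.subset_closure ⟨c, rfl⟩⟩ * r, rfl⟩
      · have h1 : ev 1 ∈ ev.range := ⟨1, rfl⟩
        rwa [h, AddSubgroup.mem_bot] at h1
  haveI : Finite (AddMonoid.End (Additive ↥Q)) := DFunLike.finite _
  haveI : Nontrivial (Additive ↥Q) := ⟨⟨v0, 0, hv0⟩⟩
  haveI : Nontrivial ↥R := hev.2.nontrivial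
  haveI : NoZeroDivisors ↥R := ⟨fun {a b} hab => by
    by_contra h
    push Not at h
    refine h.2 (hev.1 ?_)
    rw [map_zero]
    exact hinj a h.1 _ (DFunLike.congr_fun (congrArg Subtype.val hab) v0)⟩
  haveI : IsDomain ↥R := NoZeroDivisors.to_isDomain _
  letI : CommRing ↥R := { (inferInstance : Ring ↥R) with mul_comm := hRc.is_comm.comm }
  have hF : IsField ↥R := Finite.isField_of_domain ↥R
  letI : Field ↥R := hF.toField
  letI : Fintype ↥R := Fintype.ofFinite _
  refine ⟨↥R, inferInstance, inferInstance, fun r => ((ev r).toMul : G), ?_, ?_, ?_, fun a => (ev a).toMul.2, ?_, ?_⟩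
  · rw [← Nat.card_eq_fintype_card, Nat.card_congr (Equiv.ofBijective _ hev)]
    exact Nat.card_congr Additive.toMul
  · exact Subtype.val_injective.comp (Additive.toMul.injective.comp hev.1)
  · intro a b
    show ((ev (a + b)).toMul : G) = _
    rw [map_add]; rfl
  · intro x hx
    obtain ⟨a, ha⟩ := hev.2 (Additive.ofMul ⟨x, hx⟩)
    exact ⟨a, congrArg (fun y : Additive ↥Q => (y.toMul : G)) ha⟩
  · intro c hc
    exact ⟨⟨_, Subring.subset_closure ⟨⟨c, hc⟩, rfl⟩⟩, fun a => rfl⟩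

end Base

/-- Coordinates on a Frobenius group `Q ⊔ D` from a field. -/
structure Coord (Q D : Subgroup G) (F : Type v) [Field F] where
  /-- the parametrisation of `Q` -/
  τ : F → G
  /-- the multiplier of an element of `D` -/
  χ : ↥D → F
  inj : Function.Injective τ
  hadd : ∀ a b, τ (a + b) = τ a * τ b
  mem : ∀ a, τ a ∈ Q
  surj : ∀ x ∈ Q, ∃ a, τ a = x
  hχ : ∀ (c : ↥D) (a : F), (c : G) * τ a * (c : G)⁻¹ = τ (χ c * a)

theorem Base.exists_coord {Q D : Subgroup G} (B : Base Q D) (F : Type v) [Field F] [Fintype F]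
    (hF : Fintype.card F = Nat.card ↥Q) : Nonempty (Coord Q D F) := by
  obtain ⟨R, _, _, τ, hc, hinj, hadd, hmem, hsurj, hD⟩ := B.exists_field
  set e : R ≃+* F := FiniteField.ringEquivOfCardEq (hc.trans hF.symm) with he
  choose r hr using fun c : ↥D => hD c c.2
  exact ⟨{
    τ := fun a => τ (e.symm a)
    χ := fun c => e (r c)
    inj := hinj.comp e.symm.injective
    hadd := fun a b => by simp [hadd]
    mem := fun a => hmem _
    surj := fun x hx => by
      obtain ⟨a, rfl⟩ := hsurj x hx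
      exact ⟨e a, by simp⟩
    hχ := fun c a => by simp [hr] }⟩

theorem Base.isPrimePow {Q D : Subgroup G} (B : Base Q D) : IsPrimePow (Nat.card ↥Q) := by
  obtain ⟨R, _, _, τ, hc, -⟩ := B.exists_field
  rw [← hc]
  exact FiniteField.isPrimePow_card R

end CfsgLib.BSW
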