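import Mathlib
import Cfsg.Agent.BSW.Field

/-!
A structured group as a permutation group of the projective line.
-/

set_option autoImplicit false

namespace CfsgLib.BSW

open OnePoint

universe u v

variable {G : Type u} [Group G] [Finite G]

/-- All the data used for the identification. -/
structure PLine (G : Type u) [Group G] (F : Type v) [Field F] where
  Q : Subgroup G
  D : Subgroup G
  base : Base Q D
  coord : Coord Q D F
  w : G
  hw : w * w = 1
  hwN : w ∉ Subgroup.normalizer (Q : Set G)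
  hwD : ∀ c ∈ D, w * c * w = c⁻¹
  hN : Subgroup.normalizer (Q : Set G) = Q ⊔ D
  hG : 2 * Nat.card G = Nat.card ↥Q * (Nat.card ↥Q + 1) * (Nat.card ↥Q - 1)

namespace PLine

variable {F : Type v} [Field F] [Fintype F] (X : PLine G F)

/-- The point stabiliser. -/
abbrev N : Subgroup G := Subgroup.normalizer (X.Q : Set G)

omit [Finite G] [Fintype F] in
theorem winv : X.w⁻¹ = X.w := inv_eq_of_mul_eq_one_right X.hw

omit [Finite G] [Fintype F] in
theorem D_le : X.D ≤ X.N := le_of_le_of_eq le_sup_right X.hN.symm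

omit [Finite G] [Fintype F] in
theorem τ_mem (a : F) : X.coord.τ a ∈ X.N := le_of_le_of_eq le_sup_left X.hN.symm (X.coord.mem a)

omit [Finite G] [Fintype F] in
theorem τ_zero : X.coord.τ 0 = 1 := by
  have h := X.coord.hadd 0 0
  rw [add_zero] at h
  exact left_eq_mul.1 h

omit [Finite G] [Fintype F] in
theorem τ_neg (a : F) : (X.coord.τ a)⁻¹ = X.coord.τ (-a) :=
  inv_eq_of_mul_eq_one_right (by rw [← X.coord.hadd, add_neg_cancel, X.τ_zero])

omit [Finite G] [Fintype F] in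
theorem τ_eq_one {a : F} : X.coord.τ a = 1 ↔ a = 0 :=
  ⟨fun h => X.coord.inj (h.trans X.τ_zero.symm), fun h => h ▸ X.τ_zero⟩

omit [Fintype F] [Finite G] in
theorem inter {a : F} (h : X.coord.τ a ∈ X.D) : a = 0 := by
  have h2 : X.coord.τ a ∈ X.Q ⊓ X.D := ⟨X.coord.mem a, h⟩
  rwa [X.base.hinf, Subgroup.mem_bot, τ_eq_one] at h2

omit [Finite G] [Fintype F] in
theorem conj_τ (c : ↥X.D) (a : F) : (c : G) * X.coord.τ a = X.coord.τ (X.coord.χ c * a) * c := by
  rw [← X.coord.hχ]; group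

omit [Finite G] [Fintype F] in
theorem χ_mul (c c' : ↥X.D) : X.coord.χ (c * c') = X.coord.χ c * X.coord.χ c' := by
  have h : X.coord.τ (X.coord.χ (c * c') * 1) = X.coord.τ (X.coord.χ c * X.coord.χ c') := by
    rw [← X.coord.hχ, ← mul_one (X.coord.χ c'), ← X.coord.hχ, ← X.coord.hχ, Subgroup.coe_mul]
    group
  simpa using X.coord.inj h

omit [Finite G] [Fintype F] in
theorem χ_one : X.coord.χ 1 = 1 := by
  have h : X.coord.τ (X.coord.χ 1 * 1) = X.coord.τ 1 := by rw [← X.coord.hχ]; simp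
  simpa using X.coord.inj h

/-- `χ` as a homomorphism. -/
def χh : ↥X.D →* F where
  toFun := X.coord.χ
  map_one' := X.χ_one
  map_mul' := X.χ_mul

omit [Finite G] [Fintype F] in
theorem χ_ne (c : ↥X.D) : X.coord.χ c ≠ 0 := fun h => by
  have h1 := X.χ_mul c c⁻¹
  rw [mul_inv_cancel, X.χ_one, h, zero_mul] at h1
  exact one_ne_zero h1

omit [Fintype F] in
theorem χ_eq_one {c : ↥X.D} (h : X.coord.χ c = 1) : c = 1 := by
  refine Subtype.ext (X.base.semiregular c.2 (X.coord.mem 1) (fun e => one_ne_zero (X.τ_eq_one.1 e)) ?_)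
  rw [X.coord.hχ, h, one_mul]

omit [Finite G] in
theorem card_F : Nat.card ↥X.Q = Fintype.card F := by
  rw [← Nat.card_eq_fintype_card]
  exact (Nat.card_congr (Equiv.ofBijective (fun a => (⟨X.coord.τ a, X.coord.mem a⟩ : ↥X.Q))
    ⟨fun a b h => X.coord.inj (congrArg Subtype.val h), fun x => by
      obtain ⟨a, ha⟩ := X.coord.surj x x.2
      exact ⟨a, Subtype.ext ha⟩⟩)).symm

omit [Finite G] in
theorem card_F_eq : Fintype.card F = 2 * Nat.card ↥X.D + 1 := by rw [← X.card_F, X.base.hcard]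

include X in
omit [Finite G] in
theorem ringChar_ne : ringChar F ≠ 2 := fun h => by
  have h1 := FiniteField.even_card_iff_char_two.1 h
  have := X.card_F_eq
  omega

omit [Finite G] in
theorem isSquare_iff {a : F} (ha : a ≠ 0) : IsSquare a ↔ a ^ Nat.card ↥X.D = 1 := by
  rw [FiniteField.isSquare_iff X.ringChar_ne ha, show Fintype.card F / 2 = Nat.card ↥X.D by
    have := X.card_F_eq
    omega]

include X in
omit [Finite G] in
theorem not_isSquare_mul {a b : F} (ha : ¬ IsSquare a) (hb : ¬ IsSquare b) : IsSquare (a * b) := by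
  have ha0 : a ≠ 0 := by rintro rfl; exact ha IsSquare.zero
  have hb0 : b ≠ 0 := by rintro rfl; exact hb IsSquare.zero
  rw [FiniteField.isSquare_iff X.ringChar_ne (mul_ne_zero ha0 hb0), mul_pow,
    (FiniteField.pow_dichotomy X.ringChar_ne ha0).resolve_left
      (fun h => ha ((FiniteField.isSquare_iff X.ringChar_ne ha0).2 h)),
    (FiniteField.pow_dichotomy X.ringChar_ne hb0).resolve_left
      (fun h => hb ((FiniteField.isSquare_iff X.ringChar_ne hb0).2 h)), neg_one_mul, neg_neg]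

omit [Fintype F] in
theorem χ_pow (c : ↥X.D) : X.coord.χ c ^ Nat.card ↥X.D = 1 := by
  rw [show X.coord.χ c = X.χh c from rfl, ← map_pow, pow_card_eq_one', map_one]

theorem χ_sq (c : ↥X.D) : IsSquare (X.coord.χ c) := (X.isSquare_iff (X.χ_ne c)).2 (X.χ_pow c)

theorem χ_surj {a : F} (ha : a ≠ 0) (hs : IsSquare a) : ∃ c : ↥X.D, X.coord.χ c = a := by
  classical
  haveI := Fintype.ofFinite ↥X.D
  have hinj : Function.Injective X.coord.χ := fun c c' h => by
    refine (mul_inv_eq_one (a := c) (b := c')).1 (X.χ_eq_one ?_)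
    rw [X.χ_mul, h, ← X.χ_mul, mul_inv_cancel, X.χ_one]
  have hsub : Finset.univ.image X.coord.χ ⊆ (Polynomial.nthRoots (Nat.card ↥X.D) (1 : F)).toFinset := by
    intro x hx
    obtain ⟨c, -, rfl⟩ := Finset.mem_image.1 hx
    rw [Multiset.mem_toFinset, Polynomial.mem_nthRoots Nat.card_pos]
    exact X.χ_pow c
  have heq := Finset.eq_of_subset_of_card_le hsub (by
    rw [Finset.card_image_of_injective _ hinj, Finset.card_univ, ← Nat.card_eq_fintype_card]
    exact (Multiset.toFinset_card_le _).trans (Polynomial.card_nthRoots _ _))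
  have ha' : a ∈ (Polynomial.nthRoots (Nat.card ↥X.D) (1 : F)).toFinset := by
    rw [Multiset.mem_toFinset, Polynomial.mem_nthRoots Nat.card_pos]
    exact (X.isSquare_iff ha).1 hs
  rw [← heq] at ha'
  obtain ⟨c, -, hc⟩ := Finset.mem_image.1 ha'
  exact ⟨c, hc⟩

omit [Finite G] [Fintype F] in
theorem decomp {m : G} (hm : m ∈ X.N) : ∃ (a : F) (c : ↥X.D), m = X.coord.τ a * c := by
  have h : m ∈ ((X.Q ⊔ X.D : Subgroup G) : Set G) := by rw [← X.hN]; exact hm
  rw [Subgroup.coe_mul_of_right_le_normalizer_left X.Q X.D X.D_le] at h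
  obtain ⟨x, hx, c, hc, rfl⟩ := h
  obtain ⟨a, rfl⟩ := X.coord.surj x hx
  exact ⟨a, ⟨c, hc⟩, rfl⟩

theorem card_N : Nat.card ↥X.N = Fintype.card F * Nat.card ↥X.D := by
  rw [← Nat.card_eq_fintype_card, ← Nat.card_prod]
  refine (Nat.card_congr (Equiv.ofBijective (fun p : F × ↥X.D =>
    (⟨X.coord.τ p.1 * p.2, mul_mem (X.τ_mem _) (X.D_le p.2.2)⟩ : ↥X.N)) ⟨?_, fun m => ?_⟩)).symm
  · rintro ⟨a, c⟩ ⟨b, c'⟩ h
    have h' : X.coord.τ a * (c : G) = X.coord.τ b * c' := congrArg Subtype.val h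
    have h2 : X.coord.τ (-b + a) = ((c' * c⁻¹ : ↥X.D) : G) := by
      rw [X.coord.hadd, ← X.τ_neg, Subgroup.coe_mul, Subgroup.coe_inv]
      calc (X.coord.τ b)⁻¹ * X.coord.τ a = (X.coord.τ b)⁻¹ * (X.coord.τ a * c) * (c : G)⁻¹ := by group
        _ = _ := by rw [h']; group
    obtain rfl : b = a := neg_add_eq_zero.1 (X.inter (h2 ▸ (c' * c⁻¹).2))
    obtain rfl : c = c' := Subtype.ext (mul_left_cancel h')
    rfl
  · obtain ⟨a, c, hc⟩ := X.decomp m.2
    exact ⟨(a, c), Subtype.ext hc.symm⟩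

theorem index_N : X.N.index = Fintype.card F + 1 := by
  have h := Subgroup.card_mul_index X.N
  have hG := X.hG
  rw [X.card_F, X.card_F_eq, ← h, X.card_N, X.card_F_eq,
    show 2 * Nat.card ↥X.D + 1 - 1 = 2 * Nat.card ↥X.D by omega] at hG
  have hd := Nat.card_pos (α := ↥X.D)
  rw [X.card_F_eq]
  refine Nat.eq_of_mul_eq_mul_left (show 0 < 2 * ((2 * Nat.card ↥X.D + 1) * Nat.card ↥X.D) by positivity) ?_
  linarith

theorem key {a : F} (h : X.w * X.coord.τ a * X.w ∈ X.N) : a = 0 := by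
  classical
  by_contra ha
  obtain ⟨b, c, hbc⟩ := X.decomp h
  have hpow : ∀ n : ℕ, ∃ b', (X.coord.τ b * (c : G)) ^ n = X.coord.τ b' * ((c ^ n : ↥X.D) : G) := by
    intro n
    induction n with
    | zero => exact ⟨0, by simp [X.τ_zero]⟩
    | succ n ih =>
      obtain ⟨b', hb'⟩ := ih
      refine ⟨b' + X.coord.χ (c ^ n) * b, ?_⟩
      rw [pow_succ, hb', pow_succ, Subgroup.coe_mul, X.coord.hadd,
        show X.coord.τ b' * ((c ^ n : ↥X.D) : G) * (X.coord.τ b * c) =
          X.coord.τ b' * (((c ^ n : ↥X.D) : G) * X.coord.τ b) * c by group, X.conj_τ]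
      group
  obtain ⟨b', hb'⟩ := hpow (Nat.card ↥X.Q)
  rw [← hbc, ← X.winv, show X.w⁻¹ * X.coord.τ a * X.w⁻¹ = X.w * X.coord.τ a * X.w⁻¹ by rw [X.winv],
    conj_pow, show X.coord.τ a ^ Nat.card ↥X.Q = 1 from
      orderOf_dvd_iff_pow_eq_one.1 (Subgroup.orderOf_dvd_natCard X.Q (X.coord.mem a)), mul_one, mul_inv_cancel] at hb'
  have hc1 : c = 1 := by
    have h2 : c ^ Nat.card ↥X.Q = 1 := by
      have h3 : b' = 0 := X.inter (by
        rw [eq_inv_of_mul_eq_one_left hb'.symm]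
        exact inv_mem (c ^ Nat.card ↥X.Q).2)
      rw [h3, X.τ_zero, one_mul] at hb'
      exact Subtype.ext hb'.symm
    have h4 : c ^ Nat.card ↥X.D = 1 := pow_card_eq_one'
    rw [← X.base.hcard, pow_add, pow_one, pow_mul', h4, one_pow, one_mul] at h2
    exact h2
  subst hc1
  rw [OneMemClass.coe_one, mul_one] at hbc
  refine X.hwN (Subgroup.mem_normalizer_iff.2 fun x => ?_)
  have h5 := cz_conj (g := X.coord.τ a) (x := x) X.w
  rw [X.winv, hbc] at h5
  have hb0 : X.coord.τ b ≠ 1 := fun e => ha (X.τ_eq_one.1 (by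
    rw [e] at hbc
    calc X.coord.τ a = X.w * X.w * X.coord.τ a * (X.w * X.w) := by rw [X.hw, one_mul, mul_one]
      _ = X.w * (X.w * X.coord.τ a * X.w) * X.w := by group
      _ = 1 := by rw [hbc, mul_one, X.hw]))
  change _ ↔ x ∈ Subgroup.centralizer ({X.coord.τ a} : Set G) at h5
  rw [X.base.hcz _ (X.coord.mem a) (fun e => ha (X.τ_eq_one.1 e))] at h5
  change X.w * x * X.w ∈ Subgroup.centralizer ({X.coord.τ b} : Set G) ↔ _ at h5
  rw [X.base.hcz _ (X.coord.mem b) hb0] at h5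
  rw [X.winv]
  exact h5.symm

theorem meet {y : G} (hy : y ∈ X.N) (hy' : X.w * y * X.w ∈ X.N) : y ∈ X.D := by
  obtain ⟨a, c, rfl⟩ := X.decomp hy
  have h : X.w * X.coord.τ a * X.w ∈ X.N := by
    have e : X.w * X.coord.τ a * X.w = X.w * (X.coord.τ a * c) * X.w * (X.w * (c : G) * X.w)⁻¹ := by
      rw [mul_inv_rev, mul_inv_rev, X.winv]
      calc X.w * X.coord.τ a * X.w = X.w * X.coord.τ a * c * (X.w * X.w) * ((c : G)⁻¹ * X.w) := by
            rw [X.hw]; group
        _ = _ := by group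
    rw [e, X.hwD c c.2]
    exact mul_mem hy' (X.D_le (by simp))
  rw [X.key h, X.τ_zero, one_mul]
  exact c.2

/-- The map from the projective line to the cosets of `N`. -/
def pos : OnePoint F → G ⧸ X.N :=
  fun p => p.elim ((1 : G) : G ⧸ X.N) fun r => ((X.coord.τ r * X.w : G) : G ⧸ X.N)

theorem pos_bijective : Function.Bijective X.pos := by
  haveI : Finite (OnePoint F) := inferInstanceAs (Finite (Option F))
  have h1 : ∀ r : F, X.pos r ≠ X.pos ∞ := by
    intro r h
    have h2 : (X.coord.τ r * X.w)⁻¹ * 1 ∈ X.N := QuotientGroup.eq.1 h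
    rw [mul_one, inv_mem_iff] at h2
    exact X.hwN (by simpa using mul_mem (inv_mem (X.τ_mem r)) h2)
  refine (Nat.bijective_iff_injective_and_card _).2 ⟨?_, ?_⟩
  · intro p p' h
    induction p using OnePoint.rec with
    | infty =>
      induction p' using OnePoint.rec with
      | infty => rfl
      | coe s => exact absurd h.symm (h1 s)
    | coe r =>
      induction p' using OnePoint.rec with
      | infty => exact absurd h (h1 r)
      | coe s =>
        have h2 : (X.coord.τ r * X.w)⁻¹ * (X.coord.τ s * X.w) ∈ X.N := QuotientGroup.eq.1 h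
        rw [show (X.coord.τ r * X.w)⁻¹ * (X.coord.τ s * X.w) = X.w⁻¹ * ((X.coord.τ r)⁻¹ * X.coord.τ s) * X.w by group,
          X.winv, X.τ_neg, ← X.coord.hadd] at h2
        rw [neg_add_eq_zero.1 (X.key h2)]
  · rw [← Subgroup.index_eq_card, X.index_N, show Nat.card (OnePoint F) = Nat.card (Option F) from rfl,
      Finite.card_option, Nat.card_eq_fintype_card]

/-- The identification of the projective line with the cosets of `N`. -/
noncomputable def P : OnePoint F ≃ G ⧸ X.N := Equiv.ofBijective _ X.pos_bijective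

/-- The action of `G` on the projective line. -/
noncomputable def σ : G →* Equiv.Perm (OnePoint F) :=
  (X.P.symm.permCongrHom.toMonoidHom).comp (MulAction.toPermHom G (G ⧸ X.N))

theorem σ_eq {g : G} {x y : OnePoint F} (h : g • X.P x = X.P y) : X.σ g x = y := by
  show X.P.symm (g • X.P x) = y
  rw [h, Equiv.symm_apply_apply]

theorem σ_infty_iff {g : G} : X.σ g ∞ = ∞ ↔ g ∈ X.N := by
  constructor
  · intro h
    have h1 : g • X.P ∞ = X.P ∞ := X.P.symm.injective (h.trans (X.P.symm_apply_apply _).symm)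
    have h2 : (g * 1)⁻¹ * 1 ∈ X.N := QuotientGroup.eq.1 h1
    simpa using h2
  · intro h
    refine X.σ_eq (QuotientGroup.eq.2 ?_)
    simpa using h

theorem σ_τ (a r : F) : X.σ (X.coord.τ a) (r : OnePoint F) = ((a + r : F) : OnePoint F) :=
  X.σ_eq (by
    show ((X.coord.τ a * (X.coord.τ r * X.w) : G) : G ⧸ X.N) = ((X.coord.τ (a + r) * X.w : G) : G ⧸ X.N)
    rw [X.coord.hadd, mul_assoc])

theorem σ_τ_infty (a : F) : X.σ (X.coord.τ a) ∞ = ∞ := X.σ_infty_iff.2 (X.τ_mem a)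

theorem σ_c (c : ↥X.D) (r : F) : X.σ (c : G) (r : OnePoint F) = ((X.coord.χ c * r : F) : OnePoint F) :=
  X.σ_eq (by
    show (((c : G) * (X.coord.τ r * X.w) : G) : G ⧸ X.N) = ((X.coord.τ (X.coord.χ c * r) * X.w : G) : G ⧸ X.N)
    have e : (c : G) * (X.coord.τ r * X.w) = X.coord.τ (X.coord.χ c * r) * X.w * (X.w * c * X.w) := by
      rw [← mul_assoc, X.conj_τ]
      calc X.coord.τ (X.coord.χ c * r) * (c : G) * X.w
          = X.coord.τ (X.coord.χ c * r) * ((X.w * X.w) * c * X.w) := by rw [X.hw]; group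
        _ = _ := by group
    rw [e]
    exact QuotientGroup.mk_mul_of_mem _ (by rw [X.hwD c c.2]; exact X.D_le (inv_mem c.2)))

theorem σ_c_infty (c : ↥X.D) : X.σ (c : G) ∞ = ∞ := X.σ_infty_iff.2 (X.D_le c.2)

theorem σ_w_infty : X.σ X.w ∞ = ((0 : F) : OnePoint F) :=
  X.σ_eq (by
    show ((X.w * 1 : G) : G ⧸ X.N) = ((X.coord.τ 0 * X.w : G) : G ⧸ X.N)
    rw [X.τ_zero, mul_one, one_mul])

theorem σ_w_w (x : OnePoint F) : X.σ X.w (X.σ X.w x) = x := by
  rw [← Equiv.Perm.mul_apply, ← map_mul, X.hw, map_one, Equiv.Perm.one_apply]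

theorem σ_w_zero : X.σ X.w ((0 : F) : OnePoint F) = ∞ := by rw [← X.σ_w_infty, X.σ_w_w]

/-- The action of `w` on the affine line. -/
noncomputable def f (r : F) : F := (X.σ X.w (r : OnePoint F)).elim 0 id

theorem σ_w_coe {r : F} (hr : r ≠ 0) : X.σ X.w (r : OnePoint F) = (X.f r : OnePoint F) ∧ X.f r ≠ 0 := by
  rcases h : X.σ X.w (r : OnePoint F) with _ | s
  · have h2 := X.σ_w_w (r : OnePoint F)
    rw [h] at h2
    exact absurd (OnePoint.coe_injective (X.σ_w_infty.symm.trans h2)) hr.symm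
  · have hf : X.f r = s := by rw [f, h]; rfl
    refine ⟨by rw [hf]; rfl, fun hs => ?_⟩
    rw [hf] at hs
    have h2 := X.σ_w_w (r : OnePoint F)
    rw [h, hs] at h2
    exact OnePoint.coe_ne_infty r (h2.symm.trans X.σ_w_zero)

theorem f_f {r : F} (hr : r ≠ 0) : X.f (X.f r) = r := by
  obtain ⟨h1, h2⟩ := X.σ_w_coe hr
  have h3 := (X.σ_w_coe h2).1
  rw [← h1, X.σ_w_w] at h3
  exact (OnePoint.coe_injective h3).symm

theorem f_square {a r : F} (ha : a ≠ 0) (hs : IsSquare a) (hr : r ≠ 0) : X.f (a * r) = X.f r / a := by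
  obtain ⟨c, rfl⟩ := X.χ_surj ha hs
  have e : X.w * (c : G) = ((c⁻¹ : ↥X.D) : G) * X.w := by
    rw [Subgroup.coe_inv, ← X.hwD c c.2, mul_assoc _ X.w X.w, X.hw, mul_one]
  have h : X.σ (X.w * (c : G)) (r : OnePoint F) = X.σ (((c⁻¹ : ↥X.D) : G) * X.w) (r : OnePoint F) := by rw [e]
  rw [map_mul, map_mul, Equiv.Perm.mul_apply, Equiv.Perm.mul_apply, X.σ_c, (X.σ_w_coe hr).1, X.σ_c,
    (X.σ_w_coe (mul_ne_zero ha hr)).1] at h
  rw [OnePoint.coe_injective h, show X.coord.χ c⁻¹ = (X.coord.χ c)⁻¹ from map_inv₀' X c, inv_mul_eq_div]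
where
  map_inv₀' (X : PLine G F) (c : ↥X.D) : X.coord.χ c⁻¹ = (X.coord.χ c)⁻¹ :=
    eq_inv_of_mul_eq_one_left (by rw [← X.χ_mul, inv_mul_cancel, X.χ_one])

theorem f_eq {r : F} (hr : r ≠ 0) : X.f r = X.f 1 / r := by
  classical
  obtain ⟨α, hα⟩ : ∃ α, X.f 1 = α := ⟨_, rfl⟩
  rw [hα]
  have hα0 : α ≠ 0 := hα ▸ (X.σ_w_coe one_ne_zero).2
  have hsq : ∀ a, a ≠ 0 → IsSquare a → X.f a = α / a := fun a ha hs => by
    rw [← mul_one a, X.f_square ha hs one_ne_zero, hα, mul_one]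
  by_cases hr' : IsSquare r
  · exact hsq r hr hr'
  by_cases hαs : IsSquare α
  swap
  · have ha : IsSquare (α / r) := by
      rw [div_eq_mul_inv]
      exact X.not_isSquare_mul hαs (by rwa [isSquare_inv])
    have ha0 : α / r ≠ 0 := div_ne_zero hα0 hr
    have h2 := X.f_f ha0
    rw [hsq _ ha0 ha, div_div_cancel₀ hα0] at h2
    exact h2
  -- `α` is a square
  have hn1 : IsSquare (-1 : F) := by
    by_contra hn
    obtain ⟨γ, hγ⟩ := hαs
    obtain ⟨s, hs, hs2⟩ : ∃ s : F, IsSquare s ∧ s * s = α := by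
      by_cases hγs : IsSquare γ
      · exact ⟨γ, hγs, hγ.symm⟩
      · exact ⟨-γ, by simpa using X.not_isSquare_mul hn hγs, by rw [hγ]; ring⟩
    have hs0 : s ≠ 0 := fun h => hα0 (by rw [← hs2, h, mul_zero])
    have hfix : X.σ X.w (s : OnePoint F) = s := by
      rw [(X.σ_w_coe hs0).1, hsq s hs0 hs, ← hs2, mul_div_assoc, div_self hs0, mul_one]
    obtain ⟨m, hm⟩ : ∃ m : G, m = X.coord.τ s * X.w := ⟨_, rfl⟩
    have hconj : m⁻¹ * X.w * m ∈ X.N := by
      have h1 : X.w • X.P (s : OnePoint F) = X.P (s : OnePoint F) :=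
        X.P.symm.injective (hfix.trans (X.P.symm_apply_apply _).symm)
      have h2 : (X.w * m)⁻¹ * m ∈ X.N := hm ▸ QuotientGroup.eq.1 h1
      rwa [mul_inv_rev, X.winv] at h2
    have h2o : orderOf (m⁻¹ * X.w * m) = 2 := by
      rw [← inv_inv m, inv_inv m⁻¹, Invol.orderOf_conj]
      exact Invol.orderOf_eq_two X.hw (fun h => X.hwN (h ▸ one_mem _))
    have h2d : 2 ∣ Fintype.card F * Nat.card ↥X.D := by
      rw [← X.card_N, ← h2o]
      exact Subgroup.orderOf_dvd_natCard _ hconj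
    refine hn ((X.isSquare_iff (neg_ne_zero.2 one_ne_zero)).2 (Even.neg_one_pow ?_))
    rw [even_iff_two_dvd]
    refine (Nat.prime_two.dvd_mul.1 h2d).resolve_left ?_
    have := X.card_F_eq
    omega
  by_contra hne
  have hnr := (X.σ_w_coe hr).2
  obtain ⟨β, hβ⟩ : ∃ β, r * X.f r = β := ⟨_, rfl⟩
  have hnsq : ∀ x, ¬ IsSquare x → X.f x = β / x := by
    intro x hx
    have hq : IsSquare (x / r) := by
      rw [div_eq_mul_inv]
      exact X.not_isSquare_mul hx (by rwa [isSquare_inv])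
    have hx0 : x ≠ 0 := by rintro rfl; exact hx IsSquare.zero
    rw [← div_mul_cancel₀ x hr, X.f_square (div_ne_zero hx0 hr) hq hr, div_mul_cancel₀ x hr, ← hβ]
    field_simp
  -- the element `τ 1 * w * τ (-α) * w * τ 1 * w`
  have hnα : IsSquare (-α) := by simpa using hn1.mul hαs
  have hnα0 : -α ≠ 0 := neg_ne_zero.2 hα0
  have hfnα : X.f (-α) = -1 := by rw [hsq _ hnα0 hnα]; field_simp
  obtain ⟨g, hg⟩ : ∃ g : G, g = X.coord.τ 1 * X.w * X.coord.τ (-α) * X.w * X.coord.τ 1 * X.w := ⟨_, rfl⟩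
  have hσg : ∀ x, X.σ g x = X.σ (X.coord.τ 1) (X.σ X.w (X.σ (X.coord.τ (-α)) (X.σ X.w (X.σ (X.coord.τ 1)
      (X.σ X.w x))))) := fun x => by
    rw [hg]; simp only [map_mul, Equiv.Perm.mul_apply]
  have hgN : g ∈ X.N := by
    rw [← X.σ_infty_iff, hσg, X.σ_w_infty, X.σ_τ, add_zero, (X.σ_w_coe one_ne_zero).1, hα, X.σ_τ,
      neg_add_cancel, X.σ_w_zero, X.σ_τ_infty]
  have hgN' : X.w * g * X.w ∈ X.N := by
    rw [← X.σ_infty_iff, map_mul, map_mul, Equiv.Perm.mul_apply, Equiv.Perm.mul_apply, X.σ_w_infty, hσg,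
      X.σ_w_zero, X.σ_τ_infty, X.σ_w_infty, X.σ_τ, add_zero, (X.σ_w_coe hnα0).1, hfnα, X.σ_τ,
      add_neg_cancel, X.σ_w_zero]
  obtain ⟨c, hc⟩ : ∃ c : ↥X.D, g = c := ⟨⟨g, X.meet hgN hgN'⟩, rfl⟩
  have hlam : 1 = X.coord.χ c * -α := by
    have h := hσg ((-α : F) : OnePoint F)
    rw [hc, X.σ_c, (X.σ_w_coe hnα0).1, hfnα, X.σ_τ, add_neg_cancel, X.σ_w_zero, X.σ_τ_infty, X.σ_w_infty,
      X.σ_τ, add_zero] at h
    exact (OnePoint.coe_injective h).symm
  have hclosed : ∀ z : F, IsSquare z → z ≠ 0 → 1 + z ≠ 0 → IsSquare (1 + z) := by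
    intro z hz hz0 hz1
    by_contra hzn
    have hx0 : α / z ≠ 0 := div_ne_zero hα0 hz0
    have hfx : X.f (α / z) = z := by
      rw [hsq _ hx0 (hαs.div hz), div_div_cancel₀ hα0]
    have h := hσg ((α / z : F) : OnePoint F)
    rw [hc, X.σ_c, (X.σ_w_coe hx0).1, hfx, X.σ_τ, (X.σ_w_coe hz1).1, X.σ_τ] at h
    have hy : -α + X.f (1 + z) ≠ 0 := by
      intro e
      rw [neg_add_eq_zero] at e
      have := congrArg X.f e
      rw [X.f_f hz1, ← hα, X.f_f one_ne_zero] at this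
      exact hz0 (by linear_combination -this)
    rw [(X.σ_w_coe hy).1, X.σ_τ] at h
    have h1 := OnePoint.coe_injective h
    have h2 : X.f (-α + X.f (1 + z)) = -((1 + z) / z) := by
      rw [show X.coord.χ c = -α⁻¹ by field_simp; linear_combination hlam] at h1
      field_simp at h1 ⊢
      linear_combination -h1
    have hnum : ¬ IsSquare (-((1 + z) / z)) := by
      intro hh
      exact hzn (by
        have := hn1.mul (hh.mul hz)
        rwa [show -1 * (-((1 + z) / z) * z) = 1 + z by field_simp] at this)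
    have h3 := congrArg X.f h2
    rw [X.f_f hy, hnsq _ hnum, hnsq _ hzn] at h3
    refine hne ?_
    have h4 : (β - α) * (1 + z) = 0 := by
      field_simp at h3
      linear_combination h3
    have h5 := (mul_eq_zero.1 h4).resolve_right hz1
    rw [eq_div_iff hr, ← sub_eq_zero.1 h5, ← hβ, mul_comm]
  have hadd : ∀ a b : F, IsSquare a → IsSquare b → IsSquare (a + b) := by
    intro a b ha hb
    rcases eq_or_ne a 0 with rfl | ha0
    · rwa [zero_add]
    rcases eq_or_ne b 0 with rfl | hb0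
    · rwa [add_zero]
    rcases eq_or_ne (a + b) 0 with h | h
    · rw [h]; exact IsSquare.zero
    · rw [show a + b = a * (1 + b / a) by field_simp]
      exact ha.mul (hclosed _ (hb.div ha) (div_ne_zero hb0 ha0) (fun e => h (by
        field_simp at e
        linear_combination e)))
  let S : AddSubgroup F :=
    { carrier := {x | IsSquare x}
      zero_mem' := IsSquare.zero
      add_mem' := fun ha hb => hadd _ _ ha hb
      neg_mem' := fun {x} hx => by
        have := hn1.mul hx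
        rwa [neg_one_mul] at this }
  have hS : Nat.card ↥S = Nat.card ↥X.D + 1 := by
    haveI := Fintype.ofFinite ↥X.D
    rw [← Finite.card_option]
    refine (Nat.card_congr (Equiv.ofBijective (fun o : Option ↥X.D => (⟨o.elim 0 X.coord.χ, ?_⟩ : ↥S)) ⟨?_, ?_⟩)).symm
    · cases o with
      | none => exact IsSquare.zero
      | some c => exact X.χ_sq c
    · rintro (_ | c) (_ | c') h <;> have h' := congrArg Subtype.val h <;> simp only [Option.elim] at h'
      · rfl
      · exact absurd h'.symm (X.χ_ne c')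
      · exact absurd h' (X.χ_ne c)
      · refine congrArg Option.some ((mul_inv_eq_one (a := c) (b := c')).1 (X.χ_eq_one ?_))
        rw [X.χ_mul, h', ← X.χ_mul, mul_inv_cancel, X.χ_one]
    · rintro ⟨x, hx⟩
      rcases eq_or_ne x 0 with rfl | hx0
      · exact ⟨none, rfl⟩
      · obtain ⟨c, rfl⟩ := X.χ_surj hx0 hx
        exact ⟨Option.some c, rfl⟩
  have hd := AddSubgroup.card_addSubgroup_dvd_card S
  rw [hS, Nat.card_eq_fintype_card (α := F), X.card_F_eq] at hd
  have h6 : Nat.card ↥X.D + 1 ∣ 1 := by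
    have := Nat.dvd_sub (dvd_mul_left (Nat.card ↥X.D + 1) 2) hd
    rwa [show 2 * (Nat.card ↥X.D + 1) - (2 * Nat.card ↥X.D + 1) = 1 by omega] at this
  have := Nat.dvd_one.1 h6
  have := Nat.card_pos (α := ↥X.D)
  omega

theorem σ_injective : Function.Injective X.σ := by
  refine (injective_iff_map_eq_one X.σ).2 fun g hg => ?_
  have h : ∀ x, X.σ g x = x := fun x => by rw [hg]; rfl
  have h1 : g ∈ X.N := X.σ_infty_iff.1 (h _)
  have h2 : X.w * g * X.w ∈ X.N := by
    rw [← X.σ_infty_iff, map_mul, map_mul, Equiv.Perm.mul_apply, Equiv.Perm.mul_apply, h, X.σ_w_w]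
  obtain ⟨c, rfl⟩ : ∃ c : ↥X.D, g = c := ⟨⟨g, X.meet h1 h2⟩, rfl⟩
  have h3 := h ((1 : F) : OnePoint F)
  rw [X.σ_c, mul_one] at h3
  rw [X.χ_eq_one (OnePoint.coe_injective h3), OneMemClass.coe_one]

end PLine

end CfsgLib.BSW
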