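import Mathlib
import Cfsg.Agent.BSW.Moebius
import Cfsg.Agent.SLn.Basic
import Cfsg.Agent.SLn.SmallPSL

/-!
Structured groups are the groups `PSL(2, q)`.
-/

set_option autoImplicit false

namespace CfsgLib.BSW

open OnePoint

universe u v

variable {F : Type v} [Field F] [DecidableEq F]

/-- The action of `SL(2, F)` on the projective line. -/
def moebius : Matrix.SpecialLinearGroup (Fin 2) F →* Equiv.Perm (OnePoint F) :=
  (MulAction.toPermHom (GL (Fin 2) F) (OnePoint F)).comp Matrix.SpecialLinearGroup.toGL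

theorem moebius_infty (M : Matrix.SpecialLinearGroup (Fin 2) F) :
    moebius M ∞ = if (M : Matrix (Fin 2) (Fin 2) F) 1 0 = 0 then ∞
      else ((M : Matrix (Fin 2) (Fin 2) F) 0 0 / (M : Matrix (Fin 2) (Fin 2) F) 1 0 : F) :=
  OnePoint.smul_infty_eq_ite (Matrix.SpecialLinearGroup.toGL M)

theorem moebius_coe (M : Matrix.SpecialLinearGroup (Fin 2) F) (k : F) :
    moebius M (k : OnePoint F) = if (M : Matrix (Fin 2) (Fin 2) F) 1 0 * k + (M : Matrix (Fin 2) (Fin 2) F) 1 1 = 0 then ∞
      else (((M : Matrix (Fin 2) (Fin 2) F) 0 0 * k + (M : Matrix (Fin 2) (Fin 2) F) 0 1) /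
        ((M : Matrix (Fin 2) (Fin 2) F) 1 0 * k + (M : Matrix (Fin 2) (Fin 2) F) 1 1) : F) :=
  OnePoint.smul_some_eq_ite (g := Matrix.SpecialLinearGroup.toGL M)

theorem moebius_ker : (moebius (F := F)).ker = Subgroup.center (Matrix.SpecialLinearGroup (Fin 2) F) := by
  have hdet : ∀ M : Matrix.SpecialLinearGroup (Fin 2) F, (M : Matrix (Fin 2) (Fin 2) F) 0 0 * (M : Matrix (Fin 2) (Fin 2) F) 1 1 -
      (M : Matrix (Fin 2) (Fin 2) F) 0 1 * (M : Matrix (Fin 2) (Fin 2) F) 1 0 = 1 := fun M => by rw [← Matrix.det_fin_two]; exact M.2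
  ext M
  rw [MonoidHom.mem_ker, Matrix.SpecialLinearGroup.mem_center_iff]
  constructor
  · intro h
    have h' : ∀ x, moebius M x = x := fun x => by rw [h]; rfl
    have h10 : (M : Matrix (Fin 2) (Fin 2) F) 1 0 = 0 := by
      by_contra hne
      have h2 := h' ∞
      rw [moebius_infty, if_neg hne] at h2
      exact OnePoint.coe_ne_infty _ h2
    have h11 : (M : Matrix (Fin 2) (Fin 2) F) 1 1 ≠ 0 := fun e => by
      have h3 := hdet M; rw [h10, e] at h3; simp at h3
    have hk : ∀ k : F, ((M : Matrix (Fin 2) (Fin 2) F) 0 0 * k + (M : Matrix (Fin 2) (Fin 2) F) 0 1) / (M : Matrix (Fin 2) (Fin 2) F) 1 1 = k := by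
      intro k
      have h2 := h' (k : OnePoint F)
      rw [moebius_coe, h10, zero_mul, zero_add, if_neg h11] at h2
      exact OnePoint.coe_injective h2
    have h01 : (M : Matrix (Fin 2) (Fin 2) F) 0 1 = 0 := by simpa [h11] using hk 0
    have h00 : (M : Matrix (Fin 2) (Fin 2) F) 0 0 = (M : Matrix (Fin 2) (Fin 2) F) 1 1 := by
      have := hk 1; rw [h01, mul_one, add_zero, div_eq_iff h11, one_mul] at this; exact this
    refine ⟨(M : Matrix (Fin 2) (Fin 2) F) 1 1, ?_, ?_⟩
    · have h3 := hdet M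
      rw [h00, h01, zero_mul, sub_zero] at h3
      rw [Fintype.card_fin, pow_two, h3]
    · ext i j
      fin_cases i <;> fin_cases j <;> simp [h10, h01, h00, Matrix.scalar_apply]
  · rintro ⟨r, -, hM⟩
    have hr : r ≠ 0 := fun e => by
      have h3 := hdet M; rw [← hM, e] at h3; simp at h3
    refine Equiv.ext fun x => ?_
    rcases x with _ | k
    · show moebius M ∞ = ∞
      rw [moebius_infty, ← hM]; simp
    · show moebius M (k : OnePoint F) = (k : OnePoint F)
      rw [moebius_coe, ← hM]
      simp [Matrix.scalar_apply, hr]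

/-- The action of `PSL(2, F)` on the projective line. -/
def moebiusP : Matrix.ProjectiveSpecialLinearGroup (Fin 2) F →* Equiv.Perm (OnePoint F) :=
  QuotientGroup.lift _ (moebius (F := F)) moebius_ker.ge

theorem moebiusP_injective : Function.Injective (moebiusP (F := F)) := by
  refine (injective_iff_map_eq_one _).2 fun x hx => ?_
  induction x using QuotientGroup.induction_on with
  | H M =>
    rw [QuotientGroup.eq_one_iff, ← moebius_ker, MonoidHom.mem_ker]
    exact hx

variable [Fintype F] {G : Type u} [Group G] [Finite G]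

omit [DecidableEq F] in
theorem PLine.nonempty_iso (X : PLine G F) :
    Nonempty (G ≃* Matrix.ProjectiveSpecialLinearGroup (Fin 2) F) := by
  classical
  haveI : Finite (OnePoint F) := inferInstanceAs (Finite (Option F))
  have hα0 : X.f 1 ≠ 0 := (X.σ_w_coe one_ne_zero).2
  have hall : ∀ M : Matrix.SpecialLinearGroup (Fin 2) F, moebius M ∈ X.σ.range := by
    suffices h : Subgroup.comap (moebius (F := F)) X.σ.range = ⊤ from fun M => by
      have hM : M ∈ Subgroup.comap (moebius (F := F)) X.σ.range := by rw [h]; exact Subgroup.mem_top _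
      exact hM
    refine SLn.eq_top_of_transvection _ fun i j hij c => Subgroup.mem_comap.2 ?_
    fin_cases i <;> fin_cases j
    · exact absurd rfl hij
    · refine ⟨X.coord.τ c, Equiv.ext fun x => ?_⟩
      rcases x with _ | k
      · show X.σ _ ∞ = moebius _ ∞
        rw [X.σ_τ_infty, moebius_infty]
        simp [Matrix.SpecialLinearGroup.transvection_coe]
      · show X.σ _ (k : OnePoint F) = moebius _ (k : OnePoint F)
        rw [X.σ_τ, moebius_coe]
        simp [Matrix.SpecialLinearGroup.transvection_coe, add_comm]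
    · refine ⟨X.w * X.coord.τ (X.f 1 * c) * X.w, Equiv.ext fun x => ?_⟩
      rw [map_mul, map_mul, Equiv.Perm.mul_apply, Equiv.Perm.mul_apply]
      rcases x with _ | k
      · show X.σ X.w (X.σ _ (X.σ X.w ∞)) = moebius _ ∞
        rw [X.σ_w_infty, X.σ_τ, add_zero, moebius_infty]
        rcases eq_or_ne c 0 with rfl | hc
        · rw [mul_zero, X.σ_w_zero]; simp [Matrix.SpecialLinearGroup.transvection_coe]
        · rw [(X.σ_w_coe (mul_ne_zero hα0 hc)).1, X.f_eq (mul_ne_zero hα0 hc)]
          simp [Matrix.SpecialLinearGroup.transvection_coe, hc]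
          field_simp
      · show X.σ X.w (X.σ _ (X.σ X.w (k : OnePoint F))) = moebius _ (k : OnePoint F)
        rw [moebius_coe]
        rcases eq_or_ne k 0 with rfl | hk
        · rw [X.σ_w_zero, X.σ_τ_infty, X.σ_w_infty]; simp [Matrix.SpecialLinearGroup.transvection_coe]
        · rw [(X.σ_w_coe hk).1, X.σ_τ, X.f_eq hk]
          rcases eq_or_ne (c * k + 1) 0 with h | h
          · rw [show X.f 1 * c + X.f 1 / k = 0 by field_simp; linear_combination X.f 1 * h, X.σ_w_zero]
            simp [Matrix.SpecialLinearGroup.transvection_coe, h]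
          · have h2 : X.f 1 * c + X.f 1 / k ≠ 0 := by
              rw [show X.f 1 * c + X.f 1 / k = X.f 1 / k * (c * k + 1) by field_simp]
              exact mul_ne_zero (div_ne_zero hα0 hk) h
            rw [(X.σ_w_coe h2).1, X.f_eq h2]
            simp [Matrix.SpecialLinearGroup.transvection_coe, h]
            field_simp
    · exact absurd rfl hij
  have hle : (moebiusP (F := F)).range ≤ X.σ.range := by
    rintro _ ⟨x, rfl⟩
    induction x using QuotientGroup.induction_on with
    | H M => exact hall M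
  have hcards : Nat.card (Matrix.ProjectiveSpecialLinearGroup (Fin 2) F) = Nat.card G := by
    have h1 := SLn.card_PSL2_eq F
    have h2 := X.hG
    have h3 := X.card_F_eq
    rw [X.card_F] at h2
    rw [show Nat.gcd 2 (Fintype.card F - 1) = 2 from Nat.gcd_eq_left ⟨Nat.card ↥X.D, by omega⟩] at h1
    rw [mul_assoc, show (Fintype.card F + 1) * (Fintype.card F - 1) = Fintype.card F ^ 2 - 1 by
      rw [← Nat.sq_sub_sq, one_pow]] at h2
    omega
  have e1 := MonoidHom.ofInjective (moebiusP_injective (F := F))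
  have e2 := MonoidHom.ofInjective X.σ_injective
  have heq : (moebiusP (F := F)).range = X.σ.range := Subgroup.eq_of_le_of_card_ge hle
    (by rw [← Nat.card_congr e1.toEquiv, ← Nat.card_congr e2.toEquiv, hcards])
  exact ⟨e2.trans ((MulEquiv.subgroupCongr heq.symm).trans e1.symm)⟩

omit [DecidableEq F] in
/-- A structured group is `PSL(2, q)`, for every field of the right order. -/
theorem Structured.nonempty_iso (hS : Structured G)
    (hF : 2 * Nat.card G = Fintype.card F * (Fintype.card F + 1) * (Fintype.card F - 1)) :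
    Nonempty (G ≃* Matrix.ProjectiveSpecialLinearGroup (Fin 2) F) := by
  obtain ⟨Q, D, hG, hcz, hD, hcard, hinf, hN, hX⟩ := hS
  have hab : ∀ x ∈ D, ∀ y ∈ D, x * y = y * x := fun x hx y hy =>
    congrArg Subtype.val (hD.is_comm.comm (⟨x, hx⟩ : ↥D) ⟨y, hy⟩)
  have hDN : D ≤ Subgroup.normalizer (Q : Set G) := by rw [hN]; exact le_sup_right
  have B : Base Q D := ⟨hcz, hab, hcard, hinf, fun c hc x hx => (Subgroup.mem_normalizer_iff.1 (hDN hc) x).1 hx⟩
  have hFQ : Fintype.card F = Nat.card ↥Q := by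
    rw [hG] at hF
    have hq := Nat.card_pos (α := ↥D)
    have hf := Fintype.one_lt_card (α := F)
    by_contra hne
    rcases Nat.lt_or_gt_of_ne hne with h | h
    · have : Fintype.card F * (Fintype.card F + 1) * (Fintype.card F - 1) <
          Nat.card ↥Q * (Nat.card ↥Q + 1) * (Nat.card ↥Q - 1) :=
        Nat.mul_lt_mul_of_lt_of_lt (Nat.mul_lt_mul_of_lt_of_lt h (by omega)) (by omega)
      omega
    · have : Nat.card ↥Q * (Nat.card ↥Q + 1) * (Nat.card ↥Q - 1) <
          Fintype.card F * (Fintype.card F + 1) * (Fintype.card F - 1) :=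
        Nat.mul_lt_mul_of_lt_of_lt (Nat.mul_lt_mul_of_lt_of_lt h (by omega)) (by omega)
      omega
  obtain ⟨C⟩ := B.exists_coord F hFQ
  obtain ⟨w, hw, hwN, hwD⟩ : ∃ w : G, orderOf w = 2 ∧ w ∉ Subgroup.normalizer (Q : Set G) ∧
      ∀ c ∈ D, w * c * w = c⁻¹ := by
    rcases eq_or_ne D ⊥ with hDb | hDb
    · subst hDb
      haveI := Fact.mk Nat.prime_two
      rw [Subgroup.card_bot] at hcard
      obtain ⟨w, hw⟩ := exists_prime_orderOf_dvd_card' (G := G) 2 (by rw [← hcard] at hG; omega)
      refine ⟨w, hw, fun hwN => ?_, fun c hc => ?_⟩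
      · rw [hN, sup_bot_eq] at hwN
        have := Subgroup.orderOf_dvd_natCard Q hwN
        rw [hw, ← hcard] at this
        omega
      · rw [Subgroup.mem_bot.1 hc, mul_one, Invol.mul_self_of_orderOf hw, inv_one]
    · obtain ⟨-, u, hu, huD, hinv, -⟩ := hX D le_rfl hDb
      refine ⟨u, hu, fun huN => huD ?_, fun c hc => ?_⟩
      · rw [hN] at huN
        have h : u ∈ ((Q ⊔ D : Subgroup G) : Set G) := huN
        rw [Subgroup.coe_mul_of_right_le_normalizer_left Q D hDN] at h
        obtain ⟨x, hx, c, hc, rfl⟩ := h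
        obtain ⟨a, rfl⟩ := C.surj x hx
        obtain ⟨c', hc', hc'1⟩ : ∃ c' ∈ D, c' ≠ 1 := by
          by_contra hcon
          push Not at hcon
          exact hDb ((Subgroup.eq_bot_iff_forall D).2 hcon)
        have h1 := hinv c' hc'
        have h2 : C.τ a * c' * (C.τ a)⁻¹ = c'⁻¹ := by
          rw [← h1, mul_inv_rev]
          calc C.τ a * c' * (C.τ a)⁻¹ = C.τ a * (c * c' * c⁻¹) * (C.τ a)⁻¹ := by
                rw [hab c hc c' hc', mul_inv_cancel_right]
            _ = _ := by group
        have h3 : c' * (C.τ a)⁻¹ * c'⁻¹ = (C.τ a)⁻¹ * (c'⁻¹ * c'⁻¹) := by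
          calc c' * (C.τ a)⁻¹ * c'⁻¹ = (C.τ a)⁻¹ * (C.τ a * c' * (C.τ a)⁻¹) * c'⁻¹ := by group
            _ = _ := by rw [h2, mul_assoc]
        have h4 : C.τ a * (c' * (C.τ a)⁻¹ * c'⁻¹) ∈ Q ⊓ D := by
          refine Subgroup.mem_inf.2 ⟨mul_mem (C.mem a) ((Subgroup.mem_normalizer_iff.1 (hDN hc') _).1 (inv_mem (C.mem a))), ?_⟩
          rw [h3, mul_inv_cancel_left]
          exact mul_mem (inv_mem hc') (inv_mem hc')
        rw [hinf, Subgroup.mem_bot, mul_eq_one_iff_inv_eq] at h4
        have h5 : (C.τ a)⁻¹ = 1 := by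
          by_contra hne
          exact hc'1 (B.semiregular hc' (inv_mem (C.mem a)) hne h4.symm)
        show C.τ a * c ∈ D
        rw [inv_eq_one.1 h5, one_mul]
        exact hc
      · have := hinv c hc
        rwa [inv_eq_of_mul_eq_one_right (Invol.mul_self_of_orderOf hu)] at this
  exact PLine.nonempty_iso
    ⟨Q, D, B, C, w, Invol.mul_self_of_orderOf hw, hwN, hwD, hN, hG⟩

omit [DecidableEq F] [Fintype F] in
/-- A structured group is `PSL(2, q)` for some odd prime power `q`. -/
theorem Structured.exists_iso (hS : Structured G) :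
    ∃ (K : Type) (_ : Field K) (_ : Fintype K), Odd (Fintype.card K) ∧
      2 * Nat.card G = Fintype.card K * (Fintype.card K + 1) * (Fintype.card K - 1) ∧
      Nonempty (G ≃* Matrix.ProjectiveSpecialLinearGroup (Fin 2) K) := by
  obtain ⟨Q, D, hG, hcz, hD, hcard, hinf, hN, -⟩ := id hS
  have hDN : D ≤ Subgroup.normalizer (Q : Set G) := by rw [hN]; exact le_sup_right
  have B : Base Q D := ⟨hcz, fun x hx y hy => congrArg Subtype.val (hD.is_comm.comm (⟨x, hx⟩ : ↥D) ⟨y, hy⟩),
    hcard, hinf, fun c hc x hx => (Subgroup.mem_normalizer_iff.1 (hDN hc) x).1 hx⟩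
  obtain ⟨p, n, hp, hn, hpn⟩ := B.isPrimePow
  haveI := Fact.mk hp.nat_prime
  letI : Fintype (GaloisField p n) := Fintype.ofFinite _
  have hK : Fintype.card (GaloisField p n) = Nat.card ↥Q := by
    rw [← Nat.card_eq_fintype_card, GaloisField.card p n hn.ne', hpn]
  have hG' : 2 * Nat.card G = Fintype.card (GaloisField p n) * (Fintype.card (GaloisField p n) + 1) *
      (Fintype.card (GaloisField p n) - 1) := by rw [hK, hG]
  exact ⟨GaloisField p n, inferInstance, inferInstance, ⟨Nat.card ↥D, by rw [hK, hcard]⟩, hG',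
    hS.nonempty_iso hG'⟩

end CfsgLib.BSW
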