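import Mathlib
import Cfsg.Agent.BSW.DihedralEight

/-!
The alternating group of degree 6 is structured.
-/

set_option autoImplicit false

namespace CfsgLib.BSW

open Equiv

def aA6 : Perm (Fin 6) := swap 0 2 * swap 2 1 * swap 1 3 * swap 4 5
def tA6 : Perm (Fin 6) := aA6 * aA6
def bA6 : Perm (Fin 6) := swap 0 1 * swap 4 5
def a6hom : DihedralGroup 4 → Perm (Fin 6)
  | .r i => aA6 ^ i.val
  | .sr i => bA6 * aA6 ^ i.val
theorem a6hom_mul : ∀ u v, a6hom (u*v) = a6hom u * a6hom v := by decide +kernel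
theorem a6hom_inj : ∀ u v, a6hom u = a6hom v → u = v := by decide +kernel
theorem a6hom_sign : ∀ u, Perm.sign (a6hom u) = 1 := by decide +kernel
theorem a6hom_range : ∀ g : Perm (Fin 6), Perm.sign g = 1 → g * tA6 = tA6 * g → ∃ u, a6hom u = g := by decide +kernel
theorem a6hom_cent : ∀ u, a6hom u * tA6 = tA6 * a6hom u := by decide +kernel

theorem alternating_six_data : Nat.card ↥(alternatingGroup (Fin 6)) = 360 ∧
    (∀ H : Subgroup ↥(alternatingGroup (Fin 6)), H.index ≠ 2) ∧
    ∃ t : ↥(alternatingGroup (Fin 6)), orderOf t = 2 ∧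
      Nonempty (↥(Subgroup.centralizer ({t} : Set ↥(alternatingGroup (Fin 6)))) ≃* DihedralGroup 4) := by
  haveI : IsSimpleGroup ↥(alternatingGroup (Fin 6)) := alternatingGroup.isSimpleGroup (by simp)
  have hcard : Nat.card ↥(alternatingGroup (Fin 6)) = 360 := by
    rw [nat_card_alternatingGroup, Nat.card_eq_fintype_card, Fintype.card_fin]
    rfl
  have htm : tA6 ∈ alternatingGroup (Fin 6) := by
    rw [Equiv.Perm.mem_alternatingGroup]; decide +kernel
  obtain ⟨t, ht⟩ : ∃ t : ↥(alternatingGroup (Fin 6)), t = ⟨tA6, htm⟩ := ⟨_, rfl⟩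
  have hto : orderOf t = 2 := by
    rw [← Subgroup.orderOf_coe, ht]
    exact orderOf_eq_prime (show tA6 ^ 2 = 1 by decide +kernel) (show tA6 ≠ 1 by decide +kernel)
  let φ : DihedralGroup 4 →* ↥(Subgroup.centralizer ({t} : Set ↥(alternatingGroup (Fin 6)))) :=
    MonoidHom.mk' (fun u => ⟨⟨a6hom u, Equiv.Perm.mem_alternatingGroup.2 (a6hom_sign u)⟩,
      Subgroup.mem_centralizer_singleton_iff.2 (Subtype.ext (by rw [ht]; exact a6hom_cent u))⟩)
      fun u v => Subtype.ext (Subtype.ext (a6hom_mul u v))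
  have hb : Function.Bijective φ := by
    refine ⟨fun u v h => a6hom_inj u v (congrArg Subtype.val (congrArg Subtype.val h)), fun g => ?_⟩
    obtain ⟨u, hu⟩ := a6hom_range g.1.1 (Equiv.Perm.mem_alternatingGroup.1 g.1.2) (by
      have h := congrArg Subtype.val (Subgroup.mem_centralizer_singleton_iff.1 g.2)
      rwa [Subgroup.coe_mul, Subgroup.coe_mul, show (t : Equiv.Perm (Fin 6)) = tA6 by rw [ht]] at h)
    exact ⟨u, Subtype.ext (Subtype.ext hu)⟩
  refine ⟨hcard, fun H hH => ?_, t, hto, ⟨(MulEquiv.ofBijective φ hb).symm⟩⟩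
  have hn : H.Normal := Subgroup.normal_of_index_eq_two hH
  rcases hn.eq_bot_or_eq_top with h | h
  · rw [h, Subgroup.index_bot, hcard] at hH; omega
  · rw [h, Subgroup.index_top] at hH; omega

theorem structured_alternating_six : Structured ↥(alternatingGroup (Fin 6)) ∧
    Nat.card ↥(alternatingGroup (Fin 6)) = 360 := by
  obtain ⟨hcard, hG, t, ht, ⟨e⟩⟩ := alternating_six_data
  exact ⟨(structured_of_dihedral_eight' ht e hG).1, hcard⟩

/-- Every involution of the alternating group of degree 6 has a dihedral centraliser of order 8. -/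
theorem alternating_six_centralizer {x : ↥(alternatingGroup (Fin 6))} (hx : orderOf x = 2) :
    Nonempty (↥(Subgroup.centralizer ({x} : Set ↥(alternatingGroup (Fin 6)))) ≃* DihedralGroup 4) := by
  obtain ⟨-, hG, t, ht, ⟨e⟩⟩ := alternating_six_data
  obtain ⟨f⟩ := centralizer_equiv_of_isConj (isConj_of_dihedral_eight ht e hG hx ht)
  exact ⟨f.trans e⟩

end CfsgLib.BSW
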