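import Mathlib
import Cfsg.Agent.Transfer.SmallElements
import Cfsg.Prelude.Def_Transfer

/-!
Involution centralisers in groups with dihedral Sylow 2-subgroups have normal 2-complements.
-/

set_option autoImplicit false

namespace CfsgLib.BSW

universe u

theorem zmod_half_unique {n : ℕ} [NeZero n] {a b : ZMod n} (ha : a + a = 0) (hb : b + b = 0) (ha0 : a ≠ 0)
    (hb0 : b ≠ 0) : a = b := by
  have key : ∀ c : ZMod n, c + c = 0 → c ≠ 0 → c.val + c.val = n := by
    intro c hc hc0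
    have h1 : ((c.val + c.val : ℕ) : ZMod n) = 0 := by
      rw [Nat.cast_add, ZMod.natCast_zmod_val, hc]
    rw [ZMod.natCast_eq_zero_iff] at h1
    obtain ⟨j, hj⟩ := h1
    have h2 := c.val_lt
    have h3 : c.val ≠ 0 := fun h => hc0 ((ZMod.val_eq_zero c).1 h)
    have : j = 1 := by
      rcases j with _ | _ | j
      · omega
      · rfl
      · have : n * 2 ≤ n * (j + 1 + 1) := Nat.mul_le_mul_left _ (by omega)
        omega
    rw [this, mul_one] at hj
    exact hj
  exact ZMod.val_injective n (by have := key a ha ha0; have := key b hb hb0; omega)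

variable {C : Type u} [Group C] [Finite C]

/-- A Sylow 2-subgroup which is "dihedral around a central involution" gives a normal 2-complement. -/
theorem hasNormalPComplement_of_dihedralLike (P : Sylow 2 C) {t : C} (htc : t ∈ Subgroup.center C) (R : Subgroup C)
    (hab : ∀ x ∈ R, ∀ y ∈ R, x * y = y * x) (hinv : ∀ x ∈ R, x * x = 1 → x = 1 ∨ x = t)
    (hout : ∀ x ∈ (P : Subgroup C), x ∉ R → x * x = 1)
    (hdiv : ∀ x ∈ (P : Subgroup C), ∀ y ∈ (P : Subgroup C), x ∉ R → y ∉ R → x⁻¹ * y ∈ R) :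
    Cfsg.HasNormalPComplement 2 C := by
  haveI : Fact (Nat.Prime 2) := ⟨Nat.prime_two⟩
  refine CfsgLib.Transfer.frobenius_normal_complement
    (CfsgLib.Transfer.locallyTrivial_of_sylow P fun Q hQ n hn hnp => ?_)
  have hQp : IsPGroup 2 ↥Q := P.isPGroup'.to_le hQ
  have hcop : ∀ c ∈ Q, (orderOf n).Coprime (orderOf c) := fun c hc => by
    obtain ⟨k, hk⟩ := hQp ⟨c, hc⟩
    refine Nat.Coprime.coprime_dvd_right (orderOf_dvd_of_pow_eq_one ?_) (hnp.pow_right k)
    exact congrArg Subtype.val hk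
  have hmem : ∀ x ∈ Q, n * x * n⁻¹ ∈ Q := fun x hx => (Subgroup.mem_normalizer_iff.1 hn x).1 hx
  have hfix : ∀ c ∈ R, c * c = 1 → Commute n c := fun c hc hc2 => by
    rcases hinv c hc hc2 with rfl | rfl
    · exact Commute.one_right n
    · exact (Subgroup.mem_center_iff.1 htc n)
  have hrot : ∀ k : ℕ, ∀ x ∈ Q, x ∈ R → x ^ 2 ^ k = 1 → Commute n x := by
    intro k
    induction k with
    | zero => intro x _ _ h; rw [pow_zero, pow_one] at h; rw [h]; exact Commute.one_right n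
    | succ k ih =>
      intro x hxQ hxR hx
      by_cases hx2 : x * x = 1
      · exact hfix x hxR hx2
      have hcomm : Commute n (x * x) := ih (x * x) (mul_mem hxQ hxQ) (mul_mem hxR hxR)
        (by rw [← pow_two, ← pow_mul, ← pow_succ']; exact hx)
      obtain ⟨y, hy⟩ : ∃ y, y = n * x * n⁻¹ := ⟨_, rfl⟩
      have hyQ : y ∈ Q := hy ▸ hmem x hxQ
      have hy2 : y * y = x * x := by
        calc y * y = n * (x * x) * n⁻¹ := by rw [hy]; group
          _ = x * x := by rw [hcomm.eq, mul_inv_cancel_right]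
      have hyR : y ∈ R := by
        by_contra h
        exact hx2 (hy2 ▸ hout y (hQ hyQ) h)
      have hcR : x⁻¹ * y ∈ R := mul_mem (inv_mem hxR) hyR
      have hc2 : x⁻¹ * y * (x⁻¹ * y) = 1 := by
        calc x⁻¹ * y * (x⁻¹ * y) = x⁻¹ * (y * x⁻¹) * y := by group
          _ = x⁻¹ * (x⁻¹ * y) * y := by rw [hab y hyR x⁻¹ (inv_mem hxR)]
          _ = (x * x)⁻¹ * (y * y) := by group
          _ = 1 := by rw [hy2, inv_mul_cancel]
      have h1 := CfsgLib.Transfer.eq_one_of_conj_eq_mul (a := x) (c := x⁻¹ * y) (n := n)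
        (by rw [mul_inv_cancel_left, ← hy]) (hfix _ hcR hc2) (hcop _ (mul_mem (inv_mem hxQ) hyQ))
      have h2 : n * x * n⁻¹ = x := by rw [← hy]; exact (eq_of_inv_mul_eq_one h1).symm
      exact mul_inv_eq_iff_eq_mul.1 h2
  have hR : ∀ x ∈ Q, x ∈ R → Commute n x := fun x hxQ hxR => by
    obtain ⟨k, hk⟩ := hQp ⟨x, hxQ⟩
    exact hrot k x hxQ hxR (congrArg Subtype.val hk)
  refine Subgroup.mem_centralizer_iff.2 fun x hxQ => ?_
  by_cases hxR : x ∈ R
  · exact (hR x hxQ hxR).eq.symm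
  obtain ⟨y, hy⟩ : ∃ y, y = n * x * n⁻¹ := ⟨_, rfl⟩
  have hyQ : y ∈ Q := hy ▸ hmem x hxQ
  by_cases hyR : y ∈ R
  · refine absurd ?_ hxR
    have h : x = n⁻¹ * (y * n) := by rw [hy]; group
    rw [h, ← (hR y hyQ hyR).eq, inv_mul_cancel_left]
    exact hyR
  have hcR := hdiv x (hQ hxQ) y (hQ hyQ) hxR hyR
  have hcQ : x⁻¹ * y ∈ Q := mul_mem (inv_mem hxQ) hyQ
  have h1 := CfsgLib.Transfer.eq_one_of_conj_eq_mul (a := x) (c := x⁻¹ * y) (n := n)
    (by rw [mul_inv_cancel_left, ← hy]) (hR _ hcQ hcR) (hcop _ hcQ)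
  have h2 : n * x * n⁻¹ = x := by rw [← hy]; exact (eq_of_inv_mul_eq_one h1).symm
  exact (mul_inv_eq_iff_eq_mul.1 h2).symm

/-- The centraliser of an involution in a group with dihedral Sylow 2-subgroups. -/
theorem centralizer_hasNormalPComplement {X : Type u} [Group X] [Finite X] (S : Sylow 2 X) {n : ℕ} (hn : n ≠ 0)
    (hS : Nonempty ((S : Subgroup X) ≃* DihedralGroup n)) {t : X} (ht : orderOf t = 2) :
    Cfsg.HasNormalPComplement 2 ↥(Subgroup.centralizer ({t} : Set X)) := by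
  haveI : Fact (Nat.Prime 2) := ⟨Nat.prime_two⟩
  haveI : NeZero n := ⟨hn⟩
  obtain ⟨C, hC⟩ : ∃ C : Subgroup X, C = Subgroup.centralizer ({t} : Set X) := ⟨_, rfl⟩
  rw [← hC]
  have htC : t ∈ C := hC ▸ Subgroup.mem_centralizer_singleton_iff.2 rfl
  have htc : (⟨t, htC⟩ : ↥C) ∈ Subgroup.center ↥C := by
    refine Subgroup.mem_center_iff.2 fun c => Subtype.ext ?_
    have h : (c : X) ∈ Subgroup.centralizer ({t} : Set X) := by rw [← hC]; exact c.2
    exact Subgroup.mem_centralizer_singleton_iff.1 h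
  obtain ⟨P₀⟩ : Nonempty (Sylow 2 ↥C) := inferInstance
  have hz : IsPGroup 2 (Subgroup.zpowers (⟨t, htC⟩ : ↥C)) :=
    IsPGroup.of_card (n := 1) (by rw [Nat.card_zpowers, Subgroup.orderOf_mk, ht, pow_one])
  obtain ⟨P, hPt⟩ := hz.exists_le_sylow
  obtain ⟨S', hS'⟩ := (P.isPGroup'.map C.subtype).exists_le_sylow
  obtain ⟨e₀⟩ := hS
  let e : ↥(S' : Subgroup X) ≃* DihedralGroup n := (Sylow.equiv S' S).trans e₀
  have htS : t ∈ (S' : Subgroup X) := hS' ⟨⟨t, htC⟩, hPt (Subgroup.mem_zpowers _), rfl⟩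
  have hP : ∀ x ∈ (P : Subgroup ↥C), (x : X) ∈ (S' : Subgroup X) := fun x hx => hS' ⟨x, hx, rfl⟩
  have he : ∀ (x : X) (hx : x ∈ (S' : Subgroup X)) (y : X) (hy : y ∈ (S' : Subgroup X)),
      e ⟨x, hx⟩ = e ⟨y, hy⟩ → x = y := fun x hx y hy h => congrArg Subtype.val (e.injective h)
  rcases hct : e ⟨t, htS⟩ with k | k
  · -- `t` is a rotation
    have hk2 : k + k = 0 := by
      have h : e (⟨t, htS⟩ * ⟨t, htS⟩) = 1 := by
        rw [show (⟨t, htS⟩ * ⟨t, htS⟩ : ↥(S' : Subgroup X)) = 1 from Subtype.ext (by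
          show t * t = 1; rw [← pow_two, ← ht, pow_orderOf_eq_one]), map_one]
      rw [map_mul, hct, DihedralGroup.r_mul_r] at h
      exact DihedralGroup.r.inj h
    have hk0 : k ≠ 0 := fun h => by
      have : t = 1 := he t htS 1 (one_mem _) (by rw [hct, h]; exact (map_one e).symm)
      rw [this, orderOf_one] at ht; omega
    let Rot : Subgroup ↥(S' : Subgroup X) := (Subgroup.zpowers (DihedralGroup.r (1 : ZMod n))).comap e.toMonoidHom
    have hRot : ∀ (x : X) (hx : x ∈ (S' : Subgroup X)), (⟨x, hx⟩ : ↥(S' : Subgroup X)) ∈ Rot ↔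
        ∃ i, e ⟨x, hx⟩ = DihedralGroup.r i := fun x hx => by
      refine Subgroup.mem_comap.trans ⟨?_, ?_⟩
      · rintro ⟨j, hj⟩
        exact ⟨(j : ZMod n), hj.symm.trans (DihedralGroup.r_one_zpow j)⟩
      · rintro ⟨i, hi⟩
        exact ⟨(i.val : ℤ), (DihedralGroup.r_one_zpow _).trans (by
          rw [Int.cast_natCast, ZMod.natCast_zmod_val]; exact hi.symm)⟩
    let R : Subgroup ↥C := (Rot.map (S' : Subgroup X).subtype).subgroupOf C
    have hR : ∀ x : ↥C, x ∈ R ↔ ∃ (hx : (x : X) ∈ (S' : Subgroup X)) (i : ZMod n), e ⟨x, hx⟩ = DihedralGroup.r i := by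
      intro x
      refine Subgroup.mem_subgroupOf.trans ⟨?_, ?_⟩
      · rintro ⟨y, hy, hyx⟩
        have hyx' : (y : X) = x := hyx
        refine ⟨hyx' ▸ y.2, ?_⟩
        obtain ⟨i, hi⟩ := (hRot _ y.2).1 hy
        exact ⟨i, (congrArg e (Subtype.ext hyx'.symm)).trans hi⟩
      · rintro ⟨hx, hi⟩
        exact ⟨⟨x, hx⟩, (hRot _ hx).2 hi, rfl⟩
    refine hasNormalPComplement_of_dihedralLike P htc R ?_ ?_ ?_ ?_
    · intro x hx y hy
      obtain ⟨hxS, i, hi⟩ := (hR x).1 hx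
      obtain ⟨hyS, j, hj⟩ := (hR y).1 hy
      refine Subtype.ext (he _ (mul_mem hxS hyS) _ (mul_mem hyS hxS) ?_)
      show e (⟨x, hxS⟩ * ⟨y, hyS⟩) = e (⟨y, hyS⟩ * ⟨x, hxS⟩)
      rw [map_mul, map_mul, hi, hj, DihedralGroup.r_mul_r, DihedralGroup.r_mul_r, add_comm]
    · intro x hx hx2
      obtain ⟨hxS, i, hi⟩ := (hR x).1 hx
      have h : e (⟨x, hxS⟩ * ⟨x, hxS⟩) = 1 := by
        rw [show (⟨x, hxS⟩ * ⟨x, hxS⟩ : ↥(S' : Subgroup X)) = 1 from Subtype.ext (congrArg Subtype.val hx2 :), map_one]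
      rw [map_mul, hi, DihedralGroup.r_mul_r] at h
      have h' : i + i = 0 := DihedralGroup.r.inj h
      by_cases hi0 : i = 0
      · left
        exact Subtype.ext (he _ hxS 1 (one_mem _) (by rw [hi, hi0]; exact (map_one e).symm))
      · right
        exact Subtype.ext (he _ hxS t htS (by rw [hi, hct, zmod_half_unique h' hk2 hi0 hk0]))
    · intro x hx hxR
      rcases hc : e ⟨x, hP x hx⟩ with i | i
      · exact absurd ((hR x).2 ⟨hP x hx, i, hc⟩) hxR
      · refine Subtype.ext (he _ (mul_mem (hP x hx) (hP x hx)) 1 (one_mem _) ?_)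
        show e (⟨x, hP x hx⟩ * ⟨x, hP x hx⟩) = e 1
        rw [map_mul, hc, DihedralGroup.sr_mul_self, map_one]
    · intro x hx y hy hxR hyR
      rcases hc : e ⟨x, hP x hx⟩ with i | i
      · exact absurd ((hR x).2 ⟨hP x hx, i, hc⟩) hxR
      rcases hd : e ⟨y, hP y hy⟩ with j | j
      · exact absurd ((hR y).2 ⟨hP y hy, j, hd⟩) hyR
      refine (hR _).2 ⟨mul_mem (inv_mem (hP x hx)) (hP y hy), j - i, ?_⟩
      show e ((⟨x, hP x hx⟩ : ↥(S' : Subgroup X))⁻¹ * ⟨y, hP y hy⟩) = _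
      rw [map_mul, map_inv, hc, hd, DihedralGroup.inv_sr, DihedralGroup.sr_mul_sr]
  · -- `t` is a reflection
    have hcls : ∀ x : ↥C, ∀ hx : x ∈ (P : Subgroup ↥C), x ∉ Subgroup.zpowers (⟨t, htC⟩ : ↥C) →
        ∃ a : ZMod n, a + a = 0 ∧ a ≠ 0 ∧ (e ⟨x, hP x hx⟩ = DihedralGroup.r a ∨
          e ⟨x, hP x hx⟩ = DihedralGroup.sr (k + a)) := by
      intro x hx hxt
      have hcomm : e ⟨x, hP x hx⟩ * DihedralGroup.sr k = DihedralGroup.sr k * e ⟨x, hP x hx⟩ := by
        rw [← hct, ← map_mul, ← map_mul]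
        exact congrArg e (Subtype.ext (congrArg Subtype.val (Subgroup.mem_center_iff.1 htc x) : (x : X) * t = t * x))
      rcases hc : e ⟨x, hP x hx⟩ with i | i
      · refine ⟨i, ?_, fun h => hxt ?_, Or.inl rfl⟩
        · rw [hc, DihedralGroup.r_mul_sr, DihedralGroup.sr_mul_r] at hcomm
          have := DihedralGroup.sr.inj hcomm
          linear_combination -this
        · rw [show x = 1 from Subtype.ext (he _ (hP x hx) 1 (one_mem _) (by rw [hc, h]; exact (map_one e).symm))]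
          exact one_mem _
      · refine ⟨i - k, ?_, fun h => hxt ?_, Or.inr (by rw [add_sub_cancel])⟩
        · rw [hc, DihedralGroup.sr_mul_sr, DihedralGroup.sr_mul_sr] at hcomm
          have := DihedralGroup.r.inj hcomm
          linear_combination -this
        · rw [show x = ⟨t, htC⟩ from Subtype.ext (he _ (hP x hx) t htS (by rw [hc, hct, sub_eq_zero.1 h]))]
          exact Subgroup.mem_zpowers _
    have ht2 : (⟨t, htC⟩ : ↥C) * ⟨t, htC⟩ = 1 :=
      Subtype.ext (by show t * t = 1; rw [← pow_two, ← ht, pow_orderOf_eq_one])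
    have hzp : ∀ x ∈ Subgroup.zpowers (⟨t, htC⟩ : ↥C), x = 1 ∨ x = ⟨t, htC⟩ := by
      rintro _ ⟨j, rfl⟩
      rcases Int.even_or_odd' j with ⟨a, rfl | rfl⟩
      · left; simp only [zpow_mul, zpow_two, ht2, one_zpow]
      · right; simp only [zpow_add, zpow_mul, zpow_two, ht2, one_zpow, one_mul, zpow_one]
    refine hasNormalPComplement_of_dihedralLike P htc (Subgroup.zpowers (⟨t, htC⟩ : ↥C)) ?_ ?_ ?_ ?_
    · rintro x ⟨i, rfl⟩ y ⟨j, rfl⟩
      exact (Commute.zpow_zpow_self _ i j).eq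
    · exact fun x hx _ => hzp x hx
    · intro x hx hxt
      obtain ⟨a, ha, -, hc⟩ := hcls x hx hxt
      refine Subtype.ext (he _ (mul_mem (hP x hx) (hP x hx)) 1 (one_mem _) ?_)
      show e (⟨x, hP x hx⟩ * ⟨x, hP x hx⟩) = e 1
      rw [map_mul, map_one]
      rcases hc with hc | hc <;> rw [hc]
      · rw [DihedralGroup.r_mul_r, ha]; rfl
      · exact DihedralGroup.sr_mul_self _
    · intro x hx y hy hxt hyt
      obtain ⟨a, ha, ha0, hc⟩ := hcls x hx hxt
      obtain ⟨b, hb, hb0, hd⟩ := hcls y hy hyt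
      obtain rfl := zmod_half_unique ha hb ha0 hb0
      have hxy : x⁻¹ * y = 1 ∨ x⁻¹ * y = ⟨t, htC⟩ := by
        have h1 : ∀ (v : X) (hv : v ∈ (S' : Subgroup X)),
            e ((⟨x, hP x hx⟩ : ↥(S' : Subgroup X))⁻¹ * ⟨y, hP y hy⟩) = e ⟨v, hv⟩ → ((x⁻¹ * y : ↥C) : X) = v :=
          fun v hv h => congrArg Subtype.val (e.injective h)
        rcases hc with hc | hc <;> rcases hd with hd | hd
        · left; exact Subtype.ext (h1 1 (one_mem _) (by
            rw [map_mul, map_inv, hc, hd, inv_mul_cancel]; exact (map_one e).symm))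
        · right; exact Subtype.ext (h1 t htS (by
            rw [map_mul, map_inv, hc, hd, hct, DihedralGroup.inv_r, DihedralGroup.r_mul_sr]
            congr 1
            linear_combination ha))
        · right; exact Subtype.ext (h1 t htS (by
            rw [map_mul, map_inv, hc, hd, hct, DihedralGroup.inv_sr, DihedralGroup.sr_mul_r]
            congr 1
            linear_combination ha))
        · left; exact Subtype.ext (h1 1 (one_mem _) (by
            rw [map_mul, map_inv, hc, hd, inv_mul_cancel]; exact (map_one e).symm))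
      rcases hxy with h | h <;> rw [h]
      · exact one_mem _
      · exact Subgroup.mem_zpowers _

end CfsgLib.BSW
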