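import Mathlib
import Cfsg.Agent.BSW.Main
import Cfsg.Agent.Invol.Dihedral
import Cfsg.Agent.Transfer.Frobenius

/-!
An involution whose centraliser is a four group.
-/

set_option autoImplicit false

namespace CfsgLib.BSW

open CfsgLib.Invol

universe u

variable {G : Type u} [Group G] [Finite G]

/-- A subgroup of order 4 and exponent 2 is `{1, x, z, x * z}`. -/
theorem four_elements {V : Subgroup G} (hV : Nat.card ↥V = 4) {x z : G} (hx : x ∈ V) (hz : z ∈ V) (hx1 : x ≠ 1)
    (hz1 : z ≠ 1) (hxz : x ≠ z) (hx2 : x * x = 1) {c : G} (hc : c ∈ V) :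
    c = 1 ∨ c = x ∨ c = z ∨ c = x * z := by
  classical
  haveI := Fintype.ofFinite ↥V
  have h1 : x * z ≠ 1 := fun h => hxz (mul_left_cancel (hx2.trans h.symm))
  by_contra hne
  push Not at hne
  have hle : ({⟨1, one_mem V⟩, ⟨x, hx⟩, ⟨z, hz⟩, ⟨x * z, mul_mem hx hz⟩, ⟨c, hc⟩} : Finset ↥V).card ≤ 4 := by
    rw [← hV, Nat.card_eq_fintype_card]
    exact Finset.card_le_univ _
  rw [Finset.card_insert_of_notMem, Finset.card_insert_of_notMem, Finset.card_insert_of_notMem,
    Finset.card_insert_of_notMem, Finset.card_singleton] at hle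
  · omega
  · simp [Ne.symm hne.2.2.2]
  · simp [Ne.symm hne.2.2.1, hx1]
  · simp [hxz, Ne.symm hne.2.1, hz1]
  · simp [Ne.symm hx1, Ne.symm hz1, Ne.symm h1, Ne.symm hne.1]

theorem card_cz_of_isConj {x y : G} (h : IsConj x y) : Nat.card ↥(cz x) = Nat.card ↥(cz y) := by
  obtain ⟨c, rfl⟩ := isConj_iff.1 h
  exact (card_cz_conj c x).symm

theorem card_le_two_of {H : Subgroup G} {z : G} (h : ∀ a ∈ H, a = 1 ∨ a = z) : Nat.card ↥H ≤ 2 := by
  classical
  refine (Nat.card_le_card_of_injective (fun a : ↥H => decide ((a : G) = 1)) fun a b hab => ?_).trans_eq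
    (by rw [Nat.card_eq_fintype_card, Fintype.card_bool])
  refine Subtype.ext ?_
  have hab' : ((a : G) = 1 ↔ (b : G) = 1) := by simpa using hab
  rcases h a a.2 with ha | ha <;> rcases h b b.2 with hb | hb
  · rw [ha, hb]
  · rw [ha, hab'.1 ha]
  · rw [hb, hab'.2 hb]
  · rw [ha, hb]

/-- An elementary abelian normal subgroup on which an involution fixes at most `{1, z}`. -/
theorem card_le_four_of_action {A : Subgroup G} {x z : G} (hx2 : x * x = 1) (hAn : A.Normal)
    (hcomm : ∀ a ∈ A, ∀ b ∈ A, a * b = b * a) (hAe : ∀ a ∈ A, a * a = 1)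
    (hfix : ∀ a ∈ A, a ∈ cz x → a = 1 ∨ a = z) : Nat.card ↥A ≤ 4 := by
  have hxinv : x⁻¹ = x := inv_eq_of_mul_eq_one_right hx2
  let φ : ↥A →* G :=
    { toFun := fun a => (a : G) * (x * (a : G) * x)
      map_one' := by simp [hx2]
      map_mul' := fun a b => by
        have h := hcomm b b.2 _ (hAn.conj_mem _ a.2 x)
        rw [hxinv] at h
        show (a : G) * b * (x * (a * b) * x) = a * (x * a * x) * (b * (x * b * x))
        calc (a : G) * b * (x * (a * b) * x) = (a : G) * b * (x * a * (x * x) * b * x) := by rw [hx2]; group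
          _ = (a : G) * (b * (x * a * x)) * (x * b * x) := by group
          _ = (a : G) * (x * a * x * b) * (x * b * x) := by rw [h]
          _ = _ := by group }
  have hker : Nat.card ↥φ.ker ≤ 2 := by
    rw [Nat.card_congr (Subgroup.equivMapOfInjective φ.ker A.subtype A.subtype_injective).toEquiv]
    refine card_le_two_of (z := z) fun a ha => ?_
    obtain ⟨b, hb, rfl⟩ := ha
    refine hfix _ b.2 (mem_cz.2 ?_)
    have h : (b : G) * (x * b * x) = 1 := hb
    have h2 : x * b * x = (b : G) := mul_left_cancel (h.trans (hAe _ b.2).symm)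
    calc (b : G) * x = (x * b * x) * x := by rw [h2]
      _ = x * b * (x * x) := by group
      _ = x * b := by rw [hx2, mul_one]
  have hrange : Nat.card ↥φ.range ≤ 2 := by
    refine card_le_two_of (z := z) fun a ha => ?_
    obtain ⟨b, rfl⟩ := ha
    have hmem : x * (b : G) * x ∈ A := by
      have := hAn.conj_mem _ b.2 x
      rwa [hxinv] at this
    refine hfix _ (mul_mem b.2 hmem) (mem_cz.2 ?_)
    calc (b : G) * (x * b * x) * x = (b : G) * x * b * (x * x) := by group
      _ = (x * x) * ((b : G) * x * b) := by rw [hx2, mul_one, one_mul]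
      _ = x * ((x * b * x) * b) := by group
      _ = x * ((b : G) * (x * b * x)) := by rw [hcomm _ hmem _ b.2]
  have h := Subgroup.card_mul_index φ.ker
  rw [Subgroup.index_ker] at h
  nlinarith

/-- If such an involution is not central in a Sylow 2-subgroup there is a normal subgroup of order 2 or 4. -/
theorem exists_normal_small {x : G} (hx : orderOf x = 2) (hC4 : Nat.card ↥(cz x) = 4) {S : Sylow 2 G}
    (hS : cz x ≤ (S : Subgroup G)) (hne : cz x ≠ (S : Subgroup G)) :
    ∃ E : Subgroup G, E.Normal ∧ Cfsg.IsElementaryAbelian 2 E ∧ (Nat.card ↥E = 2 ∨ Nat.card ↥E = 4) := by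
  classical
  haveI : Fact (Nat.Prime 2) := ⟨Nat.prime_two⟩
  have hx1 : x ≠ 1 := ne_one_of_orderOf hx
  have hx2 : x * x = 1 := mul_self_of_orderOf hx
  have hxV : x ∈ cz x := mem_cz.2 rfl
  have hSb : (S : Subgroup G) ≠ ⊥ := fun h => by
    have := hS hxV
    rw [h, Subgroup.mem_bot] at this
    exact hx1 this
  obtain ⟨z₀, hz₀, hz₀1, hSz₀⟩ := exists_central S.isPGroup' hSb
  obtain ⟨z, hzS, hz2o, hSz⟩ : ∃ z ∈ (S : Subgroup G), orderOf z = 2 ∧ (S : Subgroup G) ≤ cz z := by
    obtain ⟨k, hk⟩ := S.isPGroup' ⟨z₀, hz₀⟩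
    have hk' : z₀ ^ 2 ^ k = 1 := congrArg Subtype.val hk
    obtain ⟨j, hj, hjo⟩ := (Nat.dvd_prime_pow Nat.prime_two).1 (orderOf_dvd_of_pow_eq_one hk')
    obtain ⟨i, rfl⟩ : ∃ i, j = i + 1 := ⟨j - 1, by
      rcases j with _ | j
      · exact absurd (orderOf_eq_one_iff.1 (by simpa using hjo)) hz₀1
      · omega⟩
    refine ⟨z₀ ^ 2 ^ i, pow_mem hz₀ _, ?_, fun y hy => ?_⟩
    · have h := orderOf_pow_orderOf_div (orderOf_pos z₀).ne' (show 2 ∣ orderOf z₀ by rw [hjo]; exact ⟨2 ^ i, pow_succ' 2 i⟩)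
      rwa [hjo, pow_succ, Nat.mul_div_cancel _ two_pos] at h
    · exact mem_cz.2 (Commute.pow_right (show Commute y z₀ from mem_cz.1 (hSz₀ hy)) _).eq
  have hz1 : z ≠ 1 := ne_one_of_orderOf hz2o
  have hz2 : z * z = 1 := mul_self_of_orderOf hz2o
  have hzV : z ∈ cz x := mem_cz_comm.1 (hSz (hS hxV))
  have hxz : x ≠ z := fun h => hne (le_antisymm hS (by rw [h]; exact hSz))
  have hel : ∀ c ∈ cz x, c = 1 ∨ c = x ∨ c = z ∨ c = x * z := fun c hc =>
    four_elements hC4 hxV hzV hx1 hz1 hxz hx2 hc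
  have hcom : Commute x z := (mem_cz.1 hzV : Commute z x).symm
  -- `x` and `x * z` are conjugate
  obtain ⟨y, hyS, hyV, hyN⟩ : ∃ y ∈ (S : Subgroup G), y ∉ cz x ∧ y ∈ Subgroup.normalizer ((cz x : Subgroup G) : Set G) := by
    have hlt : (cz x).subgroupOf (S : Subgroup G) < ⊤ :=
      lt_of_le_of_ne le_top fun h => hne (le_antisymm hS (Subgroup.subgroupOf_eq_top.1 h))
    haveI := S.isPGroup'.isNilpotent
    obtain ⟨y, hy, hy'⟩ := SetLike.exists_of_lt (Group.normalizerCondition_of_isNilpotent _ hlt)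
    refine ⟨y, y.2, fun h => hy' h, Subgroup.mem_normalizer_iff.2 fun w => ⟨fun hw => ?_, fun hw => ?_⟩⟩
    · exact (Subgroup.mem_normalizer_iff.1 hy ⟨w, hS hw⟩).1 hw
    · have hwS : w ∈ (S : Subgroup G) := by
        have := mul_mem (mul_mem (inv_mem y.2) (hS hw)) y.2
        simpa [mul_assoc] using this
      exact (Subgroup.mem_normalizer_iff.1 hy ⟨w, hwS⟩).2 hw
  have hyz : y * z * y⁻¹ = z := by rw [mem_cz.1 (hSz hyS), mul_inv_cancel_right]
  have hyx : y * x * y⁻¹ = x * z := by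
    rcases hel _ ((Subgroup.mem_normalizer_iff.1 hyN x).1 hxV) with h | h | h | h
    · exact absurd (conj_eq_one_iff.1 h) hx1
    · exact absurd (mem_cz.2 (mul_inv_eq_iff_eq_mul.1 h)) hyV
    · exact absurd (mul_left_cancel (mul_right_cancel (h.trans hyz.symm))) hxz
    · exact h
  have hCz : 4 < Nat.card ↥(cz z) := by
    refine lt_of_lt_of_le (hC4 ▸ ?_) (Subgroup.card_le_of_le hSz)
    exact lt_of_le_of_ne (Subgroup.card_le_of_le hS) fun h => hne (Subgroup.eq_of_le_of_card_ge hS h.ge)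
  have hnc : ¬ IsConj x z := fun h => by
    rw [card_cz_of_isConj h] at hC4; omega
  have hnc' : ¬ IsConj (x * z) z := fun h => hnc ((isConj_iff.2 ⟨y, hyx⟩).trans h)
  -- the conjugates of `z` commute with `z`
  have key : ∀ w, IsConj z w → Commute z w := by
    intro w hw
    have hwo : orderOf w = 2 := by
      obtain ⟨c, rfl⟩ := isConj_iff.1 hw
      rw [Invol.orderOf_conj, hz2o]
    obtain ⟨v, hv, hvx, hvw⟩ := exists_commuting_involution hx hwo fun h => hnc (h.trans hw.symm)
    rcases hel v (mem_cz.2 hvx.eq) with rfl | rfl | rfl | rfl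
    · simp at hv
    · rcases hel w (mem_cz.2 hvw.symm.eq) with rfl | rfl | rfl | rfl
      · simp at hwo
      · exact absurd hw.symm hnc
      · exact Commute.refl _
      · exact absurd hw.symm hnc'
    · exact hvw
    · have hwC : y⁻¹ * w * y ∈ cz x := by
        have h := (cz_conj (g := x * z) (x := w) y⁻¹).2 (mem_cz.2 hvw.symm.eq)
        rwa [inv_inv, show y⁻¹ * (x * z) * y = x by rw [← hyx]; group] at h
      have hwi : IsConj z (y⁻¹ * w * y) := hw.trans (isConj_iff.2 ⟨y⁻¹, by rw [inv_inv]⟩)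
      rcases hel _ hwC with h | h | h | h
      · rw [h] at hwi
        exact absurd (isConj_one_right.1 hwi.symm) hz1
      · rw [h] at hwi; exact absurd hwi.symm hnc
      · rw [show w = y * (y⁻¹ * w * y) * y⁻¹ by group, h, hyz]
      · rw [h] at hwi; exact absurd hwi.symm hnc'
  obtain ⟨W, hW⟩ : ∃ W : Set G, W = {w | IsConj z w} := ⟨_, rfl⟩
  have hWcomm : ∀ a ∈ W, ∀ b ∈ W, a * b = b * a := by
    intro a ha b hb
    rw [hW] at ha hb
    obtain ⟨c, rfl⟩ := isConj_iff.1 ha
    have h := key (c⁻¹ * b * c) (IsConj.trans hb (isConj_iff.2 ⟨c⁻¹, by rw [inv_inv]⟩))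
    calc c * z * c⁻¹ * b = c * (z * (c⁻¹ * b * c)) * c⁻¹ := by group
      _ = c * (c⁻¹ * b * c * z) * c⁻¹ := by rw [h.eq]
      _ = _ := by group
  obtain ⟨A, hA⟩ : ∃ A : Subgroup G, A = Subgroup.closure W := ⟨_, rfl⟩
  haveI hAc : IsMulCommutative ↥A := hA ▸ Subgroup.isMulCommutative_closure hWcomm
  have hAe : ∀ a ∈ A, a * a = 1 := by
    intro a ha
    rw [hA] at ha
    induction ha using Subgroup.closure_induction with
    | mem w hw =>
      rw [hW] at hw
      obtain ⟨c, rfl⟩ := isConj_iff.1 hw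
      rw [show c * z * c⁻¹ * (c * z * c⁻¹) = c * (z * z) * c⁻¹ by group, hz2]; group
    | one => exact one_mul 1
    | mul p q hp hq ihp ihq =>
      have h := congrArg Subtype.val (hAc.is_comm.comm (⟨p, hA ▸ hp⟩ : ↥A) ⟨q, hA ▸ hq⟩)
      calc p * q * (p * q) = p * (q * p) * q := by group
        _ = p * (p * q) * q := by rw [show q * p = p * q from h.symm]
        _ = (p * p) * (q * q) := by group
        _ = 1 := by rw [ihp, ihq, one_mul]
    | inv p _ ih => rw [← mul_inv_rev, ih, inv_one]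
  have hzA : z ∈ A := hA ▸ Subgroup.subset_closure (hW ▸ IsConj.refl z)
  have hAn : A.Normal := by
    refine ⟨fun a ha g => ?_⟩
    rw [hA] at ha ⊢
    induction ha using Subgroup.closure_induction with
    | mem w hw =>
      refine Subgroup.subset_closure ?_
      rw [hW] at hw ⊢
      exact IsConj.trans hw (isConj_iff.2 ⟨g, rfl⟩)
    | one => simp
    | mul p q _ _ ihp ihq => simpa [mul_assoc] using mul_mem ihp ihq
    | inv p _ ih => simpa [mul_assoc] using inv_mem ih
  refine ⟨A, hAn, ⟨hAc, fun a ha => by rw [pow_two]; exact hAe a ha⟩, ?_⟩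
  have hcomm : ∀ a ∈ A, ∀ b ∈ A, a * b = b * a := fun a ha b hb =>
    congrArg Subtype.val (hAc.is_comm.comm (⟨a, ha⟩ : ↥A) ⟨b, hb⟩)
  have hle : Nat.card ↥A ≤ 4 := by
    by_cases hxA : x ∈ A
    · rw [← hC4]
      exact Subgroup.card_le_of_le fun a ha => mem_cz.2 (hcomm a ha x hxA)
    · have hfix : ∀ a ∈ A, a ∈ cz x → a = 1 ∨ a = z := fun a ha hax => by
        rcases hel a hax with h | h | h | h
        · exact Or.inl h
        · exact absurd (h ▸ ha) hxA
        · exact Or.inr h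
        · refine absurd ?_ hxA
          rw [show x = a * z by rw [h, mul_assoc, hz2, mul_one]]
          exact mul_mem ha hzA
      exact card_le_four_of_action hx2 hAn hcomm hAe hfix
  obtain ⟨k, hk⟩ := IsPGroup.iff_card.1 (show IsPGroup 2 ↥A from fun a => ⟨1, Subtype.ext (by
    show (a : G) ^ 2 ^ 1 = 1
    rw [pow_one, pow_two]; exact hAe a a.2)⟩)
  have h1 : 1 < Nat.card ↥A := (Subgroup.one_lt_card_iff_ne_bot _).2 fun h => hz1 (by
    rwa [h, Subgroup.mem_bot] at hzA)
  rw [hk] at hle h1 ⊢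
  rcases k with _ | _ | _ | k
  · simp at h1
  · left; rfl
  · right; rfl
  · have : 2 ^ 3 ≤ 2 ^ (k + 1 + 1 + 1) := Nat.pow_le_pow_right two_pos (by omega)
    omega

/-- A self-centralising Sylow four group: no fusion or `A₄`, `A₅`. -/
theorem four_sylow_cases {x : G} (hx : orderOf x = 2) (hC4 : Nat.card ↥(cz x) = 4)
    (hCe : ∀ c ∈ cz x, c * c = 1) {S : Sylow 2 G} (hS : cz x = (S : Subgroup G)) :
    Cfsg.HasNormalPComplement 2 G ∨ (Structured G ∧ (Nat.card G = 12 ∨ Nat.card G = 60) ∧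
      Nat.card ↥(Subgroup.normalizer ((cz x : Subgroup G) : Set G)) = 12) := by
  classical
  haveI : Fact (Nat.Prime 2) := ⟨Nat.prime_two⟩
  have hx1 : x ≠ 1 := ne_one_of_orderOf hx
  have hx2 : x * x = 1 := mul_self_of_orderOf hx
  have hxV : x ∈ cz x := mem_cz.2 rfl
  by_cases hN : ∀ m ∈ Subgroup.normalizer ((cz x : Subgroup G) : Set G), ∀ c ∈ cz x, m * c = c * m
  · left
    refine CfsgLib.Transfer.frobenius_normal_complement
      (CfsgLib.Transfer.locallyTrivial_of_sylow S fun Q hQ n hn _ => ?_)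
    refine Subgroup.mem_centralizer_iff.2 fun q hq => ?_
    rcases eq_or_ne q 1 with rfl | hq1
    · simp
    by_cases hQV : Q = cz x
    · exact (hN n (hQV ▸ hn) q (hQV ▸ hq)).symm
    · have hQc : Nat.card ↥Q ≤ 2 := by
        have hd : Nat.card ↥Q ∣ 2 ^ 2 := by
          rw [show 2 ^ 2 = 4 from rfl, ← hC4]
          exact Subgroup.card_dvd_of_le (hS ▸ hQ)
        obtain ⟨j, hj, hjQ⟩ := (Nat.dvd_prime_pow Nat.prime_two).1 hd
        have : Nat.card ↥Q ≠ 4 := fun h => hQV (Subgroup.eq_of_le_of_card_ge (hS ▸ hQ) (by rw [h, hC4]))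
        interval_cases j <;> omega
      by_contra hne
      haveI := Fintype.ofFinite ↥Q
      have : 3 ≤ Nat.card ↥Q := by
        rw [Nat.card_eq_fintype_card]
        have hq' : n * q * n⁻¹ ∈ Q := (Subgroup.mem_normalizer_iff.1 hn q).1 hq
        have h3 : ({⟨1, one_mem Q⟩, ⟨q, hq⟩, ⟨n * q * n⁻¹, hq'⟩} : Finset ↥Q).card = 3 := by
          have e1 : q ≠ n * q * n⁻¹ := fun h => hne (mul_inv_eq_iff_eq_mul.1 h.symm).symm
          have e2 : (1 : G) ≠ n * q * n⁻¹ := fun h => hq1 (conj_eq_one_iff.1 h.symm)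
          rw [Finset.card_insert_of_notMem, Finset.card_insert_of_notMem, Finset.card_singleton]
          · simp [e1]
          · simp [Ne.symm hq1, e2]
        rw [← h3]
        exact Finset.card_le_univ _
      omega
  right
  push Not at hN
  obtain ⟨m, hm, c, hc, hmc⟩ := hN
  have hmV : ∀ w ∈ cz x, m * w * m⁻¹ ∈ cz x := fun w hw => (Subgroup.mem_normalizer_iff.1 hm w).1 hw
  have habV : ∀ a ∈ cz x, ∀ b ∈ cz x, a * b = b * a := fun a ha b hb => by
    have h := hCe _ (mul_mem ha hb)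
    calc a * b = a * (a * b * (a * b)) * b := by rw [h, mul_one]
      _ = (a * a) * (b * a) * (b * b) := by group
      _ = b * a := by rw [hCe a ha, hCe b hb, one_mul, mul_one]
  -- the three involutions are conjugate under the normaliser
  obtain ⟨d, hd, hmd⟩ : ∃ d ∈ Subgroup.normalizer ((cz x : Subgroup G) : Set G), d * x * d⁻¹ ≠ x := by
    by_contra hcon
    push Not at hcon
    have hmx : m ∈ cz x := mem_cz.2 (mul_inv_eq_iff_eq_mul.1 (hcon m hm))
    exact hmc (habV m hmx c hc)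
  obtain ⟨u, hu⟩ : ∃ u, u = d * x * d⁻¹ := ⟨_, rfl⟩
  have hdV : ∀ w ∈ cz x, d * w * d⁻¹ ∈ cz x := fun w hw => (Subgroup.mem_normalizer_iff.1 hd w).1 hw
  have huV : u ∈ cz x := hu ▸ hdV x hxV
  have hu1 : u ≠ 1 := hu ▸ fun h => hx1 (conj_eq_one_iff.1 h)
  have hxu : x ≠ u := hu ▸ Ne.symm hmd
  have hel : ∀ c ∈ cz x, c = 1 ∨ c = x ∨ c = u ∨ c = x * u := fun c hc =>
    four_elements hC4 hxV huV hx1 hu1 hxu hx2 hc
  have hu2 : d * u * d⁻¹ = x * u := by
    rcases hel _ (hdV u huV) with h | h | h | h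
    · exact absurd (conj_eq_one_iff.1 h) hu1
    · exfalso
      have hdd : d * d ∈ cz x := mem_cz.2 (mul_inv_eq_iff_eq_mul.1 (by
        rw [show d * d * x * (d * d)⁻¹ = d * (d * x * d⁻¹) * d⁻¹ by group, ← hu, h]))
      have hd4 : d ^ 4 = 1 := by rw [show 4 = 2 + 2 from rfl, pow_add, pow_two]; exact hCe _ hdd
      obtain ⟨j, hj, hjo⟩ := (Nat.dvd_prime_pow Nat.prime_two).1
        (show orderOf d ∣ 2 ^ 2 from orderOf_dvd_of_pow_eq_one hd4)
      have hp : IsPGroup 2 ↥(Subgroup.zpowers d) := IsPGroup.of_card (n := j) (by rw [Nat.card_zpowers, hjo])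
      have hsup : IsPGroup 2 ↥(cz x ⊔ Subgroup.zpowers d : Subgroup G) :=
        (IsPGroup.of_card (n := 2) hC4).to_sup_of_normal_left' hp (Subgroup.zpowers_le.2 hd)
      have hle : cz x ⊔ Subgroup.zpowers d = cz x := by
        rw [hS] at hsup ⊢
        exact S.is_maximal' hsup le_sup_left
      have hdx : d ∈ cz x := hle ▸ Subgroup.mem_sup_right (Subgroup.mem_zpowers d)
      exact hmd (by rw [mem_cz.1 hdx, mul_inv_cancel_right])
    · exact absurd (mul_left_cancel (mul_right_cancel (h.trans hu))).symm hxu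
    · exact h
  have hcl : ∀ c ∈ cz x, c ≠ 1 → IsConj x c := by
    intro c hc hc1
    rcases hel c hc with h | h | h | h
    · exact absurd h hc1
    · rw [h]
    · exact isConj_iff.2 ⟨d, by rw [h, hu]⟩
    · exact isConj_iff.2 ⟨d * d, by rw [h, ← hu2, hu]; group⟩
  have D : Hyp x u (Subgroup.zpowers x) := by
    have hKmem : ∀ y ∈ Subgroup.zpowers x, y = 1 ∨ y = x := by
      rintro _ ⟨j, rfl⟩
      rcases Int.even_or_odd' j with ⟨a, rfl | rfl⟩
      · left; simp only [zpow_mul, zpow_two, hx2, one_zpow]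
      · right; simp only [zpow_add, zpow_mul, zpow_two, hx2, one_zpow, one_mul, zpow_one]
    have huK : u ∉ Subgroup.zpowers x := fun h => by
      rcases hKmem u h with h' | h'
      · exact hu1 h'
      · exact hxu h'.symm
    have hsx : u * x = x * u := mem_cz.1 huV
    refine ⟨hx, ?_, Subgroup.zpowers_le.2 hxV, Subgroup.mem_zpowers x, orderOf_eq_two (hCe u huV) hu1, huV, huK,
      ?_, ?_, ?_, ?_, ?_⟩
    · rintro _ ⟨i, rfl⟩ _ ⟨j, rfl⟩
      exact (Commute.zpow_zpow_self x i j).eq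
    · refine le_antisymm (sup_le (Subgroup.zpowers_le.2 hxV) (Subgroup.zpowers_le.2 huV)) fun c hc => ?_
      rcases hel c hc with h | h | h | h <;> rw [h]
      · exact one_mem _
      · exact Subgroup.mem_sup_left (Subgroup.mem_zpowers x)
      · exact Subgroup.mem_sup_right (Subgroup.mem_zpowers u)
      · exact mul_mem (Subgroup.mem_sup_left (Subgroup.mem_zpowers x)) (Subgroup.mem_sup_right (Subgroup.mem_zpowers u))
    · exact inf_eq_left.2 (Subgroup.zpowers_le.2 (mem_cz.2 hsx.symm))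
    · intro y hy
      rcases hKmem y hy with h | h <;> rw [h]
      · simp
      · rw [hsx, mul_inv_cancel_right, inv_eq_of_mul_eq_one_right hx2]
    · intro g hg
      rw [Subgroup.eq_bot_iff_forall]
      intro y hy
      obtain ⟨hyK, w, hwK, hwy⟩ := Subgroup.mem_inf.1 hy
      by_contra hy1
      have hyx := (hKmem y hyK).resolve_left hy1
      have hwy' : g * w * g⁻¹ = y := hwy
      rcases hKmem w hwK with h | h
      · exact hy1 (by rw [← hwy', h]; simp)
      · rw [h, hyx] at hwy'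
        exact hg (mem_cz.2 (mul_inv_eq_iff_eq_mul.1 hwy'))
    · have hall : ∀ a : G, orderOf a = 2 → IsConj x a := by
        intro a ha
        obtain ⟨T, hT⟩ := (IsPGroup.of_card (n := 1) (by rw [Nat.card_zpowers, ha, pow_one]) :
          IsPGroup 2 ↥(Subgroup.zpowers a)).exists_le_sylow
        obtain ⟨g, hg⟩ := MulAction.exists_smul_eq G T S
        have h : g * a * g⁻¹ ∈ cz x := by
          rw [hS, ← hg]
          exact ⟨a, hT (Subgroup.mem_zpowers a), rfl⟩
        exact (hcl _ h fun e => ne_one_of_orderOf ha (conj_eq_one_iff.1 e)).trans (isConj_iff.2 ⟨g⁻¹, by group⟩)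
      exact fun a b ha hb => (hall a ha).symm.trans (hall b hb)
  refine ⟨D.structured, ?_, ?_⟩
  · have hK : Nat.card ↥(Subgroup.zpowers x) = 2 := by rw [Nat.card_zpowers, hx]
    rcases D.order_cases with h | h <;> rw [hK] at h
    · exact Or.inr h
    · exact Or.inl h
  · obtain ⟨N, hN'⟩ : ∃ N : Subgroup G, N = Subgroup.normalizer ((cz x : Subgroup G) : Set G) := ⟨_, rfl⟩
    rw [← hN']
    have hxN : x ∈ N := hN' ▸ Subgroup.le_normalizer hxV
    have hle : cz x ≤ N := hN' ▸ Subgroup.le_normalizer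
    have h1 : Nat.card ↥(cz (⟨x, hxN⟩ : ↥N)) = 4 := by
      rw [← hC4]
      exact Nat.card_congr
        { toFun := fun v => ⟨v.1.1, mem_cz.2 (congrArg Subtype.val (mem_cz.1 v.2))⟩
          invFun := fun v => ⟨⟨v.1, hle v.2⟩, mem_cz.2 (Subtype.ext (mem_cz.1 v.2))⟩
          left_inv := fun v => rfl
          right_inv := fun v => rfl }
    have h2 : Nat.card {w : ↥N // IsConj (⟨x, hxN⟩ : ↥N) w} = 3 := by
      have hdN : d ∈ N := hN' ▸ hd
      have hb : Function.Bijective (fun i : Fin 3 =>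
          (⟨(⟨d, hdN⟩ : ↥N) ^ (i : ℕ) * ⟨x, hxN⟩ * ((⟨d, hdN⟩ : ↥N) ^ (i : ℕ))⁻¹,
            isConj_iff.2 ⟨_, rfl⟩⟩ : {w : ↥N // IsConj (⟨x, hxN⟩ : ↥N) w})) := by
        have e : ∀ i : Fin 3, d ^ (i : ℕ) * x * (d ^ (i : ℕ))⁻¹ = ![x, u, x * u] i := by
          intro i; fin_cases i
          · simp
          · simp [hu]
          · show d ^ 2 * x * (d ^ 2)⁻¹ = x * u
            rw [← hu2, hu, pow_two]
            group
        refine ⟨fun i j h => ?_, fun w => ?_⟩
        · have h' : ![x, u, x * u] i = ![x, u, x * u] j := by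
            rw [← e, ← e]; simpa using congrArg (fun v => ((v : ↥N) : G)) (congrArg Subtype.val h)
          fin_cases i <;> fin_cases j <;> simp_all
        · obtain ⟨g, hg⟩ := isConj_iff.1 w.2
          have hwV : ((w : ↥N) : G) ∈ cz x := by
            rw [← hg]
            exact (Subgroup.mem_normalizer_iff.1 (hN' ▸ g.2) x).1 hxV
          have hw1 : ((w : ↥N) : G) ≠ 1 := by
            rw [← hg]; exact fun h => hx1 (conj_eq_one_iff.1 h)
          obtain ⟨i, hi⟩ : ∃ i : Fin 3, ![x, u, x * u] i = ((w : ↥N) : G) := by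
            rcases hel _ hwV with h | h | h | h
            · exact absurd h hw1
            · exact ⟨0, h.symm⟩
            · exact ⟨1, h.symm⟩
            · exact ⟨2, h.symm⟩
          refine ⟨i, Subtype.ext (Subtype.ext ?_)⟩
          rw [← hi, ← e]
          simp
      rw [← Nat.card_congr (Equiv.ofBijective _ hb), Nat.card_fin]
    rw [← Subgroup.card_mul_index (cz (⟨x, hxN⟩ : ↥N)), ← CharBasics.card_conjClass, h1, h2]

end CfsgLib.BSW
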