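import Mathlib
import Cfsg.Agent.BSW.Main
import Cfsg.Agent.Transfer.SmallSylow

/-!
Simple groups of order 168 are structured.
-/

set_option autoImplicit false

namespace CfsgLib.BSW

universe u

variable {G : Type u} [Group G] [Finite G]

theorem sylow_card_eq {p : ℕ} [Fact p.Prime] (hG : Nat.card G = 168) (hp : p = 7 ∨ p = 3) (P : Sylow p G) :
    Nat.card ↥(P : Subgroup G) = p := by
  have hd : p ∣ Nat.card G := by rcases hp with rfl | rfl <;> norm_num [hG]
  obtain ⟨k, hk⟩ := IsPGroup.iff_card.1 P.isPGroup'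
  have h1 := Subgroup.card_subgroup_dvd_card (P : Subgroup G)
  have h2 : p ∣ p ^ k := hk ▸ P.dvd_card_of_dvd_card hd
  rw [hk, hG] at h1
  rw [hk]
  rcases k with _ | _ | k
  · rcases hp with rfl | rfl <;> norm_num at h2
  · exact pow_one p
  · exfalso
    have h3 : p ^ 2 ∣ 168 := (pow_dvd_pow p (by omega)).trans h1
    rcases hp with rfl | rfl <;> norm_num at h3

/-- In a simple group of order 168 a Sylow subgroup of prime order is not central in its normaliser. -/
theorem not_central_normalizer [IsSimpleGroup G] (hG : Nat.card G = 168) {p : ℕ} [Fact p.Prime] (hp : p = 7 ∨ p = 3)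
    (P : Sylow p G) :
    ¬ Subgroup.normalizer ((P : Subgroup G) : Set G) ≤ Subgroup.centralizer ((P : Subgroup G) : Set G) := by
  intro hle
  have hP := sylow_card_eq hG hp P
  have h := MonoidHom.ker_transferSylow_isComplement' P hle
  rcases (inferInstance : (MonoidHom.transferSylow P hle).ker.Normal).eq_bot_or_eq_top with h0 | h0 <;>
    · have := h.card_mul
      rw [h0, hP, hG] at this
      rcases hp with rfl | rfl <;> simp [Subgroup.card_top, hG] at this

theorem structured_of_card_168 [IsSimpleGroup G] (hG : Nat.card G = 168) : Structured G := by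
  classical
  haveI : Fact (Nat.Prime 7) := ⟨by norm_num⟩
  haveI : Fact (Nat.Prime 3) := ⟨by norm_num⟩
  obtain ⟨P⟩ : Nonempty (Sylow 7 G) := inferInstance
  have hP := sylow_card_eq hG (Or.inl rfl) P
  have hn7 : Nat.card (Sylow 7 G) = 8 := by
    have h1 : Nat.card (Sylow 7 G) ∣ 24 := by
      have h := P.card_dvd_index
      have hi := Subgroup.card_mul_index (P : Subgroup G)
      rw [hP, hG] at hi
      rwa [show (P : Subgroup G).index = 24 by omega] at h
    have h2 : Nat.card (Sylow 7 G) ≡ 1 [MOD 7] := card_sylow_modEq_one 7 G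
    have h3 : Nat.card (Sylow 7 G) ≤ 24 := Nat.le_of_dvd (by norm_num) h1
    have h4 : Nat.card (Sylow 7 G) ≠ 1 := fun h => by
      have hn : (P : Subgroup G).Normal := by
        refine Subgroup.normalizer_eq_top_iff.1 (Subgroup.index_eq_one.1 ?_)
        exact P.card_eq_index_normalizer.symm.trans h
      rcases hn.eq_bot_or_eq_top with h0 | h0 <;> rw [h0] at hP <;> simp [hG] at hP
    unfold Nat.ModEq at h2
    obtain ⟨c, hc⟩ := h1
    generalize Nat.card (Sylow 7 G) = n at *
    interval_cases n <;> omega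
  obtain ⟨N, hN⟩ : ∃ N : Subgroup G, N = Subgroup.normalizer ((P : Subgroup G) : Set G) := ⟨_, rfl⟩
  have hNi : N.index = 8 := hN ▸ P.card_eq_index_normalizer.symm.trans hn7
  have hNc : Nat.card ↥N = 21 := by
    have := Subgroup.card_mul_index N; rw [hNi, hG] at this; omega
  have hPN : (P : Subgroup G) ≤ N := hN ▸ Subgroup.le_normalizer
  have hPab : ∀ x ∈ (P : Subgroup G), ∀ y ∈ (P : Subgroup G), x * y = y * x := fun x hx y hy => by
    haveI := isCyclic_of_prime_card hP
    exact congrArg Subtype.val (IsCyclic.commGroup.mul_comm (⟨x, hx⟩ : ↥(P : Subgroup G)) ⟨y, hy⟩)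
  have hzp : ∀ x ∈ (P : Subgroup G), x ≠ 1 → Subgroup.zpowers x = (P : Subgroup G) := fun x hx hx1 => by
    refine Subgroup.eq_of_le_of_card_ge (Subgroup.zpowers_le.2 hx) ?_
    rw [hP, Nat.card_zpowers, orderOf_eq_prime (p := 7) ?_ hx1]
    rw [← orderOf_dvd_iff_pow_eq_one, ← hP]
    exact Subgroup.orderOf_dvd_natCard _ hx
  have hCP : ∀ x ∈ (P : Subgroup G), x ≠ 1 → Subgroup.centralizer ({x} : Set G) = (P : Subgroup G) := by
    intro x hx hx1
    obtain ⟨C, hC⟩ : ∃ C : Subgroup G, C = Subgroup.centralizer ({x} : Set G) := ⟨_, rfl⟩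
    rw [← hC]
    have hCN : C ≤ N := fun g hg => by
      rw [hC] at hg
      rw [hN, ← hzp x hx hx1]
      refine Subgroup.mem_normalizer_iff.2 fun y => ?_
      have key : ∀ j : ℤ, g * x ^ j * g⁻¹ = x ^ j := fun j =>
        mul_inv_eq_iff_eq_mul.2 (Commute.zpow_right (Subgroup.mem_centralizer_singleton_iff.1 hg : Commute g x) j).eq
      constructor
      · rintro ⟨j, rfl⟩
        exact ⟨j, (key j).symm⟩
      · rintro ⟨j, hj⟩
        refine ⟨j, mul_left_cancel (a := g) (mul_right_cancel (b := g⁻¹) ?_)⟩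
        exact (key j).trans hj
    have hPC : (P : Subgroup G) ≤ C := fun g hg => hC ▸ Subgroup.mem_centralizer_singleton_iff.2 (hPab g hg x hx)
    by_contra hne
    have hCe : C = N := by
      refine Subgroup.eq_of_le_of_card_ge hCN ?_
      have h1 := Subgroup.card_dvd_of_le hCN
      have h2 := Subgroup.card_dvd_of_le hPC
      rw [hP] at h2; rw [hNc] at h1
      obtain ⟨c, hc⟩ := h2
      have h3 : Nat.card ↥C ≠ 7 := fun h => hne (Subgroup.eq_of_le_of_card_ge hPC (by rw [h, hP])).symm
      have := Nat.card_pos (α := ↥C)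
      have := Nat.le_of_dvd (by norm_num) h1
      rw [hNc]
      have hc3 : c ∣ 3 := by
        rw [hc] at h1
        exact Nat.dvd_of_mul_dvd_mul_left (by norm_num : 0 < 7) h1
      rcases (Nat.dvd_prime (by norm_num : Nat.Prime 3)).1 hc3 with h | h <;> omega
    refine not_central_normalizer hG (Or.inl rfl) P ?_
    intro g hg
    rw [← hN, ← hCe, hC] at hg
    refine Subgroup.mem_centralizer_iff.2 fun y hy => ?_
    obtain ⟨j, rfl⟩ : y ∈ Subgroup.zpowers x := by rw [hzp x hx hx1]; exact hy
    exact (Commute.zpow_right (show Commute g x from Subgroup.mem_centralizer_singleton_iff.1 hg) j).eq.symm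
  -- the element of order 3
  obtain ⟨d, hd⟩ := exists_prime_orderOf_dvd_card' (G := ↥N) 3 (by rw [hNc]; norm_num)
  obtain ⟨D, hD⟩ : ∃ D : Subgroup G, D = Subgroup.zpowers (d : G) := ⟨_, rfl⟩
  have hDc : Nat.card ↥D = 3 := by rw [hD, Nat.card_zpowers, Subgroup.orderOf_coe, hd]
  have hDN : D ≤ N := hD ▸ Subgroup.zpowers_le.2 d.2
  obtain ⟨S, hS⟩ := (IsPGroup.of_card (n := 1) (hDc.trans (pow_one 3).symm) : IsPGroup 3 ↥D).exists_le_sylow
  have hDS : D = (S : Subgroup G) :=
    Subgroup.eq_of_le_of_card_ge hS (by rw [hDc, sylow_card_eq hG (Or.inr rfl) S])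
  have hinf : (P : Subgroup G) ⊓ D = ⊥ := Subgroup.inf_eq_bot_of_coprime (by rw [hP, hDc]; norm_num)
  have hNsup : N = (P : Subgroup G) ⊔ D := by
    refine (Subgroup.eq_of_le_of_card_ge (sup_le hPN hDN) ?_).symm
    rw [hNc, show 21 = 7 * 3 from rfl]
    refine Nat.le_of_dvd Nat.card_pos ((show Nat.Coprime 7 3 by norm_num).mul_dvd_of_dvd_of_dvd ?_ ?_)
    · have := Subgroup.card_dvd_of_le (le_sup_left : (P : Subgroup G) ≤ (P : Subgroup G) ⊔ D)
      rwa [hP] at this
    · have := Subgroup.card_dvd_of_le (le_sup_right : D ≤ (P : Subgroup G) ⊔ D)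
      rwa [hDc] at this
  have hDab : ∀ x ∈ D, ∀ y ∈ D, x * y = y * x := by
    rw [hD]
    rintro _ ⟨i, rfl⟩ _ ⟨j, rfl⟩
    exact (Commute.zpow_zpow_self (d : G) i j).eq
  -- the normaliser of `D`
  obtain ⟨M, hM⟩ : ∃ M : Subgroup G, M = Subgroup.normalizer (D : Set G) := ⟨_, rfl⟩
  have hn3 : M.index = 28 := by
    have h1 : Nat.card (Sylow 3 G) = M.index := by rw [hM, hDS]; exact S.card_eq_index_normalizer
    have h2 : Nat.card (Sylow 3 G) ∣ 56 := by
      have h := S.card_dvd_index
      have hi := Subgroup.card_mul_index (S : Subgroup G)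
      rw [sylow_card_eq hG (Or.inr rfl) S, hG] at hi
      rwa [show (S : Subgroup G).index = 56 by omega] at h
    have h3 : Nat.card (Sylow 3 G) ≡ 1 [MOD 3] := card_sylow_modEq_one 3 G
    rw [h1] at h2 h3
    have h4 : M.index ≤ 56 := Nat.le_of_dvd (by norm_num) h2
    have h5 : M.index ≠ 1 := fun h => by
      have hn : D.Normal := Subgroup.normalizer_eq_top_iff.1 (hM ▸ Subgroup.index_eq_one.1 h)
      rcases hn.eq_bot_or_eq_top with h0 | h0 <;> rw [h0] at hDc <;> simp [hG] at hDc
    -- 4 and 7 are excluded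
    have hsmall : ∀ H : Subgroup G, H.index ≤ 6 → 1 < H.index → False := by
      intro H hH hH1
      haveI : H.FiniteIndex := ⟨by omega⟩
      rcases (inferInstance : H.normalCore.Normal).eq_bot_or_eq_top with h0 | h0
      · have hinj : Function.Injective (MulAction.toPermHom G (G ⧸ H)) := by
          rw [← MonoidHom.ker_eq_bot_iff, ← Subgroup.normalCore_eq_ker, h0]
        have h6 := Nat.card_le_card_of_injective _ hinj
        have h7 : 7 ∣ Nat.card (Equiv.Perm (G ⧸ H)) := by
          refine dvd_trans ?_ (Subgroup.card_dvd_of_injective _ hinj)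
          rw [hG]; norm_num
        rw [Nat.card_perm, ← Subgroup.index_eq_card] at h7
        have := (Nat.Prime.dvd_factorial (by norm_num : Nat.Prime 7)).1 h7
        omega
      · have h8 : H = ⊤ := top_le_iff.1 (h0.symm.le.trans H.normalCore_le)
        rw [h8, Subgroup.index_top] at hH1; omega
    have h7 : M.index ≠ 7 := by
      intro h
      -- then every Sylow 3-subgroup normalises `P`
      have hMc : Nat.card ↥M = 24 := by have := Subgroup.card_mul_index M; rw [h, hG] at this; omega
      have key : ∀ g : G, g ∈ N → g * (d : G) * g⁻¹ ∈ N := fun g hg => mul_mem (mul_mem hg d.2) (inv_mem hg)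
      have hNM : Nat.card ↥(N ⊓ M : Subgroup G) = 3 := by
        have h8 := Subgroup.card_dvd_of_le (inf_le_left : N ⊓ M ≤ N)
        have h9 := Subgroup.card_dvd_of_le (inf_le_right : N ⊓ M ≤ M)
        rw [hNc] at h8; rw [hMc] at h9
        have h10 : Nat.card ↥(N ⊓ M : Subgroup G) ∣ 3 := Nat.dvd_gcd h8 h9
        have h11 : D ≤ N ⊓ M := le_inf hDN (hM ▸ Subgroup.le_normalizer)
        have h12 := Subgroup.card_le_of_le h11
        rw [hDc] at h12
        have := Nat.le_of_dvd (by norm_num) h10
        omega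
      -- the map `N / (N ⊓ M) → G / M` is a bijection, so all conjugates of `D` lie in `N`
      have hb : Function.Bijective (fun n : ↥N ⧸ M.subgroupOf N => Quotient.liftOn' n
          (fun n => ((n : G) : G ⧸ M)) (fun a b hab => by
            refine QuotientGroup.eq.2 ?_
            exact Subgroup.mem_subgroupOf.1 (QuotientGroup.leftRel_apply.1 hab))) := by
        refine (Nat.bijective_iff_injective_and_card _).2 ⟨?_, ?_⟩
        · intro a b hab
          induction a using QuotientGroup.induction_on with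
          | H a => induction b using QuotientGroup.induction_on with
            | H b => exact QuotientGroup.eq.2 (Subgroup.mem_subgroupOf.2 (QuotientGroup.eq.1 hab :))
        · rw [← Subgroup.index_eq_card, ← Subgroup.index_eq_card, h]
          have := Subgroup.card_mul_index (M.subgroupOf N)
          have hc : Nat.card ↥(M.subgroupOf N) = 3 := by
            rw [← Subgroup.inf_subgroupOf_left, Nat.card_congr (Subgroup.subgroupOfEquivOfLe inf_le_left).toEquiv,
              hNM]
          rw [hc, hNc] at this; omega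
      let A : Subgroup G := Subgroup.normalClosure {(d : G)}
      have hA : A ≤ N := by
        refine (Subgroup.closure_le _).2 ?_
        intro v hv
        obtain ⟨v₀, rfl, hv⟩ := Group.mem_conjugatesOfSet_iff.1 hv |>.imp fun _ h => h
        obtain ⟨g, rfl⟩ := isConj_iff.1 hv
        obtain ⟨n, hn⟩ := hb.2 (g : G ⧸ M)
        induction n using QuotientGroup.induction_on with
        | H n =>
          have hgn : (n : G)⁻¹ * g ∈ M := QuotientGroup.eq.1 hn
          rw [hM] at hgn
          have h13 := (Subgroup.mem_normalizer_iff.1 hgn (d : G)).1 (hD ▸ Subgroup.mem_zpowers _)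
          have h14 := mul_mem (mul_mem n.2 (hDN h13)) (inv_mem n.2)
          rwa [show (n : G) * ((n : G)⁻¹ * g * d * ((n : G)⁻¹ * g)⁻¹) * (n : G)⁻¹ = g * d * g⁻¹ by group] at h14
      rcases (Subgroup.normalClosure_normal : A.Normal).eq_bot_or_eq_top with (h0 : A = ⊥) | (h0 : A = ⊤)
      · have : (d : G) ∈ A := Subgroup.subset_normalClosure rfl
        rw [h0, Subgroup.mem_bot] at this
        rw [← Subgroup.orderOf_coe, this, orderOf_one] at hd; omega
      · rw [h0, top_le_iff] at hA
        rw [hA, Subgroup.index_top] at hNi; omega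
    obtain ⟨c, hc⟩ := h2
    unfold Nat.ModEq at h3
    have h4' : M.index ≠ 4 := fun h => hsmall M (by omega) (by omega)
    generalize M.index = n at *
    interval_cases n <;> omega
  have hMc : Nat.card ↥M = 6 := by have := Subgroup.card_mul_index M; rw [hn3, hG] at this; omega
  have hnc := not_central_normalizer hG (Or.inr rfl) S
  rw [← hDS, ← hM] at hnc
  obtain ⟨m, hmM, hmD⟩ := SetLike.not_le_iff_exists.1 hnc
  have hDM : D ≤ M := hM ▸ Subgroup.le_normalizer
  haveI : Fact (Nat.Prime 2) := ⟨Nat.prime_two⟩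
  obtain ⟨u, hu⟩ := exists_prime_orderOf_dvd_card' (G := ↥M) 2 (by rw [hMc]; norm_num)
  have huo : orderOf (u : G) = 2 := by rw [Subgroup.orderOf_coe]; exact hu
  have huD : (u : G) ∉ D := fun h => by
    have := Subgroup.orderOf_dvd_natCard _ h
    rw [huo, hDc] at this; norm_num at this
  have hsupM : M = D ⊔ Subgroup.zpowers (u : G) := by
    refine (Subgroup.eq_of_le_of_card_ge (sup_le hDM (Subgroup.zpowers_le.2 u.2)) ?_).symm
    rw [hMc, show 6 = 3 * 2 from rfl]
    refine Nat.le_of_dvd Nat.card_pos ((show Nat.Coprime 3 2 by norm_num).mul_dvd_of_dvd_of_dvd ?_ ?_)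
    · exact hDc ▸ Subgroup.card_dvd_of_le le_sup_left
    · rw [← huo, ← Nat.card_zpowers]; exact Subgroup.card_dvd_of_le le_sup_right
  have hdD : (d : G) ∈ D := hD ▸ Subgroup.mem_zpowers _
  have hud : (u : G) * d * (u : G)⁻¹ = (d : G)⁻¹ := by
    have huM : (u : G) ∈ Subgroup.normalizer (D : Set G) := by rw [← hM]; exact u.2
    have h := (Subgroup.mem_normalizer_iff.1 huM (d : G)).1 hdD
    have hd3 : (d : G) ^ 3 = 1 := by rw [← hd, ← Subgroup.orderOf_coe, pow_orderOf_eq_one]
    have hne : (u : G) * d * (u : G)⁻¹ ≠ d := by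
      intro he
      refine hmD (Subgroup.mem_centralizer_iff.2 fun y hy => ?_)
      have hle : M ≤ Subgroup.centralizer ({(d : G)} : Set G) := by
        rw [hsupM]
        refine sup_le (fun a ha => Subgroup.mem_centralizer_singleton_iff.2 (hDab a ha _ hdD)) ?_
        exact Subgroup.zpowers_le.2 (Subgroup.mem_centralizer_singleton_iff.2 (mul_inv_eq_iff_eq_mul.1 he))
      rw [SetLike.mem_coe, hD] at hy
      obtain ⟨j, rfl⟩ := hy
      exact (Commute.zpow_right (show Commute m (d : G) from Subgroup.mem_centralizer_singleton_iff.1 (hle hmM)) j).eq.symm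
    rw [hD] at h
    obtain ⟨j, hj⟩ := h
    have hj' : (d : G) ^ j = (u : G) * d * (u : G)⁻¹ := hj
    rcases Int.emod_nonneg j (show (3 : ℤ) ≠ 0 by norm_num) |>.eq_or_lt with h0 | h0
    · exfalso
      rw [← zpow_mod_orderOf, Subgroup.orderOf_coe, hd, Nat.cast_ofNat, ← h0, zpow_zero] at hj'
      have := conj_eq_one_iff.1 hj'.symm
      rw [← Subgroup.orderOf_coe, this, orderOf_one] at hd; omega
    · have h3 := Int.emod_lt_of_pos j (show (0 : ℤ) < 3 by norm_num)
      rw [← zpow_mod_orderOf, Subgroup.orderOf_coe, hd, Nat.cast_ofNat] at hj'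
      rcases (show j % 3 = 1 ∨ j % 3 = 2 by omega) with h1 | h1 <;> rw [h1] at hj'
      · exact absurd (hj'.symm.trans (zpow_one _)) hne
      · rw [← hj', eq_inv_iff_mul_eq_one, show (2 : ℤ) = ((2 : ℕ) : ℤ) from rfl, zpow_natCast, ← pow_succ, hd3]
  refine ⟨(P : Subgroup G), D, by rw [hG, hP], hCP, ⟨⟨fun a b => Subtype.ext (hDab a a.2 b b.2)⟩⟩,
    by rw [hP, hDc], hinf, hN ▸ hNsup, fun X hX hne => ?_⟩
  have hXD : X = D := by
    refine Subgroup.eq_of_le_of_card_ge hX ?_
    have h1 := (Nat.dvd_prime (by norm_num : Nat.Prime 3)).1 (hDc ▸ Subgroup.card_dvd_of_le hX)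
    have h2 := (Subgroup.one_lt_card_iff_ne_bot X).2 hne
    omega
  refine ⟨by rw [hXD], u, huo, huD, fun e he => ?_, hM ▸ hsupM⟩
  rw [hD] at he
  obtain ⟨j, rfl⟩ := he
  show (u : G) * (d : G) ^ j * (u : G)⁻¹ = ((d : G) ^ j)⁻¹
  rw [← conj_zpow, hud, inv_zpow]

end CfsgLib.BSW
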